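import Mathlib
import Cfsg.Prelude.Def_SporadicB
import Cfsg.Prelude.Def_FischerSpaces

/-! Basic facts on sets of 3-transpositions. -/

namespace CfsgLib.ThreeTrans

variable {G : Type*} [Group G] {D : Set G}

/-- A conjugation-closed set of 3-transpositions. -/
structure ConjClosed (D : Set G) : Prop where
  set : Cfsg.IsThreeTranspositionSet D
  conj : ∀ g : G, ∀ d ∈ D, g * d * g⁻¹ ∈ D

theorem conjClosed_of_group (h : Cfsg.IsThreeTranspositionGroup D) : ConjClosed D :=
  ⟨h.1, h.2.1⟩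

theorem conjClosed_of_class (h : Cfsg.IsThreeTranspositionClass D) : ConjClosed D := by
  obtain ⟨hs, ⟨d, hd, hDd⟩, -⟩ := h
  refine ⟨hs, fun g x hx => ?_⟩
  rw [hDd] at hx ⊢
  rw [conjugatesOf, Set.mem_ofPred_eq, isConj_iff] at hx ⊢
  obtain ⟨c, rfl⟩ := hx
  exact ⟨g * c, by group⟩

theorem group_of_class (h : Cfsg.IsThreeTranspositionClass D) :
    Cfsg.IsThreeTranspositionGroup D :=
  ⟨h.1, (conjClosed_of_class h).conj, h.2.2⟩

theorem class_conj (h : Cfsg.IsThreeTranspositionClass D) {a b : G} (ha : a ∈ D) (hb : b ∈ D) :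
    ∃ g : G, g * a * g⁻¹ = b := by
  obtain ⟨-, ⟨d, hd, hDd⟩, -⟩ := h
  rw [hDd] at ha hb
  exact isConj_iff.1 ((show IsConj d a from ha).symm.trans (show IsConj d b from hb))

variable (hD : Cfsg.IsThreeTranspositionSet D)
include hD

theorem ne_one {d : G} (hd : d ∈ D) : d ≠ 1 := fun h => by
  have := hD.1 d hd
  simp [h] at this

theorem mul_self {d : G} (hd : d ∈ D) : d * d = 1 := by
  have := pow_orderOf_eq_one d
  rwa [hD.1 d hd, pow_two] at this

theorem inv_eq {d : G} (hd : d ∈ D) : d⁻¹ = d :=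
  inv_eq_of_mul_eq_one_right (mul_self hD hd)

theorem mul_self_mul {d : G} (hd : d ∈ D) (x : G) : d * (d * x) = x := by
  rw [← mul_assoc, mul_self hD hd, one_mul]

theorem sq_eq_one_iff {d e : G} (hd : d ∈ D) (he : e ∈ D) :
    (d * e) ^ 2 = 1 ↔ Commute d e := by
  rw [pow_two, mul_eq_one_iff_eq_inv, mul_inv_rev, inv_eq hD hd, inv_eq hD he]
  rfl

theorem pow_three_of_not_commute {d e : G} (hd : d ∈ D) (he : e ∈ D) (h : ¬ Commute d e) :
    (d * e) ^ 3 = 1 :=
  (hD.2 d hd e he).resolve_left fun h2 => h ((sq_eq_one_iff hD hd he).1 h2)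

theorem braid {d e : G} (hd : d ∈ D) (he : e ∈ D) (h : ¬ Commute d e) :
    d * e * d = e * d * e := by
  have h3 := pow_three_of_not_commute hD hd he h
  have : (d * e * d) * (e * d * e) = 1 := by
    rw [← h3]; simp [pow_succ, mul_assoc]
  rw [mul_eq_one_iff_eq_inv] at this
  rw [this]
  simp [mul_inv_rev, inv_eq hD hd, inv_eq hD he, mul_assoc]

theorem orderOf_mul_of_not_commute {d e : G} (hd : d ∈ D) (he : e ∈ D) (h : ¬ Commute d e) :
    orderOf (d * e) = 3 := by
  apply orderOf_eq_prime (pow_three_of_not_commute hD hd he h)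
  intro h1
  rw [mul_eq_one_iff_eq_inv, inv_eq hD he] at h1
  exact h (h1 ▸ Commute.refl e)

theorem mul_eq_one_iff_eq' {d e : G} (he : e ∈ D) : d * e = 1 ↔ d = e := by
  rw [mul_eq_one_iff_eq_inv, inv_eq hD he]

omit hD

theorem conj_mem_left (hD : ConjClosed D) {d e : G} (hd : d ∈ D) (he : e ∈ D) :
    d * e * d ∈ D := by
  have := hD.conj d e he
  rwa [inv_eq hD.set hd] at this

theorem ConjClosed.conj' (hD : ConjClosed D) (g : G) {d : G} (hd : d ∈ D) : g⁻¹ * d * g ∈ D := by
  simpa using hD.conj g⁻¹ d hd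

theorem commute_conj_iff (g a b : G) :
    Commute (g * a * g⁻¹) (g * b * g⁻¹) ↔ Commute a b :=
  Commute.conj_iff g

theorem eq_top_of_conj_invariant (hgen : Subgroup.closure D = ⊤) {H : Subgroup G}
    (h : D ⊆ H) : H = ⊤ :=
  top_unique (hgen ▸ (Subgroup.closure_le H).2 h)

theorem mem_center_of_commute (hgen : Subgroup.closure D = ⊤) {x : G}
    (h : ∀ d ∈ D, Commute x d) : x ∈ Subgroup.center G := by
  have : Subgroup.centralizer ({x} : Set G) = ⊤ :=
    eq_top_of_conj_invariant hgen fun d hd => Subgroup.mem_centralizer_singleton_iff.2 (h d hd).eq.symm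
  rw [Subgroup.mem_center_iff]
  intro g
  exact (Subgroup.mem_centralizer_singleton_iff.1 (this ▸ Subgroup.mem_top g))

end CfsgLib.ThreeTrans
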