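import Mathlib

/-! The distributive symmetric quasigroup on four generators has at most 81 points.
The derivation below was found by saturation with the distributive law. -/

namespace CfsgLib.ThreeTrans.CmlTable

set_option maxRecDepth 8000

/-- First three coordinates of a point. -/
def base (s : Fin 81) : Fin 27 := ⟨s.val / 3, by omega⟩

/-- Reflections in the four generators on the 81 points. -/
def refl : Fin 4 → Fin 81 → Fin 81 :=
  ![![0, 2, 1, 6, 8, 7, 3, 5, 4, 18, 20, 19, 24, 26, 25, 21, 23, 22, 9, 11, 10, 15, 17, 16, 12, 14, 13, 54, 56, 55, 60, 62, 61, 57, 59, 58, 72, 74, 73, 78, 80, 79, 75, 77, 76, 63, 65, 64, 69, 71, 70, 66, 68, 67, 27, 29, 28, 33, 35, 34, 30, 32, 31, 45, 47, 46, 51, 53, 52, 48, 50, 49, 36, 38, 37, 42, 44, 43, 39, 41, 40],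
    ![54, 56, 55, 60, 62, 61, 57, 59, 58, 72, 74, 73, 79, 78, 80, 77, 76, 75, 63, 65, 64, 71, 70, 69, 67, 66, 68, 27, 29, 28, 33, 35, 34, 30, 32, 31, 45, 47, 46, 52, 51, 53, 50, 49, 48, 36, 38, 37, 44, 43, 42, 40, 39, 41, 0, 2, 1, 6, 8, 7, 3, 5, 4, 18, 20, 19, 25, 24, 26, 23, 22, 21, 9, 11, 10, 17, 16, 15, 13, 12, 14],
    ![18, 20, 19, 24, 26, 25, 21, 23, 22, 9, 11, 10, 15, 17, 16, 12, 14, 13, 0, 2, 1, 6, 8, 7, 3, 5, 4, 72, 74, 73, 80, 79, 78, 76, 75, 77, 63, 65, 64, 71, 70, 69, 67, 66, 68, 54, 56, 55, 62, 61, 60, 58, 57, 59, 45, 47, 46, 52, 51, 53, 50, 49, 48, 36, 38, 37, 43, 42, 44, 41, 40, 39, 27, 29, 28, 34, 33, 35, 32, 31, 30],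
    ![6, 8, 7, 3, 5, 4, 0, 2, 1, 24, 26, 25, 21, 23, 22, 18, 20, 19, 15, 17, 16, 12, 14, 13, 9, 11, 10, 60, 62, 61, 57, 59, 58, 54, 56, 55, 78, 80, 79, 75, 77, 76, 72, 74, 73, 69, 71, 70, 66, 68, 67, 63, 65, 64, 33, 35, 34, 30, 32, 31, 27, 29, 28, 51, 53, 52, 48, 50, 49, 45, 47, 46, 42, 44, 43, 39, 41, 40, 36, 38, 37]]

/-- The generators as points. -/
def genPt : Fin 4 → Fin 81 := ![0, 27, 9, 3]

theorem exists_table {X : Type*} (o : X → X → X) (hid : ∀ x, o x x = x)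
    (hcomm : ∀ x y, o x y = o y x) (hinv : ∀ x y, o x (o x y) = y)
    (hdist : ∀ x y z, o x (o y z) = o (o x y) (o x z)) (a b c d : X) :
    ∃ e : Fin 81 → X, (∀ k, e (genPt k) = ![a, b, c, d] k) ∧
      ∀ k s, o (![a, b, c, d] k) (e s) = e (refl k s) := by
  have r1 : ∀ {x y z : X}, o x y = z → o y x = z := fun h => (hcomm _ _).trans h
  have r2 : ∀ {x y z : X}, o x y = z → o x z = y := fun h => h ▸ hinv _ _
  have r3 : ∀ {x y z : X}, o x y = z → o z x = y := fun h => r1 (r2 h)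
  have r4 : ∀ {x y z : X}, o x y = z → o y z = x := fun h => r2 (r1 h)
  have r5 : ∀ {x y z : X}, o x y = z → o z y = x := fun h => r1 (r4 h)
  have dA : ∀ {x y z w p q r : X}, o y z = w → o x y = p → o x z = q → o p q = r → o x w = r := by
    intro x y z w p q r h1 h2 h3 h4
    rw [← h1, hdist, h2, h3, h4]
  have dB : ∀ {x y z w p q r : X}, o y z = w → o x y = p → o x z = q → o x w = r → o p q = r := by
    intro x y z w p q r h1 h2 h3 h4
    rw [← h4, ← h1, hdist, h2, h3]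
  have dC : ∀ {x y z w p q r : X}, o y z = w → o x y = p → o x w = r → o p r = q → o x z = q := by
    intro x y z w p q r h1 h2 h3 h4
    rw [← h1, hdist, h2] at h3
    rw [← h4, ← h3, hinv]
  have h0 : o a a = a := hid _
  have h1 : o b b = b := hid _
  have h2 : o c c = c := hid _
  have h3 : o d d = d := hid _
  obtain ⟨v54, h4⟩ : ∃ v, o b a = v := ⟨_, rfl⟩
  obtain ⟨v18, h5⟩ : ∃ v, o c a = v := ⟨_, rfl⟩
  obtain ⟨v6, h6⟩ : ∃ v, o d a = v := ⟨_, rfl⟩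
  obtain ⟨v72, h7⟩ : ∃ v, o c b = v := ⟨_, rfl⟩
  obtain ⟨v60, h8⟩ : ∃ v, o d b = v := ⟨_, rfl⟩
  obtain ⟨v24, h9⟩ : ∃ v, o d c = v := ⟨_, rfl⟩
  obtain ⟨v45, h10⟩ : ∃ v, o c v54 = v := ⟨_, rfl⟩
  obtain ⟨v33, h11⟩ : ∃ v, o d v54 = v := ⟨_, rfl⟩
  obtain ⟨v63, h12⟩ : ∃ v, o b v18 = v := ⟨_, rfl⟩
  obtain ⟨v15, h13⟩ : ∃ v, o d v18 = v := ⟨_, rfl⟩
  obtain ⟨v57, h14⟩ : ∃ v, o b v6 = v := ⟨_, rfl⟩
  obtain ⟨v21, h15⟩ : ∃ v, o c v6 = v := ⟨_, rfl⟩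
  obtain ⟨v36, h16⟩ : ∃ v, o a v72 = v := ⟨_, rfl⟩
  obtain ⟨v42, h17⟩ : ∃ v, o d v72 = v := ⟨_, rfl⟩
  obtain ⟨v30, h18⟩ : ∃ v, o a v60 = v := ⟨_, rfl⟩
  obtain ⟨v50, h19⟩ : ∃ v, o c v60 = v := ⟨_, rfl⟩
  obtain ⟨v12, h20⟩ : ∃ v, o a v24 = v := ⟨_, rfl⟩
  obtain ⟨v67, h21⟩ : ∃ v, o b v24 = v := ⟨_, rfl⟩
  obtain ⟨v69, h22⟩ : ∃ v, o d v45 = v := ⟨_, rfl⟩
  obtain ⟨v76, h23⟩ : ∃ v, o c v33 = v := ⟨_, rfl⟩
  obtain ⟨v51, h24⟩ : ∃ v, o d v63 = v := ⟨_, rfl⟩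
  obtain ⟨v77, h25⟩ : ∃ v, o b v15 = v := ⟨_, rfl⟩
  obtain ⟨v52, h26⟩ : ∃ v, o c v57 = v := ⟨_, rfl⟩
  obtain ⟨v71, h27⟩ : ∃ v, o b v21 = v := ⟨_, rfl⟩
  obtain ⟨v78, h28⟩ : ∃ v, o d v36 = v := ⟨_, rfl⟩
  obtain ⟨v75, h29⟩ : ∃ v, o a v42 = v := ⟨_, rfl⟩
  obtain ⟨v80, h30⟩ : ∃ v, o c v30 = v := ⟨_, rfl⟩
  obtain ⟨v70, h31⟩ : ∃ v, o a v50 = v := ⟨_, rfl⟩
  obtain ⟨v79, h32⟩ : ∃ v, o b v12 = v := ⟨_, rfl⟩
  obtain ⟨v53, h33⟩ : ∃ v, o a v67 = v := ⟨_, rfl⟩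
  obtain ⟨v48, h34⟩ : ∃ v, o a v69 = v := ⟨_, rfl⟩
  obtain ⟨v23, h35⟩ : ∃ v, o b v69 = v := ⟨_, rfl⟩
  obtain ⟨v41, h36⟩ : ∃ v, o c v69 = v := ⟨_, rfl⟩
  obtain ⟨v44, h37⟩ : ∃ v, o a v76 = v := ⟨_, rfl⟩
  obtain ⟨v16, h38⟩ : ∃ v, o b v76 = v := ⟨_, rfl⟩
  obtain ⟨v66, h39⟩ : ∃ v, o a v51 = v := ⟨_, rfl⟩
  obtain ⟨v40, h40⟩ : ∃ v, o b v51 = v := ⟨_, rfl⟩
  obtain ⟨v58, h41⟩ : ∃ v, o c v51 = v := ⟨_, rfl⟩
  obtain ⟨v43, h42⟩ : ∃ v, o a v77 = v := ⟨_, rfl⟩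
  obtain ⟨v35, h43⟩ : ∃ v, o c v77 = v := ⟨_, rfl⟩
  obtain ⟨v68, h44⟩ : ∃ v, o a v52 = v := ⟨_, rfl⟩
  obtain ⟨v39, h45⟩ : ∃ v, o b v52 = v := ⟨_, rfl⟩
  obtain ⟨v65, h46⟩ : ∃ v, o d v52 = v := ⟨_, rfl⟩
  obtain ⟨v49, h47⟩ : ∃ v, o a v71 = v := ⟨_, rfl⟩
  obtain ⟨v46, h48⟩ : ∃ v, o d v71 = v := ⟨_, rfl⟩
  obtain ⟨v13, h49⟩ : ∃ v, o b v78 = v := ⟨_, rfl⟩
  obtain ⟨v32, h50⟩ : ∃ v, o c v78 = v := ⟨_, rfl⟩
  obtain ⟨v17, h51⟩ : ∃ v, o b v75 = v := ⟨_, rfl⟩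
  obtain ⟨v34, h52⟩ : ∃ v, o c v75 = v := ⟨_, rfl⟩
  obtain ⟨v14, h53⟩ : ∃ v, o b v80 = v := ⟨_, rfl⟩
  obtain ⟨v37, h54⟩ : ∃ v, o d v80 = v := ⟨_, rfl⟩
  obtain ⟨v22, h55⟩ : ∃ v, o b v70 = v := ⟨_, rfl⟩
  obtain ⟨v47, h56⟩ : ∃ v, o d v70 = v := ⟨_, rfl⟩
  obtain ⟨v31, h57⟩ : ∃ v, o c v79 = v := ⟨_, rfl⟩
  obtain ⟨v38, h58⟩ : ∃ v, o d v79 = v := ⟨_, rfl⟩
  obtain ⟨v59, h59⟩ : ∃ v, o c v53 = v := ⟨_, rfl⟩
  obtain ⟨v64, h60⟩ : ∃ v, o d v53 = v := ⟨_, rfl⟩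
  obtain ⟨v62, h61⟩ : ∃ v, o c v48 = v := ⟨_, rfl⟩
  obtain ⟨v7, h62⟩ : ∃ v, o c v23 = v := ⟨_, rfl⟩
  obtain ⟨v73, h63⟩ : ∃ v, o d v44 = v := ⟨_, rfl⟩
  obtain ⟨v20, h64⟩ : ∃ v, o d v16 = v := ⟨_, rfl⟩
  obtain ⟨v25, h65⟩ : ∃ v, o b v66 = v := ⟨_, rfl⟩
  obtain ⟨v8, h66⟩ : ∃ v, o b v58 = v := ⟨_, rfl⟩
  obtain ⟨v74, h67⟩ : ∃ v, o d v43 = v := ⟨_, rfl⟩
  obtain ⟨v55, h68⟩ : ∃ v, o d v35 = v := ⟨_, rfl⟩
  obtain ⟨v26, h69⟩ : ∃ v, o b v68 = v := ⟨_, rfl⟩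
  obtain ⟨v19, h70⟩ : ∃ v, o b v65 = v := ⟨_, rfl⟩
  obtain ⟨v61, h71⟩ : ∃ v, o c v49 = v := ⟨_, rfl⟩
  obtain ⟨v56, h72⟩ : ∃ v, o c v46 = v := ⟨_, rfl⟩
  obtain ⟨v4, h73⟩ : ∃ v, o b v62 = v := ⟨_, rfl⟩
  obtain ⟨v28, h74⟩ : ∃ v, o d v62 = v := ⟨_, rfl⟩
  obtain ⟨v5, h75⟩ : ∃ v, o a v7 = v := ⟨_, rfl⟩
  obtain ⟨v2, h76⟩ : ∃ v, o d v7 = v := ⟨_, rfl⟩
  obtain ⟨v11, h77⟩ : ∃ v, o b v73 = v := ⟨_, rfl⟩
  obtain ⟨v29, h78⟩ : ∃ v, o c v73 = v := ⟨_, rfl⟩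
  obtain ⟨v10, h79⟩ : ∃ v, o a v20 = v := ⟨_, rfl⟩
  obtain ⟨v1, h80⟩ : ∃ v, o c v20 = v := ⟨_, rfl⟩
  have h82 : o v6 v18 = v12 := dB h9 (r1 h6) (r1 h5) h20
  have h83 : o a v15 = v21 := dC (r2 h13) (r1 h6) (r4 h5) (r1 h15)
  have h84 : o v6 v54 = v30 := dB h8 (r1 h6) (r1 h4) h18
  have h85 : o a v33 = v57 := dC (r2 h11) (r1 h6) (r4 h4) (r1 h14)
  have h86 : o v6 v75 = v36 := dB (r2 h17) (r1 h6) h29 h16
  have h88 : o v18 v54 = v36 := dB h7 (r1 h5) (r1 h4) h16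
  have h89 : o v18 v57 = v44 := dB h23 (r1 h5) h85 h37
  have h90 : o a v45 = v63 := dC (r2 h10) (r1 h5) (r4 h4) (r1 h12)
  have h91 : o v18 v70 = v30 := dB (r2 h19) (r1 h5) h31 h18
  have h92 : o v18 v68 = v33 := dB (r2 h26) (r1 h5) h44 (r2 h85)
  have h93 : o v12 v54 = v53 := dB (r1 h21) h20 (r1 h4) h33
  have h94 : o v54 v21 = v43 := dB h25 (r1 h4) h83 h42
  have h95 : o v54 v15 = v49 := dB h27 (r1 h4) (r2 h83) h47
  have h97 : o v66 v6 = v45 := dB (r3 h24) h39 (r1 h6) (r2 h90)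
  have h98 : o v48 v6 = v63 := dB (r3 h22) h34 (r1 h6) h90
  have h103 : o v6 v24 = v15 := dB (r1 h5) h6 h9 h13
  have h104 : o d v12 = v21 := dC (r2 h20) h6 (r2 h9) (r1 h15)
  have h105 : o v6 v60 = v33 := dB (r1 h4) h6 h8 h11
  have h106 : o d v30 = v57 := dC (r2 h18) h6 (r2 h8) (r1 h14)
  have h109 : o d v48 = v66 := dC (r2 h34) h6 (r2 h22) (r4 h97)
  have h112 : o v24 v57 = v37 := dB h30 h9 h106 h54
  have h113 : o v24 v69 = v33 := dB (r2 h10) h9 h22 h11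
  have h114 : o v24 v66 = v28 := dB h61 h9 h109 h74
  have h115 : o d v50 = v67 := dC (r2 h19) h9 (r2 h8) (r1 h21)
  have h116 : o v24 v65 = v30 := dB (r2 h26) h9 h46 (r2 h106)
  have h117 : o d v49 = v68 := dC (r4 h95) (r2 h13) h11 (r2 h92)
  have h119 : o v15 v60 = v51 := dB (r1 h12) h13 h8 h24
  have h120 : o v15 v57 = v47 := dB (r2 h91) h13 h106 h56
  have h121 : o v15 v78 = v33 := dB (r2 h88) h13 h28 h11
  have h122 : o v15 v73 = v30 := dB (r2 h89) h13 h63 (r2 h106)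
  have h124 : o v60 v21 = v38 := dB h32 h8 h104 h58
  have h125 : o v60 v12 = v46 := dB h27 h8 (r2 h104) h48
  have h127 : o v74 v12 = v33 := dB (r5 h94) h67 (r2 h104) h11
  have h128 : o v65 v6 = v49 := dB (r1 h44) h46 h6 (r2 h117)
  have h129 : o v64 v6 = v50 := dB (r3 h33) h60 h6 (r2 h115)
  have h130 : o v64 v21 = v33 := dB (r3 h93) h60 h104 h11
  have h132 : o v47 v6 = v67 := dB (r3 h31) h56 h6 h115
  have h133 : o v46 v6 = v68 := dB (r1 h47) h48 h6 h117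
  have h137 : o v6 v71 = v52 := dA (r2 h47) (r5 h6) (r4 h128) (r2 h46)
  have h139 : o a v65 = v46 := dB h117 (r3 h6) (r4 h128) (r4 h133)
  have h140 : o a v64 = v47 := dB h115 (r3 h6) (r4 h129) (r4 h132)
  have h142 : o v6 v80 = v43 := dA h30 (r1 h15) (r2 h84) (r1 h94)
  have h143 : o v6 v76 = v38 := dA h23 (r1 h15) (r2 h105) (r1 h124)
  have h144 : o v21 v66 = v30 := dB (r2 h10) (r1 h15) (r4 h97) h84
  have h145 : o v6 v79 = v44 := dA (r1 h32) (r2 h82) (r1 h14) h89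
  have h146 : o v6 v77 = v37 := dA (r1 h25) (r2 h103) (r1 h14) h112
  have h148 : o v12 v57 = v48 := dB (r1 h12) h82 (r1 h14) (r4 h98)
  have h149 : o v12 v75 = v30 := dB (r2 h88) h82 (r2 h86) h84
  have h155 : o v18 v24 = v21 := dB (r1 h6) h5 (r1 h9) h15
  have h156 : o c v12 = v15 := dC (r2 h20) h5 (r4 h9) (r1 h13)
  have h157 : o v18 v72 = v45 := dB (r1 h4) h5 h7 h10
  have h158 : o v18 v80 = v50 := dB (r2 h18) h5 h30 h19
  have h159 : o v18 v76 = v52 := dB h85 h5 h23 h26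
  have h160 : o c v36 = v63 := dC (r2 h16) h5 (r2 h7) (r1 h12)
  have h161 : o c v44 = v68 := dC (r2 h37) h5 (r2 h23) (r2 h92)
  have h163 : o v24 v72 = v50 := dB h8 (r1 h9) h7 h19
  have h164 : o v24 v80 = v52 := dB h106 (r1 h9) h30 h26
  have h165 : o v24 v76 = v45 := dB (r2 h11) (r1 h9) h23 h10
  have h166 : o v24 v63 = v32 := dB h28 (r1 h9) h160 h50
  have h167 : o c v37 = v65 := dC (r2 h54) (r1 h9) (r2 h30) (r2 h116)
  have h168 : o c v42 = v67 := dC (r2 h17) (r1 h9) (r2 h7) (r1 h21)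
  have h169 : o v24 v68 = v29 := dB h63 (r1 h9) h161 h78
  have h170 : o v24 v54 = v41 := dB h22 (r1 h9) (r2 h10) h36
  have h172 : o v24 v58 = v36 := dB (r2 h24) (r1 h9) h41 (r2 h160)
  have h173 : o v21 v72 = v52 := dB (r1 h14) h15 h7 h26
  have h174 : o v21 v80 = v45 := dB (r2 h84) h15 h30 h10
  have h175 : o v21 v76 = v50 := dB (r2 h105) h15 h23 h19
  have h176 : o v21 v63 = v34 := dB (r2 h86) h15 h160 h52
  have h177 : o v21 v65 = v35 := dB (r2 h146) h15 h167 h43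
  have h178 : o c v38 = v64 := dC (r2 h143) h15 (r2 h23) (r4 h130)
  have h180 : o c v43 = v66 := dC (r2 h142) h15 (r2 h30) (r2 h144)
  have h181 : o v21 v68 = v31 := dB (r2 h145) h15 h161 h57
  have h182 : o v21 v56 = v44 := dB (r1 h133) h15 h72 (r2 h161)
  have h183 : o v21 v62 = v36 := dB (r1 h98) h15 h61 (r2 h160)
  have h186 : o v7 v72 = v41 := dB (r3 h35) h62 h7 h36
  have h187 : o c v28 = v74 := dC (r2 h114) (r4 h9) (r2 h180) h67
  have h188 : o d v76 = v41 := dB (r2 h113) (r4 h9) h23 h36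
  have h189 : o v72 v15 = v31 := dB h32 h7 h156 h57
  have h190 : o v72 v12 = v35 := dB h25 h7 (r2 h156) h43
  have h192 : o v80 v15 = v34 := dB (r3 h149) h30 h156 h52
  have h193 : o v80 v12 = v29 := dB (r3 h122) h30 (r2 h156) h78
  have h195 : o v76 v15 = v28 := dB (r5 h127) h23 h156 (r2 h187)
  have h196 : o v76 v12 = v32 := dB (r3 h121) h23 (r2 h156) h50
  have h199 : o v56 v15 = v50 := dB (r5 h125) h72 h156 h19
  have h201 : o v62 v15 = v52 := dB (r3 h148) h61 h156 h26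
  have h202 : o v61 v12 = v45 := dB (r5 h95) h71 (r2 h156) h10
  have h204 : o v58 v12 = v50 := dB (r3 h119) h41 (r2 h156) h19
  have h205 : o v59 v18 = v42 := dB (r3 h33) h59 h5 (r2 h168)
  have h207 : o v59 v15 = v45 := dB (r3 h93) h59 h156 h10
  have h214 : o v34 v18 = v67 := dB (r3 h29) h52 h5 h168
  have h216 : o v31 v24 = v64 := dB (r1 h58) h57 (r1 h9) h178
  have h222 : o v12 v42 = v65 := dC h29 (r3 h20) h149 (r2 h116)
  have h223 : o v12 v44 = v63 := dC (r2 h37) (r3 h20) (r1 h196) (r2 h166)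
  have h224 : o v12 v69 = v37 := dA (r2 h34) (r3 h20) (r2 h148) h112
  have h225 : o v12 v70 = v36 := dA h31 (r3 h20) (r4 h204) h172
  have h226 : o v12 v67 = v41 := dA (r2 h33) (r3 h20) (r2 h93) h170
  have h231 : o v12 v55 = v52 := dA h68 (r1 h104) (r4 h190) h173
  have h232 : o v21 v69 = v29 := dB (r2 h54) (r1 h104) (r2 h224) (r1 h193)
  have h233 : o v12 v38 = v71 := dC (r2 h58) (r1 h104) (r4 h32) (r1 h27)
  have h234 : o v12 v43 = v64 := dC h67 (r1 h104) (r1 h127) (r4 h130)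
  have h235 : o v12 v73 = v34 := dA h63 (r1 h104) h223 h176
  have h236 : o v12 v47 = v62 := dC (r2 h56) (r1 h104) h225 (r2 h183)
  have h237 : o v12 v51 = v56 := dC (r2 h24) (r1 h104) (r2 h223) (r2 h182)
  have h238 : o v21 v55 = v42 := dB h46 (r1 h104) (r2 h231) (r2 h222)
  have h239 : o v18 v79 = v48 := dB (r1 h14) (r3 h82) (r1 h32) h148
  have h242 : o v18 v71 = v32 := dB (r2 h143) (r3 h82) h233 (r1 h196)
  have h243 : o v18 v64 = v29 := dB (r2 h142) (r3 h82) h234 (r1 h193)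
  have h244 : o v12 v49 = v59 := dC (r4 h128) (r3 h82) (r2 h222) (r4 h205)
  have h247 : o v12 v28 = v78 := dC h187 (r1 h156) (r1 h127) (r2 h121)
  have h248 : o v15 v75 = v29 := dB h30 (r1 h156) (r2 h149) (r1 h193)
  have h249 : o v12 v31 = v77 := dC (r2 h57) (r1 h156) (r4 h32) (r1 h25)
  have h250 : o v15 v74 = v32 := dB h23 (r1 h156) (r4 h127) (r1 h196)
  have h251 : o v15 v70 = v44 := dB h160 (r1 h156) (r2 h225) (r2 h223)
  have h252 : o v15 v69 = v42 := dB h167 (r1 h156) (r2 h224) (r2 h222)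
  have h255 : o v15 v65 = v41 := dB h168 (r1 h156) h222 h226
  have h257 : o v15 v58 = v46 := dB (r2 h19) (r1 h156) (r4 h204) (r1 h125)
  have h259 : o c v55 = v47 := dB (r4 h201) (r4 h156) (r2 h231) (r2 h236)
  have h260 : o v6 v73 = v41 := dB (r1 h214) (r5 h82) (r2 h235) h226
  have h262 : o v6 v58 = v29 := dB (r2 h158) (r5 h82) (r4 h204) (r1 h193)
  have h263 : o v6 v55 = v32 := dB (r2 h159) (r5 h82) (r2 h231) (r1 h196)
  have h264 : o d v61 = v29 := dB (r2 h174) (r4 h104) (r4 h202) (r1 h193)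
  have h265 : o d v58 = v32 := dB (r2 h175) (r4 h104) (r4 h204) (r1 h196)
  have h266 : o a v79 = v41 := dB (r1 h21) (r5 h20) (r1 h32) h226
  have h267 : o a v74 = v37 := dB (r2 h113) (r5 h20) (r4 h127) h224
  have h268 : o a v61 = v32 := dB (r2 h165) (r5 h20) (r4 h202) (r1 h196)
  have h269 : o a v58 = v35 := dB (r2 h163) (r5 h20) (r4 h204) (r1 h190)
  have h270 : o a v55 = v29 := dB (r2 h164) (r5 h20) (r2 h231) (r1 h193)
  have h287 : o v21 v70 = v28 := dB (r2 h37) (r1 h83) (r2 h251) (r1 h195)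
  have h288 : o v15 v66 = v38 := dA h39 (r1 h83) (r2 h119) (r1 h124)
  have h292 : o v18 v65 = v28 := dB (r2 h188) (r3 h13) (r2 h255) (r1 h195)
  have h293 : o v18 v69 = v31 := dB (r2 h17) (r3 h13) (r2 h252) (r1 h189)
  have h298 : o d v59 = v31 := dB (r2 h157) (r5 h13) (r4 h207) (r1 h189)
  have h299 : o d v56 = v34 := dB (r2 h158) (r5 h13) (r4 h199) (r1 h192)
  have h300 : o a v73 = v38 := dB (r2 h144) (r4 h83) (r2 h122) h288
  have h301 : o a v59 = v34 := dB (r2 h174) (r4 h83) (r4 h207) (r1 h192)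
  have h302 : o a v56 = v28 := dB (r2 h175) (r4 h83) (r4 h199) (r1 h195)
  have h303 : o a v62 = v31 := dB (r2 h173) (r4 h83) (r4 h201) (r1 h189)
  have h304 : o v6 v59 = v28 := dB (r2 h165) (r5 h103) (r4 h207) (r1 h195)
  have h305 : o v6 v56 = v31 := dB (r2 h163) (r5 h103) (r4 h199) (r1 h189)
  have h337 : o v54 v60 = v57 := dB (r1 h6) h4 (r1 h8) h14
  have h338 : o v54 v72 = v63 := dB (r1 h5) h4 (r1 h7) h12
  have h339 : o v54 v79 = v67 := dB (r2 h20) h4 h32 h21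
  have h340 : o v54 v77 = v71 := dB h83 h4 h25 h27
  have h341 : o b v30 = v33 := dC (r2 h18) h4 (r4 h8) (r1 h11)
  have h342 : o b v36 = v45 := dC (r2 h16) h4 (r4 h7) (r1 h10)
  have h343 : o b v41 = v53 := dC (r2 h266) h4 (r2 h32) (r1 h93)
  have h344 : o b v43 = v49 := dC (r2 h42) h4 (r2 h25) h95
  have h347 : o v60 v72 = v67 := dB h9 (r1 h8) (r1 h7) h21
  have h348 : o v60 v79 = v71 := dB h104 (r1 h8) h32 h27
  have h349 : o v60 v77 = v63 := dB (r2 h13) (r1 h8) h25 h12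
  have h350 : o v60 v45 = v13 := dB h28 (r1 h8) h342 h49
  have h351 : o b v38 = v46 := dC (r2 h58) (r1 h8) (r2 h32) h125
  have h352 : o v60 v53 = v16 := dB (r2 h188) (r1 h8) h343 h38
  have h353 : o b v42 = v50 := dC (r2 h17) (r1 h8) (r4 h7) (r1 h19)
  have h356 : o v60 v40 = v18 := dB (r2 h24) (r1 h8) h40 (r2 h12)
  have h358 : o v57 v72 = v71 := dB (r1 h15) h14 (r1 h7) h27
  have h359 : o v57 v79 = v63 := dB (r2 h82) h14 h32 h12
  have h360 : o v57 v77 = v67 := dB (r2 h103) h14 h25 h21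
  have h361 : o v57 v45 = v17 := dB (r2 h86) h14 h342 h51
  have h362 : o b v37 = v47 := dC (r2 h146) h14 (r2 h25) (r1 h120)
  have h364 : o v57 v53 = v11 := dB (r2 h260) h14 h343 h77
  have h367 : o b v44 = v48 := dC (r2 h145) h14 (r2 h32) (r1 h148)
  have h368 : o v57 v36 = v25 := dB (r4 h97) h14 (r2 h342) h65
  have h372 : o v57 v39 = v21 := dB (r2 h137) h14 h45 (r2 h27)
  have h374 : o v72 v79 = v77 := dB h156 (r1 h7) h32 h25
  have h375 : o v72 v33 = v14 := dB h30 (r1 h7) h341 h53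
  have h376 : o b v31 = v35 := dC (r2 h57) (r1 h7) (r2 h32) h190
  have h377 : o v72 v30 = v16 := dB h23 (r1 h7) (r2 h341) h38
  have h385 : o b v59 = v7 := dA h59 (r1 h7) (r2 h343) (r4 h186)
  have h386 : o v79 v33 = v17 := dB (r2 h149) h32 h341 h51
  have h387 : o v79 v45 = v22 := dB (r2 h225) h32 h342 h55
  have h393 : o v77 v33 = v11 := dB (r2 h122) h25 h341 h77
  have h394 : o v77 v30 = v13 := dB (r2 h121) h25 (r2 h341) h49
  have h400 : o v77 v36 = v7 := dB (r4 h207) h25 (r2 h342) h385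
  have h402 : o v77 v40 = d := dB (r2 h119) h25 h40 (r4 h8)
  have h404 : o v63 v71 = v67 := dB (r2 h155) h12 h27 h21
  have h405 : o v63 v33 = v22 := dB (r2 h91) h12 h341 h55
  have h407 : o b v32 = v34 := dC (r2 h242) h12 (r2 h27) (r1 h176)
  have h408 : o v63 v30 = v26 := dB (r2 h92) h12 (r2 h341) h69
  have h419 : o v71 v33 = v25 := dB (r2 h144) h27 h341 h65
  have h421 : o v71 v31 = v19 := dB (r2 h177) h27 (r2 h376) h70
  have h422 : o v71 v45 = v4 := dB (r2 h183) h27 h342 h73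
  have h424 : o v71 v36 = v14 := dB (r2 h174) h27 (r2 h342) h53
  have h427 : o v71 v42 = v16 := dB (r2 h175) h27 (r2 h353) h38
  have h429 : o v71 v39 = c := dB (r2 h173) h27 h45 (r4 h7)
  have h431 : o v67 v33 = v19 := dB (r2 h116) h21 h341 h70
  have h432 : o v67 v30 = v23 := dB (r2 h113) h21 (r2 h341) h35
  have h434 : o v67 v45 = v8 := dB (r2 h172) h21 h342 h66
  have h437 : o v67 v36 = v16 := dB (r2 h165) h21 (r2 h342) h38
  have h444 : o v8 v54 = v31 := dB (r1 h269) h66 h4 (r2 h376)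
  have h445 : o v8 v60 = v34 := dB (r1 h265) h66 (r1 h8) h407
  have h446 : o v4 v54 = v35 := dB (r1 h303) h73 h4 h376
  have h451 : o v22 v54 = v42 := dB (r3 h31) h55 h4 (r2 h353)
  have h453 : o v11 v54 = v46 := dB (r1 h300) h77 h4 h351
  have h454 : o v11 v60 = v48 := dB (r3 h63) h77 (r1 h8) h367
  have h455 : o v11 v79 = v32 := dB (r1 h235) h77 h32 (r2 h407)
  have h457 : o v17 v72 = v32 := dB (r1 h52) h51 (r1 h7) (r2 h407)
  have h462 : o v14 v77 = v32 := dB h192 h53 h25 (r2 h407)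
  have h466 : o v56 v76 = v70 := dB h83 (r3 h302) (r5 h195) (r3 h287)
  have h467 : o v28 v31 = v34 := dC (r2 h303) (r3 h302) (r5 h74) (r1 h299)
  have h471 : o v62 v78 = v70 := dB h104 (r3 h74) (r1 h247) (r3 h287)
  have h473 : o v28 v36 = v47 := dC h28 (r3 h74) (r4 h247) (r3 h236)
  have h474 : o v28 v41 = v52 := dC (r2 h188) (r3 h74) (r3 h195) h201
  have h478 : o v59 v76 = v66 := dB (r2 h103) (r3 h304) (r5 h195) (r3 h114)
  have h479 : o v28 v38 = v45 := dC (r2 h143) (r3 h304) (r3 h195) h207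
  have h481 : o v74 v78 = v76 := dB h156 (r1 h187) (r1 h247) (r5 h195)
  have h482 : o v28 v32 = v33 := dC (r2 h50) (r1 h187) (r4 h247) h127
  have h484 : o v28 v30 = v35 := dC (r2 h91) (r3 h292) (r5 h287) (r1 h177)
  have h487 : o v55 v80 = v68 := dB (r2 h20) (r3 h270) (r5 h193) (r3 h169)
  have h500 : o v29 v36 = v46 := dC (r2 h86) (r3 h262) (r5 h248) (r1 h257)
  have h504 : o v29 v30 = v34 := dC h30 (r3 h78) (r3 h193) (r1 h235)
  have h505 : o v64 v69 = v68 := dB (r2 h155) (r3 h243) (r3 h232) (r3 h169)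
  have h506 : o v29 v31 = v33 := dC (r2 h293) (r3 h243) (r5 h232) h130
  have h510 : o v30 v55 = v8 := dA (r2 h270) (r3 h18) (r1 h504) (r4 h445)
  have h511 : o v30 v36 = v53 := dC (r2 h16) (r3 h18) (r1 h377) (r2 h352)
  have h513 : o v30 v42 = v46 := dC h29 (r3 h18) (r5 h149) h125
  have h514 : o v30 v43 = v45 := dC (r2 h42) (r3 h18) (r1 h394) (r2 h350)
  have h515 : o v30 v50 = v40 := dC h31 (r3 h18) (r5 h91) (r2 h356)
  have h519 : o v30 v20 = v71 := dA h64 (r1 h106) (r4 h377) h358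
  have h521 : o v30 v78 = v11 := dA h28 (r1 h106) h511 h364
  have h522 : o v30 v37 = v52 := dC (r2 h54) (r1 h106) (r4 h30) (r1 h26)
  have h523 : o v30 v74 = v17 := dA h67 (r1 h106) h514 h361
  have h524 : o v30 v44 = v47 := dC h63 (r1 h106) (r5 h122) (r1 h120)
  have h527 : o v30 v48 = v39 := dC h109 (r1 h106) (r5 h144) (r2 h372)
  have h528 : o v30 v64 = v25 := dA h60 (r1 h106) (r2 h511) h368
  have h532 : o v30 v59 = v4 := dA (r2 h304) (r3 h84) (r1 h484) (r4 h446)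
  have h533 : o v30 v32 = v31 := dC (r2 h263) (r3 h84) h510 (r1 h444)
  have h534 : o v54 v52 = v13 := dB (r2 h146) (r3 h84) h522 (r1 h394)
  have h535 : o v30 v41 = v49 := dC (r2 h260) (r3 h84) (r5 h122) h95
  have h536 : o v30 v68 = v22 := dA (r1 h133) (r3 h84) (r2 h513) (r4 h451)
  have h540 : o v80 v31 = v11 := dB (r2 h50) (r1 h30) h533 h521
  have h541 : o v30 v76 = v14 := dA h23 (r1 h30) (r4 h341) (r1 h53)
  have h542 : o v80 v28 = v13 := dB (r2 h43) (r1 h30) (r4 h484) (r1 h394)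
  have h550 : o v80 v40 = a := dB (r2 h19) (r1 h30) h515 (r5 h18)
  have h553 : o v75 v32 = v13 := dB h249 (r3 h149) (r2 h533) (r1 h394)
  have h561 : o v75 v39 = d := dB (r2 h148) (r3 h149) h527 (r4 h106)
  have h578 : o v70 v33 = v26 := dB (r1 h12) (r3 h91) (r1 h341) (r1 h408)
  have h581 : o v70 v31 = v20 := dB (r2 h242) (r3 h91) h533 (r2 h519)
  have h588 : o v70 v40 = c := dB (r2 h158) (r3 h91) h515 (r4 h30)
  have h591 : o v66 v33 = v20 := dB (r1 h27) (r3 h144) (r1 h341) (r2 h519)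
  have h593 : o v66 v32 = v22 := dB (r2 h181) (r3 h144) (r2 h533) h536
  have h621 : o v33 v49 = v36 := dB h343 (r1 h341) h535 (r2 h511)
  have h624 : o v33 v47 = v39 := dB h367 (r1 h341) h524 h527
  have h639 : o b v64 = v20 := dB (r4 h419) (r4 h341) (r2 h528) (r2 h519)
  have h644 : o d v23 = v13 := dB (r2 h360) (r4 h106) (r1 h432) (r1 h394)
  have h645 : o a v78 = v39 := dB (r1 h454) (r5 h18) (r2 h521) h527
  have h646 : o a v26 = v13 := dB (r2 h349) (r5 h18) (r1 h408) (r1 h394)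
  have h647 : o a v23 = v16 := dB (r2 h347) (r5 h18) (r1 h432) (r1 h377)
  have h648 : o v30 v79 = v10 := dA (r2 h348) (r5 h18) (r2 h519) h79
  have h655 : o v26 d = v10 := dB (r3 h359) (r1 h408) (r4 h106) h648
  have h669 : o v16 v74 = v31 := dB (r1 h457) (r1 h377) (r2 h523) h533
  have h678 : o v13 v76 = v31 := dB (r1 h462) (r1 h394) (r2 h541) h533
  have h682 : o c v8 = v22 := dB (r1 h487) (r4 h30) h510 h536
  have h684 : o v31 v10 = v78 := dC (r2 h79) (r3 h303) (r4 h581) (r2 h471)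
  have h688 : o v31 v58 = v4 := dA (r2 h269) (r3 h303) (r4 h376) (r1 h73)
  have h689 : o v31 v36 = v52 := dC (r2 h16) (r3 h303) (r3 h189) h201
  have h690 : o v31 v41 = v48 := dC (r2 h266) (r3 h303) (r5 h57) (r3 h61)
  have h695 : o v31 v55 = v7 := dA h68 (r3 h298) (r4 h376) (r1 h385)
  have h699 : o v31 v42 = v45 := dC (r2 h17) (r3 h298) (r3 h189) h207
  have h705 : o v56 v33 = v4 := dB (r2 h262) (r3 h305) (r1 h506) h688
  have h709 : o v31 v37 = v51 := dC (r2 h146) (r3 h305) (r4 h249) (r3 h237)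
  have h716 : o v31 v44 = v46 := dC (r2 h145) (r3 h305) (r5 h57) (r3 h72)
  have h732 : o v80 v32 = v10 := dB (r3 h521) (r4 h540) (r3 h533) (r2 h684)
  have h743 : o v76 v36 = v8 := dB (r5 h534) (r3 h678) (r2 h689) (r5 h444)
  have h754 : o v74 v45 = v19 := dB (r5 h427) (r3 h669) h699 (r1 h421)
  have h776 : o v68 v45 = v7 := dB (r2 h238) (r3 h181) h699 h695
  have h797 : o v64 v36 = v11 := dB (r2 h164) h216 (r2 h689) (r1 h540)
  have h804 : o v34 v48 = v36 := dB h474 (r1 h467) h690 (r2 h689)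
  have h807 : o v32 v51 = v36 := dB h522 (r3 h533) h709 (r2 h689)
  have h812 : o v32 v45 = v44 := dB h513 (r3 h533) h699 (r2 h716)
  have h870 : o v61 v36 = v22 := dB h39 (r3 h268) h807 (r1 h593)
  have h888 : o v55 v45 = v11 := dB (r2 h145) (r3 h263) (r2 h812) (r5 h455)
  have h904 : o v75 v33 = v10 := dB (r5 h542) (r4 h553) (r1 h482) (r1 h732)
  have h906 : o v74 b = v10 := dB (r4 h192) (r3 h250) (r4 h407) (r1 h732)
  have h930 : o v54 v74 = v64 := dB h104 (r3 h11) (r5 h127) (r5 h130)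
  have h931 : o v33 v34 = v35 := dC (r2 h299) (r3 h11) (r1 h705) (r1 h446)
  have h932 : o v54 v47 = v10 := dB (r5 h561) (r3 h11) (r2 h624) (r1 h904)
  have h950 : o v33 v1 = v59 := dC (r2 h80) (r1 h23) (r4 h591) (r4 h478)
  have h954 : o v74 v36 = v1 := dB h244 (r5 h127) h621 (r2 h950)
  have h973 : o b v56 = v1 := dB (r2 h532) (r5 h341) (r4 h705) (r2 h950)
  have h974 : o b v29 = v28 := dB (r2 h533) (r5 h341) (r5 h506) (r5 h482)
  have h975 : o v29 v54 = v1 := dB (r3 h298) (r5 h506) (r3 h11) (r2 h950)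
  have h976 : o d v22 = v14 := dB (r2 h338) (r5 h11) (r1 h405) (r1 h375)
  have h977 : o d v19 = v17 := dB (r2 h339) (r5 h11) (r1 h431) (r1 h386)
  have h978 : o d v25 = v11 := dB (r2 h340) (r5 h11) (r1 h419) (r1 h393)
  have h982 : o v4 v26 = c := dB (r2 h466) (r1 h705) (r1 h578) (r4 h23)
  have h983 : o a v22 = v17 := dB (r2 h359) (r4 h85) (r1 h405) (r1 h386)
  have h984 : o a v19 = v11 := dB (r2 h360) (r4 h85) (r1 h431) (r1 h393)
  have h985 : o a v25 = v14 := dB (r2 h358) (r4 h85) (r1 h419) (r1 h375)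
  have h1013 : o v36 v5 = v79 := dC (r2 h75) (r3 h16) (r4 h400) (r2 h374)
  have h1039 : o v54 v34 = v5 := dB (r2 h239) (r3 h88) (r5 h804) (r2 h1013)
  have h1045 : o v61 b = v5 := dB (r5 h387) (r4 h870) (r4 h342) (r2 h1013)
  have h1050 : o v45 v47 = v46 := dB (r2 h974) (r1 h342) (r1 h473) (r1 h500)
  have h1068 : o v25 c = v5 := dB (r2 h359) (r1 h368) (r4 h160) (r2 h1013)
  have h1074 : o c v16 = v14 := dB (r2 h404) (r4 h160) (r1 h437) (r1 h424)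
  have h1077 : o v1 v8 = d := dB (r2 h481) (r1 h954) (r1 h743) (r4 h28)
  have h1090 : o v45 v2 = v64 := dC (r2 h76) (r1 h22) (r4 h776) (r4 h505)
  have h1098 : o v54 v28 = v2 := dB h178 (r3 h10) (r5 h479) (r2 h1090)
  have h1102 : o v55 b = v2 := dB (r5 h797) (r4 h888) (r5 h342) (r2 h1090)
  have h1123 : o c v17 = v13 := dB (r2 h337) (r5 h10) (r1 h361) (r1 h350)
  have h1124 : o c v2 = v19 := dB (r2 h930) (r5 h10) (r2 h1090) (r1 h754)
  have h1135 : o a v8 = v4 := dB (r2 h404) (r4 h90) (r1 h434) (r1 h422)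
  have h1144 : o a v2 = v1 := dB (r2 h974) (r3 h4) h1098 (r1 h975)
  have h1146 : o d v5 = v4 := dB h931 (r4 h11) h1039 (r4 h446)
  have h1150 : o c v11 = v10 := dB (r2 h1050) (r4 h10) (r4 h453) h932
  refine ⟨![a, v1, v2, d, v4, v5, v6, v7, v8, c, v10, v11, v12, v13, v14, v15, v16, v17, v18, v19, v20, v21, v22, v23, v24, v25, v26, b, v28, v29, v30, v31, v32, v33, v34, v35, v36, v37, v38, v39, v40, v41, v42, v43, v44, v45, v46, v47, v48, v49, v50, v51, v52, v53, v54, v55, v56, v57, v58, v59, v60, v61, v62, v63, v64, v65, v66, v67, v68, v69, v70, v71, v72, v73, v74, v75, v76, v77, v78, v79, v80], ?_, ?_⟩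
  · intro k; fin_cases k <;> rfl
  · intro k s
    fin_cases k
    · revert s
      simp only [Fin.forall_fin_succ]
      exact ⟨h0, (r2 h1144), h1144, (r1 h6), (r2 h1135), (r2 h75), (r4 h6), h75, h1135, (r1 h5), (r2 h79), (r2 h984), (r2 h20), (r2 h646), (r2 h985), h83, (r2 h647), (r2 h983), (r4 h5), h984, h79, (r2 h83), h983, h647, h20, h985, h646, (r1 h4), (r2 h302), (r2 h270), (r2 h18), (r2 h303), (r2 h268), h85, (r2 h301), (r2 h269), (r2 h16), (r2 h267), (r2 h300), (r2 h645), (r5 h550), (r2 h266), h29, (r2 h42), (r2 h37), h90, (r2 h139), (r2 h140), (r2 h34), (r2 h47), h31, h39, h44, (r2 h33), (r4 h4), h270, h302, (r2 h85), h269, h301, h18, h268, h303, (r2 h90), h140, h139, (r2 h39), h33, (r2 h44), h34, (r2 h31), h47, h16, h300, h267, (r2 h29), h37, h42, h645, h266, (r3 h550), fun i => i.elim0⟩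
    · revert s
      simp only [Fin.forall_fin_succ]
      exact ⟨h4, (r2 h973), (r4 h1102), (r1 h8), (r2 h73), (r4 h1045), h14, (r2 h385), (r2 h66), (r1 h7), (r4 h906), (r2 h77), h32, (r2 h49), (r2 h53), h25, (r2 h38), (r2 h51), h12, (r2 h70), (r2 h639), h27, (r2 h55), (r2 h35), h21, (r2 h65), (r2 h69), h1, (r2 h974), h974, h341, h376, h407, (r2 h341), (r2 h407), (r2 h376), h342, h362, h351, (r2 h45), (r2 h40), h343, h353, h344, h367, (r2 h342), (r2 h351), (r2 h362), (r2 h367), (r2 h344), (r2 h353), h40, h45, (r2 h343), (r2 h4), (r1 h1102), h973, (r2 h14), h66, h385, (r4 h8), (r1 h1045), h73, (r2 h12), h639, h70, h65, (r2 h21), h69, h35, h55, (r2 h27), (r4 h7), h77, (r1 h906), h51, h38, (r2 h25), h49, (r2 h32), h53, fun i => i.elim0⟩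
    · revert s
      simp only [Fin.forall_fin_succ]
      exact ⟨h5, (r2 h80), h1124, (r1 h9), (r3 h982), (r4 h1068), h15, (r2 h62), h682, h2, (r2 h1150), h1150, h156, (r2 h1123), (r2 h1074), (r2 h156), h1074, h1123, (r2 h5), (r2 h1124), h80, (r2 h15), (r2 h682), h62, (r4 h9), (r1 h1068), (r5 h982), h7, h187, (r2 h78), h30, (r2 h57), (r2 h50), h23, (r2 h52), (r2 h43), h160, h167, h178, (r5 h429), (r5 h588), (r2 h36), h168, h180, h161, (r2 h10), h72, (r2 h259), h61, h71, (r2 h19), h41, (r2 h26), h59, h10, h259, (r2 h72), h26, (r2 h41), (r2 h59), h19, (r2 h71), (r2 h61), (r2 h160), (r2 h178), (r2 h167), (r2 h180), (r2 h168), (r2 h161), h36, (r3 h588), (r3 h429), (r2 h7), h78, (r2 h187), h52, (r2 h23), h43, h50, h57, (r2 h30), fun i => i.elim0⟩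
    · revert s
      simp only [Fin.forall_fin_succ]
      exact ⟨h6, (r3 h1077), (r2 h76), h3, (r2 h1146), h1146, (r2 h6), h76, (r5 h1077), h9, (r4 h655), (r2 h978), h104, (r2 h644), (r2 h976), (r2 h13), h64, (r2 h977), h13, h977, (r2 h64), (r2 h104), h976, h644, (r2 h9), h978, (r1 h655), h8, (r2 h74), (r2 h264), h106, (r2 h298), (r2 h265), (r2 h11), (r2 h299), h68, h28, (r2 h54), (r2 h58), (r5 h561), (r5 h402), (r2 h188), (r2 h17), h67, h63, h22, (r2 h48), (r2 h56), h109, h117, h115, (r2 h24), h46, h60, h11, (r2 h68), h299, (r2 h106), h265, h298, (r2 h8), h264, h74, h24, (r2 h60), (r2 h46), (r2 h109), (r2 h115), (r2 h117), (r2 h22), h56, h48, h17, (r2 h63), (r2 h67), (r3 h561), h188, (r3 h402), (r2 h28), h58, h54, fun i => i.elim0⟩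

end CfsgLib.ThreeTrans.CmlTable
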