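import Mathlib
import Cfsg.Agent.Lib.ThreeTrans.CmlTable
import Cfsg.Agent.Lib.Involutions.BaerSuzuki

/-! Involutions with all products of two of them of order 1 or 3 generate a 3-group extended
by an involution: the products of two members lie in a 3-group. -/

namespace CfsgLib.ThreeTrans.WidthOne

open CmlTable

/-- The coordinate space of the 81 points. -/
abbrev Pt : Type := (ZMod 3 × ZMod 3 × ZMod 3) × ZMod 3

/-- Coordinates of a point index. -/
def enc (s : Fin 81) : Pt :=
  ((((s.val / 27 : ℕ) : ZMod 3), ((s.val / 9 : ℕ) : ZMod 3), ((s.val / 3 : ℕ) : ZMod 3)),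
    ((s.val : ℕ) : ZMod 3))

/-- Index of a point from coordinates. -/
def dec (p : Pt) : Fin 81 :=
  ⟨p.1.1.val * 27 + p.1.2.1.val * 9 + p.1.2.2.val * 3 + p.2.val, by
    have := ZMod.val_lt p.1.1; have := ZMod.val_lt p.1.2.1
    have := ZMod.val_lt p.1.2.2; have := ZMod.val_lt p.2
    omega⟩

theorem dec_enc : ∀ s, dec (enc s) = s := by decide +kernel

theorem refl_shape : ∀ (k : Fin 4) (p : Pt), refl k (dec p) =
    dec (-p.1 + (enc (refl k 0)).1, -p.2 + (enc (refl k (dec (p.1, 0)))).2) := by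
  decide +kernel

variable {G : Type*} [Group G]

/-- `g` acts on the labelled elements by an affine map of linear part `ε` above a map of the base. -/
def Acts (e : Pt → G) (ε : ZMod 3) (g : G) : Prop :=
  ∃ (c : ZMod 3 × ZMod 3 × ZMod 3) (f : ZMod 3 × ZMod 3 × ZMod 3 → ZMod 3),
    ∀ v x, g * e (v, x) * g⁻¹ = e (ε • v + c, ε * x + f v)

theorem acts_mul {e : Pt → G} {ε δ : ZMod 3} {g h : G} (hg : Acts e ε g) (hh : Acts e δ h) :
    Acts e (ε * δ) (g * h) := by
  obtain ⟨c, f, hg⟩ := hg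
  obtain ⟨c', f', hh⟩ := hh
  refine ⟨ε • c' + c, fun v => ε * f' v + f (δ • v + c'), fun v x => ?_⟩
  have : g * h * e (v, x) * (g * h)⁻¹ = g * (h * e (v, x) * h⁻¹) * g⁻¹ := by group
  rw [this, hh, hg, smul_add, smul_smul, add_assoc, mul_add, ← mul_assoc, add_assoc]

theorem acts_one (e : Pt → G) : Acts e 1 1 :=
  ⟨0, fun _ => 0, fun v x => by simp⟩

theorem acts_pow_three {e : Pt → G} {g : G} (hg : Acts e 1 g) :
    ∃ f : ZMod 3 × ZMod 3 × ZMod 3 → ZMod 3, ∀ v x, g ^ 3 * e (v, x) * (g ^ 3)⁻¹ = e (v, x + f v) := by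
  obtain ⟨c, f, hg⟩ := hg
  refine ⟨fun v => f v + f (v + c) + f (v + c + c), fun v x => ?_⟩
  have : g ^ 3 * e (v, x) * (g ^ 3)⁻¹ = g * (g * (g * e (v, x) * g⁻¹) * g⁻¹) * g⁻¹ := by
    rw [pow_succ, pow_two]; simp only [mul_inv_rev, mul_assoc]
  have h3 : ∀ z : ZMod 3, z + z + z = 0 := by decide
  have hc : c + c + c = 0 := Prod.ext (h3 _) (Prod.ext (h3 _) (h3 _))
  rw [this, hg, hg, hg]
  simp only [one_smul, one_mul]
  rw [show v + c + c + c = v + (c + c + c) by abel, hc, add_zero]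
  congr 2
  abel

theorem pow_nine_fixes {e : Pt → G} {g : G} (hg : Acts e 1 g) (p : Pt) :
    g ^ 9 * e p * (g ^ 9)⁻¹ = e p := by
  obtain ⟨f, hf⟩ := acts_pow_three hg
  obtain ⟨v, x⟩ := p
  have : g ^ 9 * e (v, x) * (g ^ 9)⁻¹ =
      g ^ 3 * (g ^ 3 * (g ^ 3 * e (v, x) * (g ^ 3)⁻¹) * (g ^ 3)⁻¹) * (g ^ 3)⁻¹ := by
    rw [show 9 = 3 + 3 + 3 from rfl, pow_add, pow_add]; simp only [mul_inv_rev, mul_assoc]
  rw [this, hf, hf, hf]
  congr 2
  have h3 : ∀ z : ZMod 3, z + z + z = 0 := by decide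
  rw [show x + f v + f v + f v = x + (f v + f v + f v) by abel, h3, add_zero]

/-- Hypotheses on a set of involutions, pairwise satisfying the braid relation. -/
structure Braided (E : Set G) : Prop where
  sq : ∀ x ∈ E, x * x = 1
  braid : ∀ x ∈ E, ∀ y ∈ E, x * y * x = y * x * y
  closed : ∀ x ∈ E, ∀ y ∈ E, x * y * x ∈ E

theorem exists_acts {E : Set G} (hE : Braided E) (gen : Fin 4 → G) (hgen : ∀ k, gen k ∈ E) :
    ∃ e : Pt → G, ∀ k, Acts e (-1) (gen k) ∧ ∃ p, e p = gen k := by
  let o : E → E → E := fun x y => ⟨x.1 * y.1 * x.1, hE.closed _ x.2 _ y.2⟩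
  have hi : ∀ x : E, (x : G)⁻¹ = x := fun x => inv_eq_of_mul_eq_one_right (hE.sq _ x.2)
  have hs : ∀ (x : E) (z : G), (x : G) * (x * z) = z := fun x z => by
    rw [← mul_assoc, hE.sq _ x.2, one_mul]
  obtain ⟨e, he1, he2⟩ := exists_table o
    (fun x => Subtype.ext (by simp [o, hE.sq _ x.2]))
    (fun x y => Subtype.ext (hE.braid _ x.2 _ y.2))
    (fun x y => Subtype.ext (by simp [o, mul_assoc, hs, hE.sq _ x.2]))
    (fun x y z => Subtype.ext (by simp [o, mul_assoc, hs]))
    ⟨_, hgen 0⟩ ⟨_, hgen 1⟩ ⟨_, hgen 2⟩ ⟨_, hgen 3⟩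
  refine ⟨fun p => (e (dec p) : G), fun k => ⟨?_, enc (genPt k), ?_⟩⟩
  · refine ⟨(enc (refl k 0)).1, fun v => (enc (refl k (dec (v, 0)))).2, fun v x => ?_⟩
    have h := congrArg Subtype.val (he2 k (dec (v, x)))
    rw [refl_shape k (v, x)] at h
    have hk : ((![⟨_, hgen 0⟩, ⟨_, hgen 1⟩, ⟨_, hgen 2⟩, ⟨_, hgen 3⟩] : Fin 4 → E) k : G) = gen k := by
      fin_cases k <;> rfl
    simp only [o] at h
    rw [hk] at h
    have hgi : (gen k)⁻¹ = gen k := hi ⟨_, hgen k⟩
    rw [hgi, h, neg_one_smul, neg_one_mul]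
  · show (e (dec (enc (genPt k))) : G) = gen k
    rw [dec_enc, he1 k]
    fin_cases k <;> rfl

theorem pow_nine_mem_center [Finite G] {E : Set G} (hE : Braided E) {a b c d : G}
    (ha : a ∈ E) (hb : b ∈ E) (hc : c ∈ E) (hd : d ∈ E) :
    ∀ g ∈ Subgroup.closure ({a * b, c * d} : Set G),
      ∀ h ∈ Subgroup.closure ({a * b, c * d} : Set G), Commute (g ^ 9) h := by
  obtain ⟨e, he⟩ := exists_acts hE ![a, b, c, d] (by
    intro k; fin_cases k <;> assumption)
  have key : ∀ g ∈ Subgroup.closure ({a * b, c * d} : Set G), Acts e 1 g := by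
    intro g hg
    rw [← Subgroup.mem_toSubmonoid, Subgroup.closure_toSubmonoid_of_finite] at hg
    induction hg using Submonoid.closure_induction with
    | mem x hx =>
      rcases hx with rfl | rfl
      · simpa using acts_mul (he 0).1 (he 1).1
      · simpa using acts_mul (he 2).1 (he 3).1
    | one => exact acts_one e
    | mul x y _ _ hx hy => simpa using acts_mul hx hy
  intro g hg h hh
  have hfix : ∀ k, Commute (g ^ 9) (![a, b, c, d] k) := by
    intro k
    obtain ⟨p, hp⟩ := (he k).2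
    have := pow_nine_fixes (key g hg) p
    rw [hp] at this
    exact mul_inv_eq_iff_eq_mul.1 this
  have hle : Subgroup.closure ({a * b, c * d} : Set G) ≤ Subgroup.centralizer ({g ^ 9} : Set G) := by
    rw [Subgroup.closure_le]
    rintro x (rfl | rfl) <;> rw [SetLike.mem_coe, Subgroup.mem_centralizer_singleton_iff]
    · exact ((hfix 0).mul_right (hfix 1)).eq.symm
    · exact ((hfix 2).mul_right (hfix 3)).eq.symm
  exact (Subgroup.mem_centralizer_singleton_iff.1 (hle hh)).symm

theorem isPGroup_of_central_quotient {H : Type*} [Group H] [Finite H] {p : ℕ} [Fact p.Prime]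
    {s : Set H} (hs : Subgroup.closure s = ⊤) (hgen : ∀ x ∈ s, x ^ p = 1)
    (k : ℕ) (hpow : ∀ g : H, g ^ (p ^ k) ∈ Subgroup.center H) : IsPGroup p H := by
  obtain ⟨P⟩ : Nonempty (Sylow p H) := inferInstance
  have hq : IsPGroup p (H ⧸ Subgroup.center H) := by
    intro q
    induction q using QuotientGroup.induction_on with
    | H g => exact ⟨k, by rw [← QuotientGroup.mk_pow, QuotientGroup.eq_one_iff]; exact hpow g⟩
  have htop : (P : Subgroup H) ⊔ Subgroup.center H = ⊤ := by
    obtain ⟨n, hn⟩ := hq.exists_card_eq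
    rw [← Subgroup.index_eq_one]
    have h1 : ((P : Subgroup H) ⊔ Subgroup.center H).index ∣ (P : Subgroup H).index :=
      Subgroup.index_dvd_of_le le_sup_left
    have h2 : ((P : Subgroup H) ⊔ Subgroup.center H).index ∣ p ^ n :=
      hn ▸ Subgroup.index_dvd_of_le le_sup_right
    have hc : ((P : Subgroup H).index).Coprime (p ^ n) :=
      ((Fact.out : p.Prime).coprime_iff_not_dvd.2 P.not_dvd_index).symm.pow_right n
    exact Nat.eq_one_of_dvd_coprimes hc h1 h2
  have hnorm : (P : Subgroup H).Normal := by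
    rw [← Subgroup.normalizer_eq_top_iff, eq_top_iff, ← htop, sup_le_iff]
    refine ⟨Subgroup.le_normalizer, fun z hz => ?_⟩
    rw [Subgroup.mem_normalizer_iff]
    intro y
    rw [← Subgroup.mem_center_iff.1 hz y, mul_inv_cancel_right]
  have hall : (P : Subgroup H) = ⊤ := by
    rw [eq_top_iff, ← hs, Subgroup.closure_le]
    intro x hx
    have hxp : IsPGroup p (Subgroup.zpowers x) := by
      rintro ⟨y, hy⟩
      obtain ⟨i, rfl⟩ := Subgroup.mem_zpowers_iff.1 hy
      exact ⟨1, Subtype.ext (by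
        show (x ^ i) ^ p ^ 1 = 1
        rw [pow_one, ← zpow_natCast, zpow_comm, zpow_natCast, hgen x hx, one_zpow])⟩
    obtain ⟨Q, hQ⟩ := hxp.exists_le_sylow
    have : Q = P := by
      haveI := hnorm
      haveI := Sylow.unique_of_normal P hnorm
      exact Subsingleton.elim Q P
    exact this ▸ hQ (Subgroup.mem_zpowers x)
  have := P.isPGroup'
  rw [hall] at this
  exact this.of_equiv Subgroup.topEquiv

/-- Products of two members of a braided set of involutions generate a 3-group. -/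
theorem isPGroup_products [Finite G] {E : Set G} (hE : Braided E) :
    IsPGroup 3 (Subgroup.closure {z | ∃ x ∈ E, ∃ y ∈ E, z = x * y}) := by
  have : Fact (Nat.Prime 3) := ⟨Nat.prime_three⟩
  set K := Subgroup.closure E
  set D : Set K := {z | ∃ x ∈ E, ∃ y ∈ E, (z : G) = x * y}
  have hconj : ∀ g ∈ K, ∀ x ∈ E, g * x * g⁻¹ ∈ E := by
    intro g hg
    rw [← Subgroup.mem_toSubmonoid, Subgroup.closure_toSubmonoid_of_finite] at hg
    induction hg using Submonoid.closure_induction with
    | mem a ha => intro x hx; rw [inv_eq_of_mul_eq_one_right (hE.sq a ha)]; exact hE.closed a ha x hx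
    | one => intro x hx; simpa using hx
    | mul a b _ _ iha ihb =>
      intro x hx
      simpa [mul_assoc] using iha _ (ihb x hx)
  have hP : IsPGroup 3 (Subgroup.closure D) := by
    apply CfsgLib.Involutions.isPGroup_closure_of_pairwise
    · rintro g z ⟨x, hx, y, hy, hz⟩
      exact ⟨_, hconj g g.2 x hx, _, hconj g g.2 y hy, by simp [hz, mul_assoc]⟩
    · rintro u ⟨a, ha, b, hb, hu⟩ w ⟨c, hc, d, hd, hw⟩
      set H := Subgroup.closure ({u, w} : Set K)
      have hmap : ∀ g ∈ H, (g : G) ∈ Subgroup.closure ({a * b, c * d} : Set G) := by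
        intro g hg
        have h := Subgroup.mem_map_of_mem K.subtype hg
        rw [MonoidHom.map_closure, Set.image_pair] at h
        simpa [hu, hw] using h
      have hsq : ∀ x ∈ E, ∀ y ∈ E, (x * y) ^ 3 = 1 := by
        intro x hx y hy
        have h1 : (x * y * x) * (y * x * y) = 1 := by
          rw [← hE.braid x hx y hy]
          simp [mul_assoc, ← mul_assoc x x, ← mul_assoc y y, hE.sq x hx, hE.sq y hy]
        rw [← h1]; simp [pow_succ, mul_assoc]
      refine isPGroup_of_central_quotient (s := {⟨u, Subgroup.subset_closure (Or.inl rfl)⟩,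
        ⟨w, Subgroup.subset_closure (Or.inr rfl)⟩}) ?_ ?_ 2 ?_
      · rw [← Subgroup.map_injective H.subtype_injective |>.eq_iff, MonoidHom.map_closure,
          Set.image_pair, ← MonoidHom.range_eq_map, Subgroup.range_subtype]
        rfl
      · rintro x (rfl | rfl) <;> apply Subtype.ext <;> apply Subtype.ext
        · show (u : G) ^ 3 = 1
          rw [hu]; exact hsq a ha b hb
        · show (w : G) ^ 3 = 1
          rw [hw]; exact hsq c hc d hd
      · intro g
        rw [Subgroup.mem_center_iff]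
        intro h
        apply Subtype.ext
        apply Subtype.ext
        exact (pow_nine_mem_center hE ha hb hc hd _ (hmap _ g.2) _ (hmap _ h.2)).eq.symm
  have hsurj : (Subgroup.closure D).map K.subtype = Subgroup.closure {z | ∃ x ∈ E, ∃ y ∈ E, z = x * y} := by
    rw [MonoidHom.map_closure]
    congr 1
    ext z
    refine ⟨?_, ?_⟩
    · rintro ⟨u, ⟨x, hx, y, hy, h⟩, rfl⟩; exact ⟨x, hx, y, hy, h⟩
    · rintro ⟨x, hx, y, hy, rfl⟩
      exact ⟨⟨x * y, K.mul_mem (Subgroup.subset_closure hx) (Subgroup.subset_closure hy)⟩,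
        ⟨x, hx, y, hy, rfl⟩, rfl⟩
  exact hsurj ▸ hP.map K.subtype

end CfsgLib.ThreeTrans.WidthOne
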