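import Mathlib
import Cfsg.Agent.Lib.ThreeTrans.Basic
import Cfsg.Agent.Lib.ThreeTrans.WidthOne
import Cfsg.Agent.Lib.PCore.Basic

/-! The classes V_d and W_d of a set of 3-transpositions and their relation to the cores. -/

namespace CfsgLib.ThreeTrans

variable {G : Type*} [Group G] {D : Set G}

/-- `v` commutes with exactly the same members of `D` as `d`. -/
def VRel (D : Set G) (d v : G) : Prop :=
  d ∈ D ∧ v ∈ D ∧ ∀ e ∈ D, (Commute v e ↔ Commute d e)

/-- `w` and `d` have the same other commuting members. -/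
def WRel (D : Set G) (d w : G) : Prop :=
  d ∈ D ∧ w ∈ D ∧
    {y : G | y ∈ D ∧ y ≠ d ∧ Commute d y} = {y : G | y ∈ D ∧ y ≠ w ∧ Commute w y}

theorem eq_one_of_mem_pGroup {p q : ℕ} (hp : p.Prime) (hq : q.Prime) (hpq : p ≠ q)
    {N : Subgroup G} (hN : IsPGroup p N) {x : G} (hx : x ∈ N) (hxq : x ^ q = 1) : x = 1 := by
  obtain ⟨k, hk⟩ := hN ⟨x, hx⟩
  have hk' : x ^ (p ^ k) = 1 := by simpa using congrArg Subtype.val hk
  exact orderOf_eq_one_iff.1 (Nat.eq_one_of_dvd_coprimes
    (Nat.Coprime.pow_left k ((Nat.coprime_primes hp hq).2 hpq))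
    (orderOf_dvd_of_pow_eq_one hk') (orderOf_dvd_of_pow_eq_one hxq))

theorem conj_set_eq {D : Set G} (h : ConjClosed D) (g : G) (P : G → G → Prop)
    (hP : ∀ a b, P (g * a * g⁻¹) (g * b * g⁻¹) ↔ P a b) (a : G) :
    {y | y ∈ D ∧ P (g * a * g⁻¹) y} = (fun y => g * y * g⁻¹) '' {y | y ∈ D ∧ P a y} := by
  ext y
  constructor
  · rintro ⟨hy, hP'⟩
    refine ⟨g⁻¹ * y * g, ⟨h.conj' g hy, (hP a _).1 ?_⟩, by group⟩
    simpa [mul_assoc] using hP'
  · rintro ⟨z, ⟨hz, hP'⟩, rfl⟩
    exact ⟨h.conj g z hz, (hP a z).2 hP'⟩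

theorem VRel.refl {d : G} (hd : d ∈ D) : VRel D d d := ⟨hd, hd, fun _ _ => Iff.rfl⟩

theorem VRel.symm {d v : G} (h : VRel D d v) : VRel D v d :=
  ⟨h.2.1, h.1, fun e he => (h.2.2 e he).symm⟩

theorem VRel.trans {a b c : G} (h : VRel D a b) (k : VRel D b c) : VRel D a c :=
  ⟨h.1, k.2.1, fun e he => (k.2.2 e he).trans (h.2.2 e he)⟩

theorem VRel.conj (hD : ConjClosed D) (g : G) {d v : G} (h : VRel D d v) :
    VRel D (g * d * g⁻¹) (g * v * g⁻¹) := by
  refine ⟨hD.conj g d h.1, hD.conj g v h.2.1, fun e he => ?_⟩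
  have := h.2.2 _ (hD.conj' g he)
  rw [← commute_conj_iff g v, ← commute_conj_iff g d] at this
  simpa [mul_assoc] using this

theorem VRel.commute {d v : G} (h : VRel D d v) : Commute d v :=
  (h.2.2 v h.2.1).1 (Commute.refl v)

theorem WRel.refl {d : G} (hd : d ∈ D) : WRel D d d := ⟨hd, hd, rfl⟩

theorem WRel.symm {d v : G} (h : WRel D d v) : WRel D v d := ⟨h.2.1, h.1, h.2.2.symm⟩

theorem WRel.trans {a b c : G} (h : WRel D a b) (k : WRel D b c) : WRel D a c :=
  ⟨h.1, k.2.1, h.2.2.trans k.2.2⟩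

theorem WRel.conj (hD : ConjClosed D) (g : G) {d v : G} (h : WRel D d v) :
    WRel D (g * d * g⁻¹) (g * v * g⁻¹) := by
  have hP : ∀ a b, (g * b * g⁻¹ ≠ g * a * g⁻¹ ∧ Commute (g * a * g⁻¹) (g * b * g⁻¹)) ↔
      (b ≠ a ∧ Commute a b) := fun a b => by
    rw [commute_conj_iff]; simp
  refine ⟨hD.conj g d h.1, hD.conj g v h.2.1, ?_⟩
  rw [conj_set_eq hD g (fun a y => y ≠ a ∧ Commute a y) hP d,
    conj_set_eq hD g (fun a y => y ≠ a ∧ Commute a y) hP v, h.2.2]

theorem WRel.commute_iff {d w e : G} (h : WRel D d w) (he : e ∈ D) (h1 : e ≠ d) (h2 : e ≠ w) :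
    Commute d e ↔ Commute w e := by
  have := Set.ext_iff.1 h.2.2 e
  simp only [Set.mem_ofPred_eq] at this
  tauto

theorem WRel.not_commute {d w : G} (h : WRel D d w) (hne : d ≠ w) : ¬ Commute d w := fun hc => by
  have : w ∈ {y : G | y ∈ D ∧ y ≠ d ∧ Commute d y} := ⟨h.2.1, hne.symm, hc⟩
  rw [h.2.2] at this
  exact this.2.1 rfl

theorem VRel.wRel_eq {d v w : G} (hv : VRel D d v) (hw : WRel D d w) : v = d ∨ w = d := by
  by_contra! h
  have : v ∈ {y : G | y ∈ D ∧ y ≠ d ∧ Commute d y} := ⟨hv.2.1, h.1, hv.commute⟩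
  rw [hw.2.2] at this
  exact hw.not_commute h.2.symm ((hv.2.2 w hw.2.1).1 this.2.2.symm)

/-- The common conjugation identity behind both class invariances. -/
theorem conj_mul_mem_of_rel (hD : ConjClosed D) (R : G → G → Prop)
    (hR : ∀ g a b, R a b → R (g * a * g⁻¹) (g * b * g⁻¹))
    {d v e : G} (hd : d ∈ D) (hv : v ∈ D) (he : e ∈ D) (hdv : R d v)
    (hde : ¬ Commute d e) (hve : ¬ Commute v e) :
    R e ((d * v) * e * (d * v)⁻¹) := by
  have hs := hD.set
  have h := hR (d * e) d v hdv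
  have b1 := braid hs hd he hde
  have b2 := braid hs hv he hve
  have e1 : d * e * d * (d * e)⁻¹ = e := by
    rw [mul_inv_rev, inv_eq hs hd, inv_eq hs he]
    calc d * e * d * (e * d) = d * e * d * e * d := by simp [mul_assoc]
      _ = d * (e * d * e) * d := by simp [mul_assoc]
      _ = e := by rw [← b1]; simp [mul_assoc, mul_self hs hd, mul_self_mul hs hd]
  have e2 : d * e * v * (d * e)⁻¹ = d * v * e * (d * v)⁻¹ := by
    rw [mul_inv_rev, mul_inv_rev, inv_eq hs hd, inv_eq hs he, inv_eq hs hv]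
    calc d * e * v * (e * d) = d * (e * v * e) * d := by simp [mul_assoc]
      _ = d * (v * e * v) * d := by rw [b2]
      _ = d * v * e * (v * d) := by simp [mul_assoc]
  rwa [e1, e2] at h

theorem VRel.conj_mul (hD : ConjClosed D) {d v e : G} (h : VRel D d v) (he : e ∈ D) :
    VRel D e ((d * v) * e * (d * v)⁻¹) := by
  by_cases hc : Commute d e
  · have hcv : Commute v e := (h.2.2 e he).2 hc
    rw [mul_inv_eq_iff_eq_mul.2 (hc.mul_left hcv).eq]
    exact VRel.refl he
  · exact conj_mul_mem_of_rel hD (VRel D) (fun g a b k => k.conj hD g) h.1 h.2.1 he h hc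
      fun k => hc ((h.2.2 e he).1 k)

theorem WRel.conj_mul (hD : ConjClosed D) {d v e : G} (h : WRel D d v) (he : e ∈ D) :
    WRel D e ((d * v) * e * (d * v)⁻¹) := by
  have hs := hD.set
  rcases eq_or_ne e d with rfl | hed
  · have h' := h.conj hD e
    have h'' := h'.conj hD (e * v)
    by_cases hev : e = v
    · subst hev; simp [mul_self hs he, WRel.refl he]
    · have b := braid hs he h.2.1 (h.not_commute hev)
      have e1 : e * v * e * (e * v)⁻¹ = v := by
        rw [mul_inv_rev, inv_eq hs he, inv_eq hs h.2.1]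
        calc e * v * e * (v * e) = e * (v * e * v) * e := by simp [mul_assoc]
          _ = v := by rw [← b]; simp [mul_assoc, mul_self hs he, mul_self_mul hs he]
      rw [e1]; exact h
  rcases eq_or_ne e v with rfl | hev
  · have : WRel D e ((d * e) * e * (d * e)⁻¹) := by
      have e1 : d * e * e * (d * e)⁻¹ = d * e * d⁻¹ := by group
      rw [e1]
      have h1 : d * d * d⁻¹ = d := by group
      have h2 := h.conj hD d
      rw [h1] at h2
      exact h.symm.trans h2
    exact this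
  by_cases hc : Commute d e
  · have hcv : Commute v e := (h.commute_iff he hed hev).1 hc
    rw [mul_inv_eq_iff_eq_mul.2 (hc.mul_left hcv).eq]
    exact WRel.refl he
  · exact conj_mul_mem_of_rel hD (WRel D) (fun g a b k => k.conj hD g) h.1 h.2.1 he h hc
      fun k => hc ((h.commute_iff he hed hev).2 k)

/-- Products of related pairs lie in a core, once each class generates a `p`-group of products. -/
theorem mul_mem_pCore_of_rel [Finite G] (hD : ConjClosed D) (R : G → G → Prop)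
    (hrefl : ∀ a ∈ D, R a a) (hsymm : ∀ a b, R a b → R b a)
    (htrans : ∀ a b c, R a b → R b c → R a c) (hmem : ∀ a b, R a b → a ∈ D ∧ b ∈ D)
    (hR : ∀ g a b, R a b → R (g * a * g⁻¹) (g * b * g⁻¹))
    (hstab : ∀ a b e, R a b → e ∈ D → R e ((a * b) * e * (a * b)⁻¹))
    {p : ℕ} [Fact p.Prime]
    (hp : ∀ d ∈ D, IsPGroup p (Subgroup.closure {z | ∃ x y, R d x ∧ R d y ∧ z = x * y}))
    {d v : G} (h : R d v) : d * v ∈ Cfsg.pCore p G := by
  let K : Subgroup G :=
    { carrier := {g | ∀ e ∈ D, R e (g * e * g⁻¹)}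
      mul_mem' := fun {a b} ha hb e he => by
        have h2 := hR a _ _ (hb e he)
        have h1 := ha e he
        have := htrans _ _ _ h1 h2
        simpa [mul_assoc] using this
      one_mem' := fun e he => by simpa using hrefl e he
      inv_mem' := fun {a} ha e he => by
        have := hsymm _ _ (ha _ (hD.conj' a he))
        simpa [mul_assoc] using this }
  have hK : K.Normal := ⟨fun g hg x e he => by
    have := hR x _ _ (hg _ (hD.conj' x he))
    simpa [mul_assoc] using this⟩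
  have hd := (hmem _ _ h).1
  set B := Subgroup.closure {z | ∃ x y, R d x ∧ R d y ∧ z = x * y}
  have hBK : B ≤ K := by
    rw [Subgroup.closure_le]
    rintro _ ⟨x, y, hx, hy, rfl⟩ e he
    exact hstab x y e (htrans _ _ _ (hsymm _ _ hx) hy) he
  have hN : (B.subgroupOf K).Normal := by
    refine Subgroup.normal_subgroupOf_of_le_normalizer ?_
    intro g hg
    rw [Subgroup.mem_normalizer_iff]
    have key : ∀ g ∈ K, ∀ z ∈ B, g * z * g⁻¹ ∈ B := by
      intro g hg z hz
      induction hz using Subgroup.closure_induction with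
      | mem z hz =>
        obtain ⟨x, y, hx, hy, rfl⟩ := hz
        refine Subgroup.subset_closure ⟨g * x * g⁻¹, g * y * g⁻¹, ?_, ?_, by group⟩
        · exact htrans _ _ _ hx (hg x (hmem _ _ hx).2)
        · exact htrans _ _ _ hy (hg y (hmem _ _ hy).2)
      | one => simp
      | mul a b _ _ iha ihb =>
        have := B.mul_mem iha ihb
        simpa [mul_assoc] using this
      | inv a _ ih => simpa [mul_assoc] using B.inv_mem ih
    refine fun z => ⟨key g hg z, fun hz => ?_⟩
    have := key g⁻¹ (K.inv_mem hg) _ hz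
    simpa [mul_assoc] using this
  have hsub : B.IsSubnormal := by
    have h1 : (B.subgroupOf K).IsSubnormal := hN.isSubnormal
    exact (Subgroup.IsSubnormal.trans hBK h1 hK.isSubnormal)
  exact CfsgLib.PCore.le_pCore_of_isSubnormal hsub (hp d hd)
    (Subgroup.subset_closure ⟨d, v, hrefl d hd, h, rfl⟩)

theorem VRel.mul_mem_pCore [Finite G] (hD : ConjClosed D) {d v : G} (h : VRel D d v) :
    d * v ∈ Cfsg.pCore 2 G := by
  have : Fact (Nat.Prime 2) := ⟨Nat.prime_two⟩
  refine mul_mem_pCore_of_rel hD (VRel D) (fun a ha => VRel.refl ha) (fun a b k => k.symm)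
    (fun a b c k l => k.trans l) (fun a b k => ⟨k.1, k.2.1⟩) (fun g a b k => k.conj hD g)
    (fun a b e k he => k.conj_mul hD he) (fun d hd => ?_) h
  have hcomm : ∀ x y, VRel D d x → VRel D d y → Commute x y :=
    fun x y hx hy => (hx.symm.trans hy).commute
  have hgen : ∀ z ∈ {z | ∃ x y, VRel D d x ∧ VRel D d y ∧ z = x * y},
      z ∈ Subgroup.closure {x | VRel D d x} := by
    rintro _ ⟨x, y, hx, hy, rfl⟩
    exact mul_mem (Subgroup.subset_closure hx) (Subgroup.subset_closure hy)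
  refine IsPGroup.to_le ?_ ((Subgroup.closure_le _).2 hgen)
  have hc := Subgroup.isMulCommutative_closure (k := {x | VRel D d x})
    fun x hx y hy => hcomm x y hx hy
  rintro ⟨x, hx⟩
  refine ⟨1, Subtype.ext ?_⟩
  show x ^ 2 ^ 1 = 1
  induction hx using Subgroup.closure_induction with
  | mem y hy => rw [pow_one, pow_two]; exact mul_self hD.set hy.2.1
  | one => simp
  | mul y z hy hz ihy ihz =>
    have hc' : Commute y z := congrArg Subtype.val (hc.is_comm.comm ⟨y, hy⟩ ⟨z, hz⟩)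
    rw [hc'.mul_pow, ihy, ihz, one_mul]
  | inv y hy ih => rw [inv_pow, ih, inv_one]

theorem WRel.braided (hD : ConjClosed D) (d : G) : WidthOne.Braided {x | WRel D d x} where
  sq x hx := mul_self hD.set hx.2.1
  braid x hx y hy := by
    rcases eq_or_ne x y with rfl | hne
    · rfl
    · exact braid hD.set hx.2.1 hy.2.1 ((hx.symm.trans hy).not_commute hne)
  closed x hx y hy := by
    have h1 := (hx.symm.trans hy).conj hD x
    rw [inv_eq hD.set hx.2.1, mul_self hD.set hx.2.1, one_mul] at h1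
    exact hx.trans h1

theorem WRel.mul_mem_pCore [Finite G] (hD : ConjClosed D) {d w : G} (h : WRel D d w) :
    d * w ∈ Cfsg.pCore 3 G := by
  have : Fact (Nat.Prime 3) := ⟨Nat.prime_three⟩
  refine mul_mem_pCore_of_rel hD (WRel D) (fun a ha => WRel.refl ha) (fun a b k => k.symm)
    (fun a b c k l => k.trans l) (fun a b k => ⟨k.1, k.2.1⟩) (fun g a b k => k.conj hD g)
    (fun a b e k he => k.conj_mul hD he) (fun d hd => ?_) h
  have hE := WidthOne.isPGroup_products (WRel.braided hD d)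
  have hset : {z | ∃ x y, WRel D d x ∧ WRel D d y ∧ z = x * y} =
      {z | ∃ x ∈ {x | WRel D d x}, ∃ y ∈ {x | WRel D d x}, z = x * y} := by
    ext z
    exact ⟨fun ⟨x, y, hx, hy, e⟩ => ⟨x, hx, y, hy, e⟩, fun ⟨x, hx, y, hy, e⟩ => ⟨x, y, hx, hy, e⟩⟩
  exact hset ▸ hE

theorem vRel_of_mul_mem [Finite G] (hD : ConjClosed D) {d v : G} (hd : d ∈ D) (hv : v ∈ D)
    (h : d * v ∈ Cfsg.pCore 2 G) : VRel D d v := by
  have hP : IsPGroup 2 (Cfsg.pCore 2 G) := CfsgLib.PCore.pCore_isPGroup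
  have key : ∀ a b, a ∈ D → b ∈ D → a * b ∈ Cfsg.pCore 2 G → ∀ e ∈ D, Commute a e → Commute b e := by
    intro a b ha hb hab e he hae
    by_contra hbe
    have h3 := pow_three_of_not_commute hD.set he hb fun k => hbe k.symm
    have hN := Cfsg.pCore_normal 2 G
    have e1 : ((e * b : G) : G ⧸ Cfsg.pCore 2 G) = (e * a : G) := by
      rw [QuotientGroup.mk_mul, QuotientGroup.mk_mul, mul_right_inj, eq_comm, QuotientGroup.eq,
        inv_eq hD.set ha]
      exact hab
    have h2 : ((e * b : G) : G ⧸ Cfsg.pCore 2 G) ^ 2 = 1 := by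
      rw [e1, ← QuotientGroup.mk_pow, (sq_eq_one_iff hD.set he ha).2 hae.symm, QuotientGroup.mk_one]
    have h3' : ((e * b : G) : G ⧸ Cfsg.pCore 2 G) ^ 3 = 1 := by
      rw [← QuotientGroup.mk_pow, h3, QuotientGroup.mk_one]
    rw [pow_succ, h2, one_mul, QuotientGroup.eq_one_iff] at h3'
    have := eq_one_of_mem_pGroup Nat.prime_two Nat.prime_three (by norm_num) hP h3' h3
    rw [mul_eq_one_iff_eq' hD.set hb] at this
    exact hbe (this ▸ Commute.refl b)
  have h' : v * d ∈ Cfsg.pCore 2 G := by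
    have := inv_mem h
    rwa [mul_inv_rev, inv_eq hD.set hd, inv_eq hD.set hv] at this
  exact ⟨hd, hv, fun e he => ⟨key v d hv hd h' e he, key d v hd hv h e he⟩⟩

theorem wRel_of_mul_mem [Finite G] (hD : ConjClosed D) {d v : G} (hd : d ∈ D) (hv : v ∈ D)
    (h : d * v ∈ Cfsg.pCore 3 G) : WRel D d v := by
  have hP : IsPGroup 3 (Cfsg.pCore 3 G) := CfsgLib.PCore.pCore_isPGroup
  have hN := Cfsg.pCore_normal 3 G
  have key : ∀ a b, a ∈ D → b ∈ D → a * b ∈ Cfsg.pCore 3 G → ∀ e ∈ D, e ≠ a → Commute a e →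
      e ≠ b ∧ Commute b e := by
    intro a b ha hb hab e he hne hae
    refine ⟨fun heb => hne ?_, ?_⟩
    · subst heb
      exact ((mul_eq_one_iff_eq' hD.set he).1 (eq_one_of_mem_pGroup Nat.prime_three Nat.prime_two
        (by norm_num) hP hab ((sq_eq_one_iff hD.set ha he).2 hae))).symm
    · by_contra hbe
      have h3 := pow_three_of_not_commute hD.set he hb fun k => hbe k.symm
      have h2 : (e * a) ^ 2 = 1 := (sq_eq_one_iff hD.set he ha).2 hae.symm
      have e1 : ((e * a : G) : G ⧸ Cfsg.pCore 3 G) = (e * b : G) := by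
        rw [QuotientGroup.mk_mul, QuotientGroup.mk_mul, mul_right_inj, QuotientGroup.eq,
          inv_eq hD.set ha]
        exact hab
      have h3' : ((e * a : G) : G ⧸ Cfsg.pCore 3 G) ^ 3 = 1 := by
        rw [e1, ← QuotientGroup.mk_pow, h3, QuotientGroup.mk_one]
      rw [pow_succ, ← QuotientGroup.mk_pow, h2, QuotientGroup.mk_one, one_mul,
        QuotientGroup.eq_one_iff] at h3'
      exact hne ((mul_eq_one_iff_eq' hD.set ha).1
        (eq_one_of_mem_pGroup Nat.prime_three Nat.prime_two (by norm_num) hP h3' h2))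
  have h' : v * d ∈ Cfsg.pCore 3 G := by
    have := inv_mem h
    rwa [mul_inv_rev, inv_eq hD.set hd, inv_eq hD.set hv] at this
  refine ⟨hd, hv, Set.ext fun e => ⟨fun ⟨he, h1, h2⟩ => ⟨he, key d v hd hv h e he h1 h2⟩,
    fun ⟨he, h1, h2⟩ => ⟨he, key v d hv hd h' e he h1 h2⟩⟩⟩

theorem exists_not_commute (hgen : Subgroup.closure D = ⊤) (hD : ConjClosed D)
    (hclass : ∀ a ∈ D, ∀ b ∈ D, ∃ g : G, g * a * g⁻¹ = b) (hD2 : ∃ a ∈ D, ∃ b ∈ D, a ≠ b)
    {d : G} (hd : d ∈ D) : ∃ e ∈ D, ¬ Commute d e := by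
  by_contra! h
  have hc := mem_center_of_commute hgen h
  obtain ⟨a, ha, b, hb, hne⟩ := hD2
  obtain ⟨g, hg⟩ := hclass d hd a ha
  obtain ⟨k, hk⟩ := hclass d hd b hb
  rw [Subgroup.mem_center_iff] at hc
  rw [hc, mul_inv_cancel_right] at hg hk
  exact hne (hg.symm.trans hk)

theorem pCore_le_center_of_three_lt [Finite G] (hD : ConjClosed D)
    (hgen : Subgroup.closure D = ⊤) {p : ℕ} (hp : p.Prime) (hp3 : 3 < p) :
    Cfsg.pCore p G ≤ Subgroup.center G := by
  intro x hx
  refine mem_center_of_commute hgen fun d hd => ?_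
  have hN := Cfsg.pCore_normal p G
  have hm : d * (x * d * x⁻¹) ∈ Cfsg.pCore p G := by
    have := mul_mem (hN.conj_mem x hx d) (inv_mem hx)
    rw [inv_eq hD.set hd] at this
    simpa [mul_assoc] using this
  have h1 : d * (x * d * x⁻¹) = 1 := by
    have hq : ∃ q : ℕ, q.Prime ∧ p ≠ q ∧ (d * (x * d * x⁻¹)) ^ q = 1 :=
      (hD.set.2 d hd _ (hD.conj x d hd)).elim (fun h => ⟨2, Nat.prime_two, by omega, h⟩)
        (fun h => ⟨3, Nat.prime_three, by omega, h⟩)
    obtain ⟨q, hq, hpq, h⟩ := hq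
    exact eq_one_of_mem_pGroup hp hq hpq CfsgLib.PCore.pCore_isPGroup hm h
  rw [mul_eq_one_iff_eq' hD.set (hD.conj x d hd)] at h1
  show x * d = d * x
  conv_rhs => rw [h1]
  group

end CfsgLib.ThreeTrans
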