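import Mathlib
import Cfsg.Agent.Lib.ThreeTrans.Cores
import Cfsg.Agent.Lib.Components.FStar

/-! Fitting subgroup and layer of a group generated by a class of 3-transpositions. -/

namespace CfsgLib.ThreeTrans

variable {G : Type*} [Group G] [Finite G] {D : Set G}

/-- A class of 3-transpositions with at least two members. -/
structure ClassTwo (D : Set G) : Prop where
  closed : ConjClosed D
  gen : Subgroup.closure D = ⊤
  class_eq : ∀ a ∈ D, ∀ b ∈ D, ∃ g : G, g * a * g⁻¹ = b
  two : ∃ a ∈ D, ∃ b ∈ D, a ≠ b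

theorem classTwo_of (h : Cfsg.IsThreeTranspositionClass D) (h2 : ∃ a ∈ D, ∃ b ∈ D, a ≠ b) :
    ClassTwo D :=
  ⟨conjClosed_of_class h, h.2.2, fun _ ha _ hb => class_conj h ha hb, h2⟩

namespace ClassTwo

variable (hD : ClassTwo D)
include hD

theorem vRel_iff {d v : G} (hd : d ∈ D) :
    VRel D d v ↔ ∃ x ∈ Cfsg.pCore 2 G, v = x * d * x⁻¹ := by
  have hs := hD.closed.set
  have hN : (Cfsg.pCore 2 G).Normal := Cfsg.pCore_normal 2 G
  constructor
  · intro h
    by_cases hvd : v = d
    · exact ⟨1, one_mem _, by simp [hvd]⟩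
    obtain ⟨e, he, hde⟩ := exists_not_commute hD.gen hD.closed hD.class_eq hD.two hd
    have hve : ¬ Commute v e := fun k => hde ((h.2.2 e he).1 k)
    refine ⟨e * (d * v) * e⁻¹, hN.conj_mem _ (h.mul_mem_pCore hD.closed) e, ?_⟩
    have b1 := braid hs hd he hde
    have b2 := braid hs h.2.1 he hve
    have hdvd : d * v * d = v := by
      rw [h.commute.eq, mul_assoc, mul_self hs hd, mul_one]
    simp only [mul_inv_rev, inv_inv, inv_eq hs hd, inv_eq hs h.2.1, inv_eq hs he]
    have h2 : e * (d * v) * e * d * (e * (v * d * e)) = e * d * v * (e * d * e) * v * d * e := by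
      simp [mul_assoc]
    rw [h2, ← b1]
    calc v = e * (v * e * v) * e := by rw [b2]; simp [mul_assoc, mul_self hs he, mul_self_mul hs he]
      _ = e * (d * v * d) * e * (d * v * d) * e := by rw [hdvd]; simp [mul_assoc]
      _ = e * d * v * (d * e * d) * v * d * e := by simp [mul_assoc]
  · rintro ⟨x, hx, rfl⟩
    refine vRel_of_mul_mem hD.closed hd (hD.closed.conj x d hd) ?_
    have := mul_mem (hN.conj_mem x hx d) (inv_mem hx)
    rw [inv_eq hs hd] at this
    simpa [mul_assoc] using this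

theorem wRel_iff {d w : G} (hd : d ∈ D) :
    WRel D d w ↔ ∃ x ∈ Cfsg.pCore 3 G, w = x * d * x⁻¹ := by
  have hs := hD.closed.set
  have hN : (Cfsg.pCore 3 G).Normal := Cfsg.pCore_normal 3 G
  constructor
  · intro h
    by_cases hwd : w = d
    · exact ⟨1, one_mem _, by simp [hwd]⟩
    refine ⟨d * w, h.mul_mem_pCore hD.closed, ?_⟩
    have b := braid hs hd h.2.1 (h.not_commute (Ne.symm hwd))
    simp only [mul_inv_rev, inv_eq hs hd, inv_eq hs h.2.1]
    calc w = d * (w * d * w) * d := by rw [← b]; simp [mul_assoc, mul_self hs hd, mul_self_mul hs hd]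
      _ = d * w * d * (w * d) := by simp [mul_assoc]
  · rintro ⟨x, hx, rfl⟩
    refine wRel_of_mul_mem hD.closed hd (hD.closed.conj x d hd) ?_
    have := mul_mem (hN.conj_mem x hx d) (inv_mem hx)
    rw [inv_eq hs hd] at this
    simpa [mul_assoc] using this

theorem exists_vRel_ne (h : ¬ Cfsg.pCore 2 G ≤ Subgroup.center G) {d : G} (hd : d ∈ D) :
    ∃ v, VRel D d v ∧ v ≠ d := by
  by_contra! hall
  refine h fun x hx => mem_center_of_commute hD.gen fun e he => ?_
  obtain ⟨g, hg⟩ := hD.class_eq e he d hd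
  have hx' : g * x * g⁻¹ ∈ Cfsg.pCore 2 G := (Cfsg.pCore_normal 2 G).conj_mem x hx g
  have h1 := hall _ ((hD.vRel_iff hd).2 ⟨_, hx', rfl⟩)
  rw [← hg] at h1
  have h2 : g * (x * e * x⁻¹) * g⁻¹ = g * e * g⁻¹ := by rw [← h1]; group
  exact mul_inv_eq_iff_eq_mul.1 (mul_left_cancel (mul_right_cancel h2))

theorem exists_wRel_ne (h : ¬ Cfsg.pCore 3 G ≤ Subgroup.center G) {d : G} (hd : d ∈ D) :
    ∃ v, WRel D d v ∧ v ≠ d := by
  by_contra! hall
  refine h fun x hx => mem_center_of_commute hD.gen fun e he => ?_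
  obtain ⟨g, hg⟩ := hD.class_eq e he d hd
  have hx' : g * x * g⁻¹ ∈ Cfsg.pCore 3 G := (Cfsg.pCore_normal 3 G).conj_mem x hx g
  have h1 := hall _ ((hD.wRel_iff hd).2 ⟨_, hx', rfl⟩)
  rw [← hg] at h1
  have h2 : g * (x * e * x⁻¹) * g⁻¹ = g * e * g⁻¹ := by rw [← h1]; group
  exact mul_inv_eq_iff_eq_mul.1 (mul_left_cancel (mul_right_cancel h2))

theorem vRel_eq_self (h : Cfsg.pCore 2 G ≤ Subgroup.center G) {d v : G} (hv : VRel D d v) :
    v = d := by
  obtain ⟨x, hx, rfl⟩ := (hD.vRel_iff hv.1).1 hv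
  rw [← Subgroup.mem_center_iff.1 (h hx) d, mul_inv_cancel_right]

theorem wRel_eq_self (h : Cfsg.pCore 3 G ≤ Subgroup.center G) {d v : G} (hv : WRel D d v) :
    v = d := by
  obtain ⟨x, hx, rfl⟩ := (hD.wRel_iff hv.1).1 hv
  rw [← Subgroup.mem_center_iff.1 (h hx) d, mul_inv_cancel_right]

theorem not_both_noncentral :
    Cfsg.pCore 2 G ≤ Subgroup.center G ∨ Cfsg.pCore 3 G ≤ Subgroup.center G := by
  by_contra! h
  obtain ⟨d, hd, -⟩ := hD.two
  obtain ⟨v, hv, hv'⟩ := hD.exists_vRel_ne h.1 hd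
  obtain ⟨w, hw, hw'⟩ := hD.exists_wRel_ne h.2 hd
  exact (hv.wRel_eq hw).elim hv' hw'

theorem fitting_le_center (h2 : Cfsg.pCore 2 G ≤ Subgroup.center G)
    (h3 : Cfsg.pCore 3 G ≤ Subgroup.center G) : Cfsg.fittingSubgroup G ≤ Subgroup.center G := by
  rw [CfsgLib.Fitting.fitting_eq_iSup_pCore]
  refine iSup_le fun ⟨p, hp⟩ => ?_
  have hp := Nat.prime_of_mem_primeFactors hp
  rcases lt_or_ge 3 p with hlt | hle
  · exact pCore_le_center_of_three_lt hD.closed hD.gen hp hlt
  · rcases (show p = 2 ∨ p = 3 by have := hp.two_le; omega) with rfl | rfl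
    · exact h2
    · exact h3

theorem layer_ne_bot (h2 : Cfsg.pCore 2 G ≤ Subgroup.center G)
    (h3 : Cfsg.pCore 3 G ≤ Subgroup.center G) : Cfsg.layer G ≠ ⊥ := by
  intro h
  have hF : Cfsg.generalizedFittingSubgroup G ≤ Subgroup.center G := by
    rw [Cfsg.generalizedFittingSubgroup, h, bot_sup_eq]
    exact hD.fitting_le_center h2 h3
  obtain ⟨d, hd, -⟩ := hD.two
  obtain ⟨e, he, hde⟩ := exists_not_commute hD.gen hD.closed hD.class_eq hD.two hd
  have hc : d ∈ Subgroup.center G := by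
    refine hF (CfsgLib.Components.centralizer_generalizedFitting_le ?_)
    rw [Subgroup.mem_centralizer_iff]
    exact fun x hx => (Subgroup.mem_center_iff.1 (hF hx) d).symm
  exact hde (Subgroup.mem_center_iff.1 hc e).symm

omit [Finite G] in
theorem conj_normalized {E B : Subgroup G} (h : ∀ g ∈ E, ∀ z ∈ B, g * z * g⁻¹ ∈ B) :
    E ≤ Subgroup.normalizer (B : Set G) := by
  intro g hg
  rw [Subgroup.mem_normalizer_iff]
  refine fun z => ⟨h g hg z, fun hz => ?_⟩
  have := h g⁻¹ (inv_mem hg) _ hz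
  simpa [mul_assoc] using this

theorem layer_eq_bot_aux
    (h : ∀ d ∈ D, ∃ B : Subgroup G, Group.IsSolvable B ∧
      Cfsg.layer G ≤ Subgroup.normalizer (B : Set G) ∧
      ∀ g ∈ Cfsg.layer G, g * d * g⁻¹ * d⁻¹ ∈ B) : Cfsg.layer G = ⊥ := by
  set E := Cfsg.layer G with hE
  have hEn : E.Normal := by rw [hE]; infer_instance
  have hp : ⁅E, E⁆ = E := CfsgLib.Components.commutator_layer_self
  have hc : ∀ d ∈ D, ∀ g ∈ E, g * d = d * g := by
    intro d hd
    obtain ⟨B, hB, hnorm, hmem⟩ := h d hd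
    have hN : ⁅E, E ⊓ B⁆ = ⊥ := by
      refine CfsgLib.Components.commutator_sSup_eq_bot fun L hL => ?_
      refine CfsgLib.Components.component_commutator_solvable hL
        (Group.isSolvable_of_isSolvable_injective (f := Subgroup.inclusion (inf_le_right : E ⊓ B ≤ B))
          (Subgroup.inclusion_injective _)) ?_
      refine le_trans ?_ (conj_normalized hD (E := E) ?_)
      · exact le_sSup hL
      · intro g hg z hz
        exact ⟨hEn.conj_mem z hz.1 g, (Subgroup.mem_normalizer_iff.1 (hnorm hg) z).1 hz.2⟩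
    have hbot : ⁅E, Subgroup.zpowers d⁆ = ⊥ := by
      apply CfsgLib.Components.commutator_eq_bot_of_perfect hp
      rw [Subgroup.commutator_comm]
      apply le_antisymm _ bot_le
      rw [← hN]
      refine Subgroup.commutator_mono le_rfl (le_inf ?_ ?_)
      · exact Subgroup.commutator_le_left _ _
      · rw [Subgroup.commutator_le]
        intro g hg z hz
        obtain ⟨k, rfl⟩ := Subgroup.mem_zpowers_iff.1 hz
        rcases Int.even_or_odd k with ⟨m, hm⟩ | ⟨m, hm⟩
        · rw [hm, ← two_mul, zpow_mul, zpow_two, mul_self hD.closed.set hd, one_zpow,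
            commutatorElement_one_right]
          exact one_mem _
        · rw [hm, zpow_add, zpow_mul, zpow_two, mul_self hD.closed.set hd, one_zpow, zpow_one,
            one_mul, commutatorElement_def]
          exact hmem g hg
    exact fun g hg => CfsgLib.Components.commute_of_commutator_eq_bot hbot hg (Subgroup.mem_zpowers d)
  rw [← hp]
  apply le_antisymm _ bot_le
  rw [Subgroup.commutator_le]
  intro g hg k hk
  rw [Subgroup.mem_bot, commutatorElement_eq_one_iff_mul_comm]
  exact (Subgroup.mem_center_iff.1 (mem_center_of_commute hD.gen fun d hd => hc d hd g hg) k).symm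

theorem layer_commute_pCore {p : ℕ} [Fact p.Prime] {g z : G} (hg : g ∈ Cfsg.layer G)
    (hz : z ∈ Cfsg.pCore p G) : g * z = z * g := by
  have := CfsgLib.PCore.pCore_isPGroup (p := p) (G := G)
  haveI := this.isNilpotent
  exact CfsgLib.Components.commute_of_commutator_eq_bot
    (CfsgLib.Components.commutator_layer_solvable (Cfsg.pCore p G)) hg hz

theorem layer_comm_mem {g d : G} (hg : g ∈ Cfsg.layer G) :
    d * (g * d * g⁻¹) * d⁻¹ * d⁻¹ = d * g * d * g⁻¹ * d⁻¹ * d⁻¹ ∧
      d * g * d⁻¹ * g⁻¹ ∈ Cfsg.layer G := by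
  have hn : (Cfsg.layer G).Normal := inferInstance
  exact ⟨by group, mul_mem (hn.conj_mem g hg d) (inv_mem hg)⟩

theorem layer_eq_bot_of_two (h : ¬ Cfsg.pCore 2 G ≤ Subgroup.center G) :
    Cfsg.layer G = ⊥ := by
  have : Fact (Nat.Prime 2) := ⟨Nat.prime_two⟩
  have hs := hD.closed.set
  apply hD.layer_eq_bot_aux
  intro d hd
  obtain ⟨v, hv, hvd⟩ := hD.exists_vRel_ne h hd
  have hcomm : ∀ g ∈ Cfsg.layer G, Commute d (g * d * g⁻¹) := by
    intro g hg
    have hf := hD.closed.conj g d hd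
    by_contra hdf
    set f := g * d * g⁻¹ with hf'
    have hvf : ¬ Commute v f := fun k => hdf ((hv.2.2 f hf).1 k)
    have hm : d * f ∈ Cfsg.layer G := by
      have := (hD.layer_comm_mem (d := d) hg).2
      rw [inv_eq hs hd] at this
      simpa [hf', mul_assoc] using this
    clear_value f
    have hz : d * f * (d * v) = d * v * (d * f) := hD.layer_commute_pCore hm (hv.mul_mem_pCore hD.closed)
    apply hvd
    have h1 : f * v * f = f * d * f := by
      have hv' : d * v * d = v := by rw [hv.commute.eq, mul_assoc, mul_self hs hd, mul_one]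
      have h2 : d * f * d * v = v * f := by
        calc d * f * d * v = d * f * (d * v) := mul_assoc _ _ _
          _ = d * v * d * f := by rw [hz, mul_assoc (d * v)]
          _ = v * f := by rw [hv']
      rw [← braid hs hv.2.1 hf hvf, ← braid hs hd hf hdf, ← h2]
      rw [mul_assoc (d * f * d), mul_self hs hv.2.1, mul_one]
    exact mul_left_cancel (mul_right_cancel h1)
  set A := {x | ∃ g ∈ Cfsg.layer G, x = g * d * g⁻¹}
  have hA : ∀ x ∈ A, ∀ y ∈ A, Commute x y := by
    rintro _ ⟨g, hg, rfl⟩ _ ⟨k, hk, rfl⟩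
    have := hcomm (g⁻¹ * k) (mul_mem (inv_mem hg) hk)
    rw [← commute_conj_iff g] at this
    simpa [mul_assoc] using this
  have hc := Subgroup.isMulCommutative_closure hA
  refine ⟨Subgroup.closure A, Group.isSolvable_of_comm (G := Subgroup.closure A) hc.is_comm.comm, conj_normalized hD ?_, fun g hg => ?_⟩
  · intro g hg z hz
    induction hz using Subgroup.closure_induction with
    | mem z hz =>
      obtain ⟨k, hk, rfl⟩ := hz
      exact Subgroup.subset_closure ⟨g * k, mul_mem hg hk, by group⟩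
    | one => simp
    | mul a b _ _ iha ihb =>
      have := mul_mem iha ihb
      simpa [mul_assoc] using this
    | inv a _ ih => simpa [mul_assoc] using inv_mem ih
  · exact mul_mem (Subgroup.subset_closure ⟨g, hg, rfl⟩)
      (inv_mem (Subgroup.subset_closure ⟨1, one_mem _, by simp⟩))

theorem layer_eq_bot_of_three (h : ¬ Cfsg.pCore 3 G ≤ Subgroup.center G) :
    Cfsg.layer G = ⊥ := by
  have : Fact (Nat.Prime 3) := ⟨Nat.prime_three⟩
  have hs := hD.closed.set
  apply hD.layer_eq_bot_aux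
  intro d hd
  obtain ⟨w, hw, hwd⟩ := hD.exists_wRel_ne h hd
  have hne : ∀ g ∈ Cfsg.layer G, Commute d (g * d * g⁻¹) → g * d * g⁻¹ = d := by
    intro g hg hdf
    have hf := hD.closed.conj g d hd
    set f := g * d * g⁻¹ with hf'
    by_contra hfd
    have hmem : f ∈ {y : G | y ∈ D ∧ y ≠ d ∧ Commute d y} := ⟨hf, hfd, hdf⟩
    rw [hw.2.2] at hmem
    have hm : d * f ∈ Cfsg.layer G := by
      have := (hD.layer_comm_mem (d := d) hg).2
      rw [inv_eq hs hd] at this
      simpa [hf', mul_assoc] using this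
    clear_value f
    have hz : d * f * (d * w) = d * w * (d * f) := hD.layer_commute_pCore hm (hw.mul_mem_pCore hD.closed)
    rw [mul_assoc, mul_assoc, mul_right_inj] at hz
    have e1 : w * (d * f) = f * (w * d) := by
      rw [hdf.eq, ← mul_assoc, hmem.2.2.eq, mul_assoc]
    rw [e1, mul_right_inj] at hz
    exact hw.not_commute (Ne.symm hwd) hz
  set A := {x | ∃ g ∈ Cfsg.layer G, x = g * d * g⁻¹}
  have hsub : ∀ x ∈ A, x ∈ D := by rintro _ ⟨g, hg, rfl⟩; exact hD.closed.conj g d hd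
  have hpair : ∀ x ∈ A, ∀ y ∈ A, Commute x y → x = y := by
    rintro _ ⟨g, hg, rfl⟩ _ ⟨k, hk, rfl⟩ hc
    have := hne (g⁻¹ * k) (mul_mem (inv_mem hg) hk) (by
      rw [← commute_conj_iff g]
      simpa [mul_assoc] using hc)
    calc g * d * g⁻¹ = g * (g⁻¹ * k * d * (g⁻¹ * k)⁻¹) * g⁻¹ := by rw [this]
      _ = k * d * k⁻¹ := by group
  have hB : WidthOne.Braided A := by
    refine ⟨fun x hx => mul_self hs (hsub x hx), fun x hx y hy => ?_, ?_⟩
    · by_cases hc : Commute x y
      · rw [hpair x hx y hy hc]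
      · exact braid hs (hsub x hx) (hsub y hy) hc
    · rintro _ ⟨g, hg, rfl⟩ _ ⟨k, hk, rfl⟩
      refine ⟨g * (d * (g⁻¹ * k) * d⁻¹), mul_mem hg
        ((inferInstance : (Cfsg.layer G).Normal).conj_mem _ (mul_mem (inv_mem hg) hk) d), ?_⟩
      simp [inv_eq hs hd, mul_assoc, mul_self_mul hs hd]
  haveI := (WidthOne.isPGroup_products hB).isNilpotent
  refine ⟨Subgroup.closure {z | ∃ x ∈ A, ∃ y ∈ A, z = x * y}, inferInstance,
    conj_normalized hD ?_, fun g hg => ?_⟩
  · intro g hg z hz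
    induction hz using Subgroup.closure_induction with
    | mem z hz =>
      obtain ⟨_, ⟨k, hk, rfl⟩, _, ⟨l, hl, rfl⟩, rfl⟩ := hz
      exact Subgroup.subset_closure ⟨_, ⟨g * k, mul_mem hg hk, rfl⟩, _, ⟨g * l, mul_mem hg hl, rfl⟩,
        by group⟩
    | one => simp
    | mul a b _ _ iha ihb =>
      have := mul_mem iha ihb
      simpa [mul_assoc] using this
    | inv a _ ih => simpa [mul_assoc] using inv_mem ih
  · exact Subgroup.subset_closure ⟨_, ⟨g, hg, rfl⟩, d, ⟨1, one_mem _, by simp⟩, by rw [inv_eq hs hd]⟩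

end ClassTwo

end CfsgLib.ThreeTrans
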