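import Mathlib

/-! A homomorphism out of the symmetric group of degree four from braid relations. -/

namespace CfsgLib.ThreeTrans.SymFour

/-- The six elements of the symmetric group on the first three of four letters. -/
def headPerm : Fin 6 → Equiv.Perm (Fin 4) :=
  ![1, Equiv.swap 0 1, Equiv.swap 1 2, Equiv.swap 0 1 * Equiv.swap 1 2,
    Equiv.swap 1 2 * Equiv.swap 0 1, Equiv.swap 0 1 * Equiv.swap 1 2 * Equiv.swap 0 1]

/-- Coset representatives. -/
def tailPerm : Fin 4 → Equiv.Perm (Fin 4) :=
  ![1, Equiv.swap 2 3, Equiv.swap 2 3 * Equiv.swap 1 2,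
    Equiv.swap 2 3 * Equiv.swap 1 2 * Equiv.swap 0 1]

/-- The Coxeter generators. -/
def genPerm : Fin 3 → Equiv.Perm (Fin 4) :=
  ![Equiv.swap 0 1, Equiv.swap 1 2, Equiv.swap 2 3]

theorem factor_inj : ∀ i i' : Fin 6, ∀ j j' : Fin 4,
    headPerm i * tailPerm j = headPerm i' * tailPerm j' → i = i' ∧ j = j' := by
  decide +kernel

theorem factor_surj : ∀ σ : Equiv.Perm (Fin 4), ∃ p : Fin 6 × Fin 4,
    headPerm p.1 * tailPerm p.2 = σ := by
  decide +kernel

/-- The multiplication table of a factored permutation by a generator. -/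
def stepTable : Fin 6 → Fin 4 → Fin 3 → Fin 6 × Fin 4 :=
  ![![![(1, 0), (2, 0), (0, 1)], ![(1, 1), (0, 2), (0, 0)], ![(0, 3), (0, 1), (2, 2)], ![(0, 2), (1, 3), (2, 3)]],
    ![![(0, 0), (3, 0), (1, 1)], ![(0, 1), (1, 2), (1, 0)], ![(1, 3), (1, 1), (3, 2)], ![(1, 2), (0, 3), (3, 3)]],
    ![![(4, 0), (0, 0), (2, 1)], ![(4, 1), (2, 2), (2, 0)], ![(2, 3), (2, 1), (0, 2)], ![(2, 2), (4, 3), (0, 3)]],
    ![![(5, 0), (1, 0), (3, 1)], ![(5, 1), (3, 2), (3, 0)], ![(3, 3), (3, 1), (1, 2)], ![(3, 2), (5, 3), (1, 3)]],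
    ![![(2, 0), (5, 0), (4, 1)], ![(2, 1), (4, 2), (4, 0)], ![(4, 3), (4, 1), (5, 2)], ![(4, 2), (2, 3), (5, 3)]],
    ![![(3, 0), (4, 0), (5, 1)], ![(3, 1), (5, 2), (5, 0)], ![(5, 3), (5, 1), (4, 2)], ![(5, 2), (3, 3), (4, 3)]]]

theorem step_spec : ∀ (i : Fin 6) (j : Fin 4) (k : Fin 3),
    headPerm i * tailPerm j * genPerm k =
      headPerm (stepTable i j k).1 * tailPerm (stepTable i j k).2 := by
  decide +kernel

variable {G : Type*} [Group G] (a b c : G)

/-- Values on the first factor. -/
def headVal : Fin 6 → G := ![1, a, b, a * b, b * a, a * b * a]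

/-- Values on the coset representatives. -/
def tailVal : Fin 4 → G := ![1, c, c * b, c * b * a]

/-- The value at a permutation. -/
noncomputable def value (σ : Equiv.Perm (Fin 4)) : G :=
  headVal a b (factor_surj σ).choose.1 * tailVal a b c (factor_surj σ).choose.2

theorem value_mk (i : Fin 6) (j : Fin 4) :
    value a b c (headPerm i * tailPerm j) = headVal a b i * tailVal a b c j := by
  obtain ⟨h1, h2⟩ := factor_inj _ _ _ _ (factor_surj (headPerm i * tailPerm j)).choose_spec
  rw [value, h1, h2]

variable {a b c} (ha : a * a = 1) (hb : b * b = 1) (hc : c * c = 1)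
  (hab : a * b * a = b * a * b) (hbc : b * c * b = c * b * c) (hac : Commute a c)
include ha hb hc hab hbc hac

theorem value_mul_gen : ∀ (σ : Equiv.Perm (Fin 4)) (k : Fin 3),
    value a b c (σ * genPerm k) = value a b c σ * ![a, b, c] k := by
  have e1 : ∀ x, a * (a * x) = x := fun x => by rw [← mul_assoc, ha, one_mul]
  have e2 : ∀ x, b * (b * x) = x := fun x => by rw [← mul_assoc, hb, one_mul]
  have e3 : ∀ x, c * (c * x) = x := fun x => by rw [← mul_assoc, hc, one_mul]
  have e4 : ∀ x, c * (a * x) = a * (c * x) := fun x => by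
    rw [← mul_assoc, ← hac.eq, mul_assoc]
  have e5 : ∀ x, b * (a * (b * x)) = a * (b * (a * x)) := fun x => by
    have := congrArg (· * x) hab
    simpa only [mul_assoc] using this.symm
  have e6 : ∀ x, c * (b * (c * x)) = b * (c * (b * x)) := fun x => by
    have := congrArg (· * x) hbc
    simpa only [mul_assoc] using this.symm
  have e7 : ∀ x, c * (b * (a * (c * x))) = b * (c * (b * (a * x))) := fun x => by
    rw [← e4, e6]
  have key : ∀ (i : Fin 6) (j : Fin 4) (k : Fin 3),
      headVal a b i * tailVal a b c j * ![a, b, c] k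
        = headVal a b (stepTable i j k).1 * tailVal a b c (stepTable i j k).2 := by
    intro i j k
    suffices hx : ∀ x : G, headVal a b i * tailVal a b c j * ![a, b, c] k * x
        = headVal a b (stepTable i j k).1 * tailVal a b c (stepTable i j k).2 * x by
      simpa using hx 1
    intro x
    fin_cases i <;> fin_cases j <;> fin_cases k <;>
      simp [headVal, tailVal, stepTable, mul_assoc, e1, e2, e3, e4, e5, e6, e7]
  intro σ k
  obtain ⟨⟨i, j⟩, rfl⟩ := factor_surj σ
  rw [step_spec, value_mk, value_mk, key]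

/-- The homomorphism from the symmetric group of degree four given by the braid relations. -/
noncomputable def symFourHom : Equiv.Perm (Fin 4) →* G :=
  MonoidHom.mk' (value a b c) (by
    intro σ τ
    suffices h : ∀ (l : List (Fin 3)) (σ : Equiv.Perm (Fin 4)),
        value a b c (σ * (l.map genPerm).prod) = value a b c σ * (l.map ![a, b, c]).prod by
      obtain ⟨l, rfl⟩ : ∃ l : List (Fin 3), (l.map genPerm).prod = τ := by
        obtain ⟨⟨i, j⟩, rfl⟩ := factor_surj τ
        refine ⟨![[], [0], [1], [0, 1], [1, 0], [0, 1, 0]] i ++ ![[], [2], [2, 1], [2, 1, 0]] j, ?_⟩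
        revert i j
        decide +kernel
      have h1 : value a b c 1 = 1 := by
        have := value_mk a b c 0 0
        simpa [headPerm, tailPerm, headVal, tailVal] using this
      have h2 := h l 1
      rw [one_mul, h1, one_mul] at h2
      rw [h, h2]
    intro l
    induction l with
    | nil => simp
    | cons k l ih =>
      intro σ
      rw [List.map_cons, List.prod_cons, ← mul_assoc, ih, value_mul_gen ha hb hc hab hbc hac,
        List.map_cons, List.prod_cons, mul_assoc])

theorem symFourHom_gen (k : Fin 3) :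
    symFourHom ha hb hc hab hbc hac (genPerm k) = ![a, b, c] k := by
  have h := value_mul_gen ha hb hc hab hbc hac 1 k
  have h1 := value_mk a b c 0 0
  simp only [one_mul] at h
  show value a b c (genPerm k) = _
  rw [h]
  simp [headPerm, tailPerm, headVal, tailVal] at h1
  rw [h1, one_mul]

theorem range_symFourHom :
    (symFourHom ha hb hc hab hbc hac).range = Subgroup.closure {a, b, c} := by
  refine le_antisymm ?_ ((Subgroup.closure_le _).2 ?_)
  · rintro _ ⟨σ, rfl⟩
    have hm : ∀ i, headVal a b i * tailVal a b c ((factor_surj σ).choose.2) ∈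
        Subgroup.closure ({a, b, c} : Set G) := by
      intro i
      have A : a ∈ Subgroup.closure ({a, b, c} : Set G) := Subgroup.subset_closure (by simp)
      have B : b ∈ Subgroup.closure ({a, b, c} : Set G) := Subgroup.subset_closure (by simp)
      have C : c ∈ Subgroup.closure ({a, b, c} : Set G) := Subgroup.subset_closure (by simp)
      apply mul_mem
      · fin_cases i <;> simp [headVal, mul_mem, one_mem, A, B]
      · generalize (factor_surj σ).choose.2 = j
        fin_cases j <;> simp [tailVal, mul_mem, one_mem, A, B, C]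
    exact hm _
  · rintro x (rfl | rfl | rfl)
    · exact ⟨genPerm 0, symFourHom_gen ha hb hc hab hbc hac 0⟩
    · exact ⟨genPerm 1, symFourHom_gen ha hb hc hab hbc hac 1⟩
    · exact ⟨genPerm 2, symFourHom_gen ha hb hc hab hbc hac 2⟩

theorem symFourHom_injective (hne : a ≠ c) (hab' : a ≠ b) :
    Function.Injective (symFourHom ha hb hc hab hbc hac) := by
  rw [injective_iff_map_eq_one]
  have nf : ∀ σ : Equiv.Perm (Fin 4), σ = 1 ∨ ∃ τ : Equiv.Perm (Fin 4),
      τ * σ * τ⁻¹ = Equiv.swap 0 1 ∨
      τ * σ * τ⁻¹ = Equiv.swap 0 1 * Equiv.swap 2 3 ∨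
      τ * σ * τ⁻¹ = Equiv.swap 0 1 * Equiv.swap 1 2 ∨
      τ * σ * τ⁻¹ = Equiv.swap 0 1 * Equiv.swap 1 2 * Equiv.swap 2 3 := by
    decide +kernel
  intro σ hσ
  rcases nf σ with h | ⟨τ, h⟩
  · exact h
  exfalso
  set φ := symFourHom ha hb hc hab hbc hac with hφ
  have g0 : φ (Equiv.swap 0 1) = a := symFourHom_gen ha hb hc hab hbc hac 0
  have g1 : φ (Equiv.swap 1 2) = b := symFourHom_gen ha hb hc hab hbc hac 1
  have g2 : φ (Equiv.swap 2 3) = c := symFourHom_gen ha hb hc hab hbc hac 2
  rcases h with h | h | h | h <;> replace h := congrArg φ h <;>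
    simp only [map_mul, map_inv, hσ, g0, g1, g2, mul_one, one_mul, inv_one, mul_inv_cancel] at h
  · subst h
    simp [hb] at hab
    exact hab' hab.symm
  · exact hne (by rw [← mul_left_inj c, hc]; exact h.symm)
  · exact hab' (by rw [← mul_left_inj b, hb]; exact h.symm)
  · have hcv : c = a * b := by
      rw [← mul_left_inj c, hc]; exact h
    have h1 := hac.eq
    rw [hcv, ← mul_assoc, ha, one_mul, hab] at h1
    have h2 : a * b = 1 := by
      have h3 := congrArg (b * ·) h1
      simp only [← mul_assoc, hb, one_mul] at h3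
      exact h3.symm
    exact hab' (by rw [← mul_left_inj b, hb]; exact h2)

end CfsgLib.ThreeTrans.SymFour
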