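import Mathlib
import Cfsg.Agent.Lib.ThreeTrans.Layer
import Cfsg.Agent.Lib.ThreeTrans.SymFour

/-! The component of a group generated by a class of 3-transpositions with central cores, and
the primitivity of the class. -/

namespace CfsgLib.ThreeTrans

variable {G : Type*} [Group G]

theorem mul_pow_of_sq {a c : G} (ha : a * a = 1) (hc : c * c = 1) (h : Commute a c) :
    (a * c) * (a * c) = 1 := by
  rw [mul_assoc, ← mul_assoc c a, ← h.eq, mul_assoc a c c, hc, mul_one, ha]

theorem isSolvable_of_small_orders {Q : Type*} [Group Q] [Finite Q]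
    (hQord : ∀ q : Q, q ^ 2 = 1 ∨ q ^ 3 = 1)
    (hQmin : ∀ N : Subgroup Q, N.Normal → N = ⊤ ∨ N = ⊥) : Group.IsSolvable Q := by
  by_cases hinv : ∃ s : Q, s ≠ 1 ∧ s * s = 1
  · obtain ⟨s, hs1, hs⟩ := hinv
    set E := conjugatesOf s
    have hEconj : ∀ g : Q, ∀ x ∈ E, g * x * g⁻¹ ∈ E := fun g x hx =>
      IsConj.trans hx (isConj_iff.2 ⟨g, rfl⟩)
    have hEsq : ∀ x ∈ E, x * x = 1 := by
      intro x hx
      obtain ⟨g, rfl⟩ := isConj_iff.1 (show IsConj s x from hx)
      rw [show g * s * g⁻¹ * (g * s * g⁻¹) = g * (s * s) * g⁻¹ by group, hs]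
      group
    have hEne : ∀ x ∈ E, x ≠ 1 := by
      intro x hx h
      obtain ⟨g, rfl⟩ := isConj_iff.1 (show IsConj s x from hx)
      exact hs1 (by simpa using h)
    have hcomm : ∀ x ∈ E, ∀ y ∈ E, (x * y) ^ 2 = 1 → Commute x y := by
      intro x hx y hy h
      rw [pow_two, mul_eq_one_iff_eq_inv, mul_inv_rev, inv_eq_of_mul_eq_one_right (hEsq x hx),
        inv_eq_of_mul_eq_one_right (hEsq y hy)] at h
      exact h
    have hgen : Subgroup.closure E = ⊤ := by
      have hn : (Subgroup.closure E).Normal := ⟨fun n hn g => by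
        induction hn using Subgroup.closure_induction with
        | mem z hz => exact Subgroup.subset_closure (hEconj g z hz)
        | one => simp
        | mul a b _ _ iha ihb => simpa [mul_assoc] using mul_mem iha ihb
        | inv a _ ih =>
          have := inv_mem ih
          simpa [mul_inv_rev, mul_assoc] using this⟩
      refine (hQmin _ hn).resolve_right fun h => hEne s (IsConj.refl s) ?_
      exact (Subgroup.mem_bot).1 (h ▸ Subgroup.subset_closure (IsConj.refl s))
    have htrans : ∀ a ∈ E, ∀ c ∈ E, ∀ b ∈ E, Commute a c → Commute c b → a ≠ c → Commute a b := by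
      intro a ha c hc b hb hac hcb hne
      by_contra hab
      have h3 : (a * b) ^ 3 = 1 :=
        (hQord (a * b)).resolve_left fun h => hab (hcomm a ha b hb h)
      have hco : Commute (a * b) c := hac.mul_left hcb.symm
      rcases hQord (a * b * c) with h | h
      · rw [hco.mul_pow, pow_two c, hEsq c hc, mul_one] at h
        exact hab (hcomm a ha b hb h)
      · rw [hco.mul_pow, h3, one_mul, pow_succ, pow_two, hEsq c hc, one_mul] at h
        exact hEne c hc h
    by_cases hw : ∀ a ∈ E, ∀ b ∈ E, Commute a b → a = b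
    · have hB : WidthOne.Braided E := by
        refine ⟨hEsq, fun a ha b hb => ?_, fun a ha b hb => ?_⟩
        · by_cases hab : Commute a b
          · rw [hw a ha b hb hab]
          · have h3 := (hQord (a * b)).resolve_left fun h => hab (hcomm a ha b hb h)
            have : (a * b * a) * (b * a * b) = 1 := by
              rw [← h3]; simp [pow_succ, mul_assoc]
            rw [mul_eq_one_iff_eq_inv] at this
            rw [this]
            simp [inv_eq_of_mul_eq_one_right (hEsq a ha), inv_eq_of_mul_eq_one_right (hEsq b hb), mul_assoc]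
        · have := hEconj a b hb
          rwa [inv_eq_of_mul_eq_one_right (hEsq a ha)] at this
      have hP := WidthOne.isPGroup_products hB
      haveI := Fact.mk Nat.prime_three
      have hn : (Subgroup.closure {z | ∃ x ∈ E, ∃ y ∈ E, z = x * y}).Normal := ⟨fun n hn g => by
        induction hn using Subgroup.closure_induction with
        | mem z hz =>
          obtain ⟨x, hx, y, hy, rfl⟩ := hz
          exact Subgroup.subset_closure ⟨_, hEconj g x hx, _, hEconj g y hy, by group⟩
        | one => simp
        | mul a b _ _ iha ihb => simpa [mul_assoc] using mul_mem iha ihb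
        | inv a _ ih =>
          have := inv_mem ih
          simpa [mul_inv_rev, mul_assoc] using this⟩
      rcases hQmin _ hn with h | h
      · rw [h] at hP
        haveI := (hP.of_equiv Subgroup.topEquiv).isNilpotent
        infer_instance
      · refine Group.isSolvable_of_comm fun a b => ?_
        have key : ∀ x ∈ E, x = s := fun x hx => by
          have : x * s ∈ (⊥ : Subgroup Q) := h ▸ Subgroup.subset_closure ⟨x, hx, s, IsConj.refl s, rfl⟩
          rwa [Subgroup.mem_bot, mul_eq_one_iff_eq_inv, inv_eq_of_mul_eq_one_right hs] at this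
        have hc : ∀ g : Q, g ∈ Subgroup.centralizer ({s} : Set Q) := fun g => by
          rw [Subgroup.mem_centralizer_singleton_iff]
          exact mul_inv_eq_iff_eq_mul.1 (key _ (hEconj g s (IsConj.refl s)))
        have ha : a ∈ Subgroup.zpowers s := by
          have : a ∈ Subgroup.closure E := hgen ▸ Subgroup.mem_top a
          exact (Subgroup.closure_le _).2 (fun x hx => (key x hx).symm ▸ Subgroup.mem_zpowers s) this
        obtain ⟨k, rfl⟩ := Subgroup.mem_zpowers_iff.1 ha
        exact ((show Commute b s from Subgroup.mem_centralizer_singleton_iff.1 (hc b)).zpow_right k).eq.symm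
    · push Not at hw
      obtain ⟨a, ha, c, hc, hac, hne⟩ := hw
      have hall : ∀ b ∈ E, Commute a b := by
        intro b hb
        by_contra hab
        have hcb : ¬ Commute c b := fun h => hab (htrans a ha c hc b hb hac h hne)
        have h3 : ∀ x ∈ E, ¬ Commute x b → x * b * x = b * x * b := by
          intro x hx hxb
          have h3 := (hQord (x * b)).resolve_left fun h => hxb (hcomm x hx b hb h)
          have : (x * b * x) * (b * x * b) = 1 := by
            rw [← h3]; simp [pow_succ, mul_assoc]
          rw [mul_eq_one_iff_eq_inv] at this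
          rw [this]
          simp [inv_eq_of_mul_eq_one_right (hEsq x hx), inv_eq_of_mul_eq_one_right (hEsq b hb), mul_assoc]
        have hinj := SymFour.symFourHom_injective (hEsq a ha) (hEsq b hb) (hEsq c hc) (h3 a ha hab)
          (h3 c hc hcb).symm hac hne (fun e => hab (e ▸ Commute.refl a))
        set φ := SymFour.symFourHom (hEsq a ha) (hEsq b hb) (hEsq c hc) (h3 a ha hab)
          (h3 c hc hcb).symm hac
        rcases hQord (φ (Equiv.swap 0 1 * Equiv.swap 1 2 * Equiv.swap 2 3)) with h | h <;>
          rw [← map_pow, ← map_one φ, hinj.eq_iff] at h <;>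
          exact absurd h (by decide +kernel)
      have hcen : ∀ x ∈ E, ∀ y ∈ E, Commute x y := by
        intro x hx y hy
        obtain ⟨g, rfl⟩ := isConj_iff.1 (show IsConj a x from (show IsConj s a from ha).symm.trans hx)
        have := hall (g⁻¹ * y * g) (by simpa using hEconj g⁻¹ y hy)
        rw [← Commute.conj_iff g] at this
        simpa [mul_assoc] using this
      refine Group.isSolvable_of_comm fun x y => ?_
      have h := (Subgroup.isMulCommutative_closure hcen).is_comm.comm
        ⟨x, hgen ▸ Subgroup.mem_top x⟩ ⟨y, hgen ▸ Subgroup.mem_top y⟩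
      exact congrArg Subtype.val h
  · push Not at hinv
    haveI := Fact.mk Nat.prime_three
    have hP : IsPGroup 3 Q := fun q => ⟨1, by
      rcases hQord q with h | h
      · have : q = 1 := by
          by_contra h1
          exact hinv q h1 (by rwa [pow_two] at h)
        simp [this]
      · simpa using h⟩
    haveI := hP.isNilpotent
    infer_instance

/-- A finite perfect group in which each element has square or cube trivial is trivial. -/
theorem eq_bot_of_perfect_small_orders [Finite G] {H : Subgroup G}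
    (hperf : ⁅H, H⁆ = H) (hord : ∀ g ∈ H, g ^ 2 ∈ Subgroup.centralizer (H : Set G) ∨
      g ^ 3 ∈ Subgroup.centralizer (H : Set G))
    (hmin : ∀ N : Subgroup G, N ≤ H → H ≤ Subgroup.normalizer (N : Set G) →
      N = H ∨ N ≤ Subgroup.centralizer (H : Set G)) : H = ⊥ := by
  classical
  by_contra hne
  have hsolv : ¬ Group.IsSolvable H := by
    intro hs
    haveI := hs
    haveI : Nontrivial H := H.nontrivial_iff_ne_bot.2 hne
    haveI : Group.IsPerfect H := Subgroup.isPerfect_iff.2 hperf
    exact Group.IsPerfect.not_isSolvable H hs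
  let Q := H ⧸ Subgroup.center H
  have hQord : ∀ q : Q, q ^ 2 = 1 ∨ q ^ 3 = 1 := by
    intro q
    induction q using QuotientGroup.induction_on with
    | H g =>
      refine (hord g g.2).imp (fun h => ?_) (fun h => ?_) <;>
      · rw [← QuotientGroup.mk_pow, QuotientGroup.eq_one_iff, Subgroup.mem_center_iff]
        intro x
        apply Subtype.ext
        exact Subgroup.mem_centralizer_iff.1 h x x.2
  have hQmin : ∀ N : Subgroup Q, N.Normal → N = ⊤ ∨ N = ⊥ := by
    intro N hN
    set M := (N.comap (QuotientGroup.mk' (Subgroup.center H))).map H.subtype with hM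
    have hMle : M ≤ H := Subgroup.map_subtype_le _
    have hn : H ≤ Subgroup.normalizer (M : Set G) := by
      rw [← Subgroup.normal_subgroupOf_iff_le_normalizer hMle, hM, Subgroup.subgroupOf,
        Subgroup.comap_map_eq_self_of_injective H.subtype_injective]
      exact hN.comap _
    rcases hmin M hMle hn with h | h
    · left
      rw [eq_top_iff]
      intro q _
      induction q using QuotientGroup.induction_on with
      | H g =>
        obtain ⟨g', hg', he⟩ : (g : G) ∈ M := by rw [h]; exact g.2
        exact (Subtype.ext he : g' = g) ▸ hg'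
    · right
      rw [eq_bot_iff]
      intro q hq
      induction q using QuotientGroup.induction_on with
      | H g =>
        rw [Subgroup.mem_bot, QuotientGroup.eq_one_iff, Subgroup.mem_center_iff]
        intro x
        exact Subtype.ext (Subgroup.mem_centralizer_iff.1 (h ⟨g, hq, rfl⟩) x x.2)
  apply hsolv
  haveI hQ : Group.IsSolvable Q := isSolvable_of_small_orders hQord hQmin
  haveI : Group.IsSolvable (Subgroup.center H) :=
    Group.isSolvable_of_comm fun a b => Subtype.ext (Subgroup.mem_center_iff.1 b.2 a.1)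
  exact Group.isSolvable_of_ker_le_range (Subgroup.center H).subtype (QuotientGroup.mk' (Subgroup.center H))
    (by simp)

namespace ClassTwo

variable [Finite G] {D : Set G} (hD : ClassTwo D)
include hD

omit [Finite G] in
theorem comm_mem_of_normal {L : Subgroup G} [hn : L.Normal] {g d : G} (hd : d ∈ D) (hg : g ∈ L) :
    g * d * g⁻¹ * d ∈ L := by
  have := mul_mem hg (hn.conj_mem g⁻¹ (inv_mem hg) d)
  simpa [mul_assoc, inv_eq hD.closed.set hd] using this

theorem not_centralized {L : Subgroup G} [L.Normal] (hL : Cfsg.IsQuasisimple L) {d : G} (hd : d ∈ D) :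
    ¬ ∀ g ∈ L, g * d = d * g := by
  intro h
  have hall : L ≤ Subgroup.center G := by
    intro g hg
    refine mem_center_of_commute hD.gen fun e he => ?_
    obtain ⟨k, rfl⟩ := hD.class_eq d hd e he
    have := h _ ((inferInstance : L.Normal).conj_mem g hg k⁻¹)
    rw [← commute_conj_iff k⁻¹]
    simpa [Commute, SemiconjBy, mul_assoc] using this
  exact CfsgLib.Components.quasisimple_not_isMulCommutative hL
    ⟨⟨fun a b => Subtype.ext (Subgroup.mem_center_iff.1 (hall b.2) a)⟩⟩

theorem centralized_of_solvable {L B : Subgroup G} [L.Normal] (hL : Cfsg.IsQuasisimple L) {d : G}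
    (hd : d ∈ D) (hB : Group.IsSolvable B) (hnorm : ∀ g ∈ L, ∀ z ∈ B, g * z * g⁻¹ ∈ B)
    (hmem : ∀ g ∈ L, g * d * g⁻¹ * d ∈ B) : False := by
  apply hD.not_centralized hL hd
  have hc : Cfsg.IsComponent L := ⟨(inferInstance : L.Normal).isSubnormal, hL⟩
  have hN : ⁅L, L ⊓ B⁆ = ⊥ := by
    refine CfsgLib.Components.component_commutator_solvable hc
      (Group.isSolvable_of_isSolvable_injective (f := Subgroup.inclusion (inf_le_right : L ⊓ B ≤ B))
        (Subgroup.inclusion_injective _)) (conj_normalized hD ?_)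
    exact fun g hg z hz => ⟨(inferInstance : L.Normal).conj_mem z hz.1 g, hnorm g hg z hz.2⟩
  have hbot : ⁅L, Subgroup.zpowers d⁆ = ⊥ := by
    apply CfsgLib.Components.commutator_eq_bot_of_perfect (CfsgLib.Components.component_commutator_self hc)
    rw [Subgroup.commutator_comm]
    apply le_antisymm _ bot_le
    rw [← hN]
    refine Subgroup.commutator_mono le_rfl ?_
    rw [Subgroup.commutator_le]
    intro g hg z hz
    obtain ⟨k, rfl⟩ := Subgroup.mem_zpowers_iff.1 hz
    rcases Int.even_or_odd k with ⟨m, hm⟩ | ⟨m, hm⟩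
    · rw [hm, ← two_mul, zpow_mul, zpow_two, mul_self hD.closed.set hd, one_zpow,
        commutatorElement_one_right]
      exact one_mem _
    · rw [hm, zpow_add, zpow_mul, zpow_two, mul_self hD.closed.set hd, one_zpow, zpow_one,
        one_mul, commutatorElement_def, inv_eq hD.closed.set hd]
      exact ⟨hD.comm_mem_of_normal hd hg, hmem g hg⟩
  exact fun g hg => CfsgLib.Components.commute_of_commutator_eq_bot hbot hg (Subgroup.mem_zpowers d)

theorem component_normal {L : Subgroup G} (hL : Cfsg.IsComponent L) : L.Normal := by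
  have hs := hD.closed.set
  rw [← Subgroup.normalizer_eq_top_iff]
  refine eq_top_of_conj_invariant hD.gen fun d hd => ?_
  set L' := L.map (MulAut.conj d).toMonoidHom with hL'
  by_cases he : L' = L
  · show d ∈ Subgroup.normalizer (L : Set G)
    rw [Subgroup.mem_normalizer_iff]
    intro x
    constructor
    · intro hx; rw [← he]; exact ⟨x, hx, rfl⟩
    · intro hx
      rw [← he] at hx
      obtain ⟨y, hy, hxy⟩ := hx
      simp only [MulEquiv.coe_toMonoidHom, MulAut.conj_apply] at hxy
      exact mul_left_cancel (mul_right_cancel hxy) ▸ hy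
  exfalso
  have hcomp := CfsgLib.Components.isComponent_conj d hL
  have h0 := CfsgLib.Components.commutator_components_eq_bot hL hcomp (Ne.symm he)
  refine CfsgLib.Components.component_ne_bot hL (eq_bot_of_perfect_small_orders
    (CfsgLib.Components.component_commutator_self hL) ?_ ?_)
  · intro g hg
    have hh : d * g⁻¹ * d⁻¹ ∈ L' := ⟨g⁻¹, inv_mem hg, rfl⟩
    have hco : Commute g (d * g⁻¹ * d⁻¹) := CfsgLib.Components.commute_of_commutator_eq_bot h0 hg hh
    have key : ∀ k : ℕ, (g * d * g⁻¹ * d⁻¹) ^ k = 1 → g ^ k ∈ Subgroup.centralizer (L : Set G) := by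
      intro k hk
      rw [show g * d * g⁻¹ * d⁻¹ = g * (d * g⁻¹ * d⁻¹) by group, hco.mul_pow, mul_eq_one_iff_eq_inv] at hk
      rw [Subgroup.mem_centralizer_iff]
      intro x hx
      have : g ^ k ∈ L' := hk ▸ inv_mem (pow_mem hh k)
      exact CfsgLib.Components.commute_of_commutator_eq_bot h0 hx this
    have hf := hD.closed.conj g d hd
    rw [← inv_eq hs hd] at key
    rcases hs.2 _ hf d hd with h | h
    · exact Or.inl (key 2 (by simpa [inv_eq hs hd] using h))
    · exact Or.inr (key 3 (by simpa [inv_eq hs hd] using h))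
  · intro N hN hn
    refine (CfsgLib.Components.component_eq_or_commutator_of_normalized hL hN hn).imp id fun h => ?_
    rw [Subgroup.commutator_comm] at h
    exact CfsgLib.Components.le_centralizer_of_commutator_eq_bot h

theorem component_unique {L₁ L₂ : Subgroup G} (h₁ : Cfsg.IsComponent L₁)
    (h₂ : Cfsg.IsComponent L₂) : L₁ = L₂ := by
  by_contra hne
  have hs := hD.closed.set
  haveI := hD.component_normal h₁
  haveI := hD.component_normal h₂
  have h0 := CfsgLib.Components.commutator_components_eq_bot h₁ h₂ hne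
  obtain ⟨d, hd, -⟩ := hD.two
  obtain ⟨h, hh, hhd⟩ := by simpa using hD.not_centralized h₂.2 hd
  set y := h * d * h⁻¹ * d with hy
  have hy1 : y ≠ 1 := fun e => by
    rw [hy, mul_eq_one_iff_eq' hs hd, mul_inv_eq_iff_eq_mul] at e
    exact hhd e
  have hym : y ∈ L₂ := hD.comm_mem_of_normal hd hh
  have key : ∀ g ∈ L₁, ∀ k : ℕ, (k = 2 ∨ k = 3) → y ^ k = 1 → (g * d * g⁻¹ * d) ^ k = 1 := by
    intro g hg k hk hyk
    set x := g * d * g⁻¹ * d with hx
    have hxm : x ∈ L₁ := hD.comm_mem_of_normal hd hg
    have hco : Commute x y := CfsgLib.Components.commute_of_commutator_eq_bot h0 hxm hym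
    have hgy : g * y = y * g := CfsgLib.Components.commute_of_commutator_eq_bot h0 hg hym
    have hxy : g * h * d * (g * h)⁻¹ * d = y * x := by
      rw [hy, hx] at *
      calc g * h * d * (g * h)⁻¹ * d = g * (h * d * h⁻¹ * d) * (d * g⁻¹ * d) := by
            simp [mul_assoc, mul_self_mul hs hd]
        _ = _ := by rw [hgy]; simp [mul_assoc]
    have horder := hs.2 _ (hD.closed.conj (g * h) d hd) d hd
    rw [hxy, hco.symm.mul_pow, hco.symm.mul_pow] at horder
    have hx' := hs.2 _ (hD.closed.conj g d hd) d hd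
    rw [← hx] at hx'
    rcases hk with rfl | rfl <;> rcases hx' with h' | h'
    · exact h'
    · rcases horder with e | e
      · rw [hyk, one_mul] at e
        exact e
      · rw [h', mul_one, pow_succ, hyk, one_mul] at e
        exact absurd e hy1
    · rcases horder with e | e
      · rw [h', mul_one] at e
        exact absurd (by simpa [pow_succ, e] using hyk) hy1
      · rw [hyk, one_mul] at e
        exact e
    · exact h'
  have hy23 := hs.2 _ (hD.closed.conj h d hd) d hd
  rw [← hy] at hy23
  set A := {x | ∃ g ∈ L₁, x = g * d * g⁻¹}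
  have hsub : ∀ x ∈ A, x ∈ D := by rintro _ ⟨g, hg, rfl⟩; exact hD.closed.conj g d hd
  have hrel : ∀ g ∈ L₁, ∀ k ∈ L₁, ∀ n : ℕ, (n = 2 ∨ n = 3) → y ^ n = 1 →
      (g * d * g⁻¹ * (k * d * k⁻¹)) ^ n = 1 := by
    intro g hg k hk n hn hyn
    have h1 := key (k⁻¹ * g) (mul_mem (inv_mem hk) hg) n hn hyn
    have h2 : g * d * g⁻¹ * (k * d * k⁻¹) = k * (k⁻¹ * g * d * (k⁻¹ * g)⁻¹ * d) * k⁻¹ := by group
    rw [h2, conj_pow, h1]; group
  rcases hy23 with h2 | h3
  · have hA : ∀ x ∈ A, ∀ z ∈ A, Commute x z := by
      rintro _ ⟨g, hg, rfl⟩ _ ⟨k, hk, rfl⟩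
      exact (sq_eq_one_iff hs (hsub _ ⟨g, hg, rfl⟩) (hsub _ ⟨k, hk, rfl⟩)).1
        (hrel g hg k hk 2 (Or.inl rfl) h2)
    refine hD.centralized_of_solvable h₁.2 hd (B := Subgroup.closure A)
      (Group.isSolvable_of_comm (Subgroup.isMulCommutative_closure hA).is_comm.comm) ?_ ?_
    · intro g hg z hz
      induction hz using Subgroup.closure_induction with
      | mem z hz =>
        obtain ⟨k, hk, rfl⟩ := hz
        exact Subgroup.subset_closure ⟨g * k, mul_mem hg hk, by group⟩
      | one => simp
      | mul a b _ _ iha ihb => simpa [mul_assoc] using mul_mem iha ihb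
      | inv a _ ih =>
          have := inv_mem ih
          simpa [mul_inv_rev, mul_assoc] using this
    · exact fun g hg => mul_mem (Subgroup.subset_closure ⟨g, hg, rfl⟩)
        (Subgroup.subset_closure ⟨1, one_mem _, by simp⟩)
  · have hB : WidthOne.Braided A := by
      refine ⟨fun x hx => mul_self hs (hsub x hx), ?_, ?_⟩
      · rintro _ ⟨g, hg, rfl⟩ _ ⟨k, hk, rfl⟩
        by_cases hc : Commute (g * d * g⁻¹) (k * d * k⁻¹)
        · have e3 := hrel g hg k hk 3 (Or.inr rfl) h3
          rw [pow_succ, (sq_eq_one_iff hs (hsub _ ⟨g, hg, rfl⟩) (hsub _ ⟨k, hk, rfl⟩)).2 hc, one_mul,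
            mul_eq_one_iff_eq' hs (hsub _ ⟨k, hk, rfl⟩)] at e3
          rw [e3]
        · exact braid hs (hsub _ ⟨g, hg, rfl⟩) (hsub _ ⟨k, hk, rfl⟩) hc
      · rintro _ ⟨g, hg, rfl⟩ _ ⟨k, hk, rfl⟩
        refine ⟨g * (d * (g⁻¹ * k) * d⁻¹), mul_mem hg
          ((inferInstance : L₁.Normal).conj_mem _ (mul_mem (inv_mem hg) hk) d), ?_⟩
        simp [inv_eq hs hd, mul_assoc, mul_self_mul hs hd]
    haveI := Fact.mk Nat.prime_three
    haveI := (WidthOne.isPGroup_products hB).isNilpotent
    refine hD.centralized_of_solvable h₁.2 hd (B := Subgroup.closure {z | ∃ x ∈ A, ∃ y ∈ A, z = x * y})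
      inferInstance ?_ ?_
    · intro g hg z hz
      induction hz using Subgroup.closure_induction with
      | mem z hz =>
        obtain ⟨_, ⟨k, hk, rfl⟩, _, ⟨l, hl, rfl⟩, rfl⟩ := hz
        exact Subgroup.subset_closure ⟨_, ⟨g * k, mul_mem hg hk, rfl⟩, _, ⟨g * l, mul_mem hg hl, rfl⟩,
          by group⟩
      | one => simp
      | mul a b _ _ iha ihb => simpa [mul_assoc] using mul_mem iha ihb
      | inv a _ ih =>
          have := inv_mem ih
          simpa [mul_inv_rev, mul_assoc] using this
    · exact fun g hg => Subgroup.subset_closure ⟨_, ⟨g, hg, rfl⟩, d, ⟨1, one_mem _, by simp⟩, rfl⟩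

theorem exists_component (h2 : Cfsg.pCore 2 G ≤ Subgroup.center G)
    (h3 : Cfsg.pCore 3 G ≤ Subgroup.center G) : ∃ L : Subgroup G, Cfsg.IsComponent L := by
  by_contra! h
  apply hD.layer_ne_bot h2 h3
  rw [eq_bot_iff]
  exact sSup_le fun L hL => absurd hL (h L)

theorem layer_eq {L : Subgroup G} (hL : Cfsg.IsComponent L) : Cfsg.layer G = L :=
  le_antisymm (sSup_le fun _ hK => (hD.component_unique hK hL).le) (le_sSup hL)

theorem fitting_eq_center (h2 : Cfsg.pCore 2 G ≤ Subgroup.center G)
    (h3 : Cfsg.pCore 3 G ≤ Subgroup.center G) : Cfsg.fittingSubgroup G = Subgroup.center G := by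
  refine le_antisymm (hD.fitting_le_center h2 h3) (CfsgLib.Fitting.le_fitting inferInstance ?_)
  exact @CommGroup.isNilpotent _ { (inferInstance : Group (Subgroup.center G)) with
    mul_comm := fun a b => Subtype.ext (Subgroup.mem_center_iff.1 b.2 a.1) }

theorem mul_mem_of_comm_mem {L : Subgroup G} (hL : Cfsg.IsComponent L) {a b : G} (ha : a ∈ D)
    (hb : b ∈ D) (h : a * b * a⁻¹ * b⁻¹ ∈ L) : a⁻¹ * b ∈ L := by
  have hs := hD.closed.set
  haveI hn := hD.component_normal hL
  by_contra hab
  rw [inv_eq hs ha] at hab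
  rw [inv_eq hs ha, inv_eq hs hb] at h
  have hcomm : ∀ g ∈ L, Commute (g * a * g⁻¹) b := by
    intro g hg
    have hx := hD.closed.conj g a ha
    refine (sq_eq_one_iff hs hx hb).1 ((hs.2 _ hx b hb).resolve_right fun h3 => hab ?_)
    have e : ((g * a * g⁻¹ * b : G) : G ⧸ L) = ((a * b : G) : G ⧸ L) := by
      have hg' : (g : G ⧸ L) = 1 := (QuotientGroup.eq_one_iff g).2 hg
      simp [hg']
    have h2' : ((a * b : G) : G ⧸ L) ^ 2 = 1 := by
      rw [pow_two, ← QuotientGroup.mk_mul, QuotientGroup.eq_one_iff]
      simpa [mul_assoc] using h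
    have h3' : ((a * b : G) : G ⧸ L) ^ 3 = 1 := by
      rw [← e, ← QuotientGroup.mk_pow, h3, QuotientGroup.mk_one]
    rw [pow_succ, h2', one_mul, QuotientGroup.eq_one_iff] at h3'
    exact h3'
  set M := Subgroup.closure {z | ∃ g ∈ L, z = g * a * g⁻¹ * a}
  have hML : M ≤ L := by
    rw [Subgroup.closure_le]
    rintro _ ⟨g, hg, rfl⟩
    exact hD.comm_mem_of_normal ha hg
  have hMn : ∀ k ∈ L, ∀ z ∈ M, k * z * k⁻¹ ∈ M := by
    intro k hk z hz
    induction hz using Subgroup.closure_induction with
    | mem z hz =>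
      obtain ⟨g, hg, rfl⟩ := hz
      have e : k * (g * a * g⁻¹ * a) * k⁻¹ = (k * g * a * (k * g)⁻¹ * a) * (k * a * k⁻¹ * a)⁻¹ := by
        simp [mul_assoc, inv_eq hs ha, mul_self_mul hs ha]
      rw [e]
      exact mul_mem (Subgroup.subset_closure ⟨_, mul_mem hk hg, rfl⟩)
        (inv_mem (Subgroup.subset_closure ⟨k, hk, rfl⟩))
    | one => simp
    | mul p q _ _ ihp ihq => simpa [mul_assoc] using mul_mem ihp ihq
    | inv p _ ih => simpa [mul_assoc] using inv_mem ih
  rcases CfsgLib.Components.component_eq_or_commutator_of_normalized hL hML (conj_normalized hD hMn) with hM | hM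
  · apply hD.not_centralized hL.2 hb
    intro g hg
    have : L ≤ Subgroup.centralizer ({b} : Set G) := by
      rw [← hM, Subgroup.closure_le]
      rintro _ ⟨k, hk, rfl⟩
      rw [SetLike.mem_coe, Subgroup.mem_centralizer_singleton_iff]
      refine ((hcomm k hk).mul_left ?_).eq
      have := hcomm 1 (one_mem _)
      simpa using this
    exact Subgroup.mem_centralizer_singleton_iff.1 (this hg)
  · have hc : ∀ g ∈ L, ∀ k ∈ L, Commute (g * a * g⁻¹ * a) k := fun g hg k hk =>
      (CfsgLib.Components.commute_of_commutator_eq_bot hM hk (Subgroup.subset_closure ⟨g, hg, rfl⟩)).symm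
    refine hD.centralized_of_solvable hL.2 ha (B := M) ?_ hMn
      (fun g hg => Subgroup.subset_closure ⟨g, hg, rfl⟩)
    exact Group.isSolvable_of_comm fun x y => Subtype.ext
      (CfsgLib.Components.commute_of_commutator_eq_bot hM (hML x.2) y.2)

/-- The index of the component is at most two once one coset contains the class. -/
theorem index_le_two {L : Subgroup G} [L.Normal] {a : G} (ha : a ∈ D)
    (h : ∀ b ∈ D, a⁻¹ * b ∈ L) : L.index ≤ 2 := by
  have hs := hD.closed.set
  have htop : Subgroup.zpowers ((a : G) : G ⧸ L) = ⊤ := by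
    have : (⊤ : Subgroup G).map (QuotientGroup.mk' L) = ⊤ :=
      Subgroup.map_top_of_surjective _ (QuotientGroup.mk'_surjective L)
    rw [eq_top_iff, ← this, ← hD.gen, MonoidHom.map_closure, Subgroup.closure_le]
    rintro _ ⟨b, hb, rfl⟩
    rw [QuotientGroup.mk'_apply, ← QuotientGroup.eq.2 (h b hb)]
    exact Subgroup.mem_zpowers _
  rw [Subgroup.index, ← Subgroup.card_top, ← htop, Nat.card_zpowers]
  apply orderOf_le_of_pow_eq_one two_pos
  rw [← QuotientGroup.mk_pow, pow_two, mul_self hs ha, QuotientGroup.mk_one]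

theorem index_le_two_of_connected {L : Subgroup G} (hL : Cfsg.IsComponent L)
    (hc : (Cfsg.commutingGraph D).Connected) : L.index ≤ 2 := by
  haveI := hD.component_normal hL
  obtain ⟨a, ha, -⟩ := hD.two
  refine hD.index_le_two ha fun b hb => ?_
  obtain ⟨p⟩ := hc.preconnected ⟨a, ha⟩ ⟨b, hb⟩
  suffices h : ∀ x y : D, (Cfsg.commutingGraph D).Walk x y → (x : G)⁻¹ * y ∈ L from h _ _ p
  intro x y p
  induction p with
  | nil => simp
  | @cons u v w hadj p ih =>
    have hco : Commute (u : G) v := by
      rcases (SimpleGraph.fromRel_adj _ _ _).1 hadj with ⟨-, h | h⟩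
      · exact h
      · exact h.symm
    have h1 : (u : G)⁻¹ * v ∈ L := hD.mul_mem_of_comm_mem hL u.2 v.2 (by
      rw [hco.eq]; simp [mul_assoc])
    have := mul_mem h1 ih
    simpa [mul_assoc] using this

theorem primitive_of_index_le_two (h2 : Cfsg.pCore 2 G ≤ Subgroup.center G)
    (h3 : Cfsg.pCore 3 G ≤ Subgroup.center G) {L : Subgroup G} (hL : Cfsg.IsComponent L)
    (hi : L.index ≤ 2) : Cfsg.IsPrimitiveUnderConj D := by
  classical
  have hs := hD.closed.set
  haveI hn := hD.component_normal hL
  refine ⟨hD.class_eq, hD.two, fun B hBD hblock => ?_⟩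
  by_contra! hB
  obtain ⟨hns, hne⟩ := hB
  obtain ⟨d, hd, e, he, hde⟩ := hns
  have hdD := hBD hd
  have heD := hBD he
  let c : G → G → G := fun g x => g * x * g⁻¹
  have hcomp : ∀ g h, c g ∘ c h = c (g * h) := fun g h => by
    funext x; simp [c, mul_assoc]
  let Bl : G → Set G := fun g => c g '' B
  have hBl : ∀ k g, c k '' Bl g = Bl (k * g) := fun k g => by
    simp only [Bl, Set.image_image]
    exact congrArg (· '' B) (hcomp k g)
  have hone : Bl 1 = B := by
    have : c 1 = id := funext fun x => by simp [c]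
    simp [Bl, this]
  have hfix : ∀ g x, x ∈ B → c g x ∈ B → Bl g = B := fun g x hx hgx =>
    (hblock g).resolve_right fun hdis => Set.disjoint_left.1 hdis ⟨x, hx, rfl⟩ hgx
  have hfix' : ∀ k g x, x ∈ Bl g → c k x ∈ Bl g → Bl (k * g) = Bl g := by
    rintro k g _ ⟨x, hx, rfl⟩ hkx
    obtain ⟨z, hz, hzx⟩ := hkx
    have h := hfix (g⁻¹ * k * g) x hx (by
      have : c (g⁻¹ * k * g) x = z := by
        have := congrArg (c g⁻¹) hzx
        simp only [c] at this ⊢
        simpa [mul_assoc] using this.symm
      exact this.symm ▸ hz)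
    have h' := congrArg (c g '' ·) h
    rw [hBl] at h'
    simpa [mul_assoc] using h'
  let K : Subgroup G :=
    { carrier := {k | ∀ g, Bl (k * g) = Bl g}
      mul_mem' := fun {a b} ha hb g => by rw [mul_assoc, ha, hb]
      one_mem' := fun g => by rw [one_mul]
      inv_mem' := fun {a} ha g => by rw [← ha (a⁻¹ * g), mul_inv_cancel_left] }
  have hKn : K.Normal := ⟨fun k hk x g => by
    rw [mul_assoc, mul_assoc, ← hBl, hk, hBl, mul_inv_cancel_left]⟩
  have hmove : ∀ g, ∀ f ∈ Bl g, Bl g ≠ B → ∀ b ∈ B,
      (Bl f = B → Bl (b * g) = Bl g) ∧ (Bl f ≠ B → Bl (b * g) = Bl f) := by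
    intro g f hf hgB b hb
    have hfD : f ∈ D := by
      obtain ⟨x, hx, rfl⟩ := hf
      exact hD.closed.conj g x (hBD hx)
    have hbD := hBD hb
    have hbb : ∀ x ∈ B, b * x * b ∈ B := by
      intro x hx
      have h1 := hfix b b hb (by simp only [c, mul_inv_cancel_right]; exact hb)
      have : c b x ∈ Bl b := ⟨x, hx, rfl⟩
      rw [h1] at this
      simpa [c, inv_eq hs hbD] using this
    constructor
    · intro hfB
      by_cases hbf : Commute b f
      · exact hfix' b g f hf (by simp only [c, hbf.eq, mul_inv_cancel_right]; exact hf)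
      · exfalso
        have h1 : f * b * f ∈ B := by
          have : c f b ∈ Bl f := ⟨b, hb, rfl⟩
          rw [hfB] at this
          simpa [c, inv_eq hs hfD] using this
        have h2 := hbb _ h1
        rw [← braid hs hbD hfD hbf] at h2
        have h3 : f ∈ B := by simpa [mul_assoc, mul_self hs hbD, mul_self_mul hs hbD] using h2
        obtain ⟨x, hx, rfl⟩ := hf
        exact hgB (hfix g x hx h3)
    · intro hfB
      by_cases hbf : Commute b f
      · exact absurd (hfix f b hb (by simp only [c, ← hbf.eq, mul_inv_cancel_right]; exact hb)) hfB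
      · have h1 : c b f ∈ Bl (b * g) := hBl b g ▸ ⟨f, hf, rfl⟩
        have h2 : c b f ∈ Bl f := ⟨b, hb, by
          simp only [c, inv_eq hs hbD, inv_eq hs hfD]; exact (braid hs hbD hfD hbf).symm⟩
        obtain ⟨z, hz, hz'⟩ := h1
        obtain ⟨u, hu, hu'⟩ := h2
        have h := hfix (f⁻¹ * (b * g)) z hz (by
          have : c (f⁻¹ * (b * g)) z = u := by
            have := congrArg (c f⁻¹) (hz'.trans hu'.symm)
            simp only [c] at this ⊢
            simpa [mul_assoc] using this
          exact this.symm ▸ hu)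
        have h' := congrArg (c f '' ·) h
        rw [hBl, mul_inv_cancel_left] at h'
        exact h'
  have hKde : d * e ∈ K := by
    intro g
    have he2 : ∀ h, Bl (e * (e * h)) = Bl h := fun h => by rw [mul_self_mul hs heD]
    have hbself : ∀ b ∈ B, Bl b = B := fun b hb =>
      hfix b b hb (by simp only [c, mul_inv_cancel_right]; exact hb)
    have hsame : ∀ g, Bl (d * g) = Bl (e * g) := by
      intro g
      by_cases hgB : Bl g = B
      · have : ∀ b ∈ B, Bl (b * g) = B := fun b hb => by
          rw [← hBl, hgB]; exact hbself b hb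
        rw [this d hd, this e he]
      · obtain ⟨f, hf⟩ : (Bl g).Nonempty := ⟨_, d, hd, rfl⟩
        by_cases hfB : Bl f = B
        · rw [(hmove g f hf hgB d hd).1 hfB, (hmove g f hf hgB e he).1 hfB]
        · rw [(hmove g f hf hgB d hd).2 hfB, (hmove g f hf hgB e he).2 hfB]
    rw [mul_assoc, hsame, he2]
  have hKL : ⁅L, K ⊓ L⁆ = ⊥ := by
    refine (CfsgLib.Components.component_eq_or_commutator_of_normalized hL inf_le_right
      Subgroup.le_normalizer_of_normal).resolve_left fun h => hne ?_
    apply Set.Subset.antisymm hBD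
    intro x hx
    obtain ⟨g, rfl⟩ := hD.class_eq d hdD x hx
    have hg : g ∈ L ⊔ Subgroup.zpowers d := by
      have htop : L ⊔ Subgroup.zpowers d = ⊤ := by
        by_contra hne'
        have hlt : L < L ⊔ Subgroup.zpowers d ∨ d ∈ L := by
          by_cases hdL : d ∈ L
          · exact Or.inr hdL
          · exact Or.inl (lt_of_le_of_ne le_sup_left fun h =>
              hdL (h ▸ Subgroup.mem_sup_right (Subgroup.mem_zpowers d)))
        rcases hlt with hlt | hdL
        · have h1 := Subgroup.index_strictAnti hlt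
          have h2 : 2 ≤ (L ⊔ Subgroup.zpowers d).index := Subgroup.one_lt_index_of_ne_top hne'
          omega
        · refine hne' (top_unique ?_)
          rw [← hD.gen, Subgroup.closure_le]
          intro y hy
          obtain ⟨k, rfl⟩ := hD.class_eq d hdD y hy
          exact Subgroup.mem_sup_left (hn.conj_mem d hdL k)
      exact htop ▸ Subgroup.mem_top g
    rw [Subgroup.mem_sup_of_normal_left] at hg
    obtain ⟨l, hl, z, hz, rfl⟩ := hg
    obtain ⟨k, rfl⟩ := Subgroup.mem_zpowers_iff.1 hz
    have hl' : Bl l = B := by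
      have := (inf_eq_right.1 h hl : l ∈ K) 1
      rwa [mul_one, hone] at this
    have e1 : l * d ^ k * d * (l * d ^ k)⁻¹ = c l d := by
      have : d ^ k * d * (d ^ k)⁻¹ = d := by
        rw [((Commute.refl d).zpow_left k).eq, mul_inv_cancel_right]
      simp only [c, mul_inv_rev]
      calc l * d ^ k * d * ((d ^ k)⁻¹ * l⁻¹) = l * (d ^ k * d * (d ^ k)⁻¹) * l⁻¹ := by group
        _ = _ := by rw [this]
    rw [e1, ← hl']
    exact ⟨d, hd, rfl⟩
  have hLk : ⁅L, K⁆ = ⊥ := by
    apply CfsgLib.Components.commutator_eq_bot_of_perfect (CfsgLib.Components.component_commutator_self hL)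
    rw [Subgroup.commutator_comm]
    apply le_antisymm _ bot_le
    rw [← hKL]
    exact Subgroup.commutator_mono le_rfl (le_inf (Subgroup.commutator_le_right _ _) (Subgroup.commutator_le_left _ _))
  have hcen : d * e ∈ Subgroup.center G := by
    rw [← hD.fitting_eq_center h2 h3]
    apply CfsgLib.Components.centralizer_generalizedFitting_le_fitting
    have : Cfsg.generalizedFittingSubgroup G ≤ Subgroup.centralizer ({d * e} : Set G) := by
      refine sup_le ?_ ?_
      · rw [hD.layer_eq hL]
        intro x hx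
        rw [Subgroup.mem_centralizer_singleton_iff]
        exact CfsgLib.Components.commute_of_commutator_eq_bot hLk hx hKde
      · rw [hD.fitting_eq_center h2 h3]
        exact Subgroup.center_le_centralizer _
    rw [Subgroup.mem_centralizer_iff]
    exact fun x hx => Subgroup.mem_centralizer_singleton_iff.1 (this hx)
  by_cases hco : Commute d e
  · haveI := Fact.mk Nat.prime_two
    apply hde
    have hz : Subgroup.zpowers (d * e) ≤ Cfsg.pCore 2 G := by
      refine CfsgLib.PCore.le_pCore ?_ ?_
      · exact ⟨fun x hx g => by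
          have hxc : x ∈ Subgroup.center G := (Subgroup.zpowers_le.2 hcen) hx
          rwa [Subgroup.mem_center_iff.1 hxc g, mul_inv_cancel_right]⟩
      · rintro ⟨x, hx⟩
        obtain ⟨k, rfl⟩ := Subgroup.mem_zpowers_iff.1 hx
        refine ⟨1, Subtype.ext ?_⟩
        show ((d * e) ^ k) ^ 2 ^ 1 = 1
        rw [pow_one, ← zpow_natCast, zpow_comm, zpow_natCast, (sq_eq_one_iff hs hdD heD).2 hco, one_zpow]
    exact (hD.vRel_eq_self h2 (vRel_of_mul_mem hD.closed hdD heD (hz (Subgroup.mem_zpowers _)))).symm
  · apply hco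
    have := Subgroup.mem_center_iff.1 hcen d
    rw [mul_self_mul hs hdD] at this
    show d * e = e * d
    conv_rhs => rw [this]
    simp [mul_assoc, mul_self hs hdD]

end ClassTwo

end CfsgLib.ThreeTrans
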