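import Mathlib
import Cfsg.Agent.Lib.ThreeTrans.Component

/-! Primitive 3-transposition groups of width at least two. -/

namespace CfsgLib.ThreeTrans

open scoped commutatorElement

variable {G : Type*} [Group G] [Finite G] {D : Set G}

theorem classTwo_of_primitive (hD : Cfsg.IsThreeTranspositionGroup D)
    (hprim : Cfsg.IsPrimitiveUnderConj D) : ClassTwo D :=
  ⟨conjClosed_of_group hD, hD.2.2, hprim.1, hprim.2.1⟩

namespace ClassTwo

variable (hD : ClassTwo D)
include hD

omit [Finite G] in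
theorem isThreeTranspositionClass : Cfsg.IsThreeTranspositionClass D := by
  refine ⟨hD.closed.set, ?_, hD.gen⟩
  obtain ⟨d, hd, -⟩ := hD.two
  refine ⟨d, hd, Set.ext fun x => ⟨fun hx => ?_, fun hx => ?_⟩⟩
  · exact isConj_iff.2 (hD.class_eq d hd x hx)
  · obtain ⟨g, rfl⟩ := isConj_iff.1 (show IsConj d x from hx)
    exact hD.closed.conj g d hd

omit [Finite G] in
theorem cores_of_primitive_aux (R : G → G → Prop) (hsymm : ∀ a b, R a b → R b a)
    (htrans : ∀ a b c, R a b → R b c → R a c) (hmem : ∀ a b, R a b → a ∈ D ∧ b ∈ D)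
    (hR : ∀ g a b, R a b → R (g * a * g⁻¹) (g * b * g⁻¹))
    (hprim : Cfsg.IsPrimitiveUnderConj D) {d v : G} (hv : R d v) (hvd : v ≠ d) :
    ∀ x ∈ D, R d x := by
  have hdd : R d d := htrans _ _ _ hv (hsymm _ _ hv)
  have hblock : ∀ g : G, (fun x => g * x * g⁻¹) '' {x | R d x} = {x | R d x} ∨
      Disjoint ((fun x => g * x * g⁻¹) '' {x | R d x}) {x | R d x} := by
    intro g
    refine or_iff_not_imp_right.2 fun hne => ?_
    obtain ⟨_, ⟨x, hx, rfl⟩, hy⟩ := Set.not_disjoint_iff.1 hne
    have h1 : R d (g * d * g⁻¹) := htrans _ _ _ hy (hsymm _ _ (hR g _ _ hx))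
    ext y
    refine ⟨?_, fun hy' => ⟨g⁻¹ * y * g, ?_, by group⟩⟩
    · rintro ⟨z, hz, rfl⟩
      exact htrans _ _ _ h1 (hR g _ _ hz)
    · have := hR g⁻¹ _ _ (htrans _ _ _ (hsymm _ _ h1) hy')
      simpa [mul_assoc] using this
  rcases hprim.2.2 {x | R d x} (fun x hx => (hmem _ _ hx).2) hblock with h | h
  · exact absurd (h hv hdd) hvd
  · exact fun x hx => (Set.ext_iff.1 h x).2 hx

theorem cores_of_primitive (hprim : Cfsg.IsPrimitiveUnderConj D)
    (hw : ∃ a ∈ D, ∃ b ∈ D, a ≠ b ∧ Commute a b) :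
    Cfsg.pCore 2 G ≤ Subgroup.center G ∧ Cfsg.pCore 3 G ≤ Subgroup.center G := by
  obtain ⟨a, ha, b, hb, hne, hab⟩ := hw
  constructor <;> by_contra h
  · obtain ⟨v, hv, hvd⟩ := hD.exists_vRel_ne h ha
    have hall := hD.cores_of_primitive_aux (VRel D) (fun a b k => k.symm) (fun a b c k l => k.trans l)
      (fun a b k => ⟨k.1, k.2.1⟩) (fun g a b k => k.conj hD.closed g) hprim hv hvd
    obtain ⟨e, he, hae⟩ := exists_not_commute hD.gen hD.closed hD.class_eq hD.two ha
    exact hae (hall e he).commute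
  · obtain ⟨v, hv, hvd⟩ := hD.exists_wRel_ne h ha
    have hall := hD.cores_of_primitive_aux (WRel D) (fun a b k => k.symm) (fun a b c k l => k.trans l)
      (fun a b k => ⟨k.1, k.2.1⟩) (fun g a b k => k.conj hD.closed g) hprim hv hvd
    exact (hall b hb).not_commute hne hab

omit [Finite G] in
theorem connected_of_primitive (hprim : Cfsg.IsPrimitiveUnderConj D)
    (hw : ∃ a ∈ D, ∃ b ∈ D, a ≠ b ∧ Commute a b) : (Cfsg.commutingGraph D).Connected := by
  obtain ⟨a, ha, b, hb, hne, hab⟩ := hw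
  haveI : Nonempty D := ⟨⟨a, ha⟩⟩
  let S : G → G → Prop := fun x y => x ∈ D ∧ y ∈ D ∧ Commute x y
  let R : G → G → Prop := fun x y => x ∈ D ∧ y ∈ D ∧ Relation.ReflTransGen S x y
  have hS : ∀ x y, S x y → S y x := fun x y h => ⟨h.2.1, h.1, h.2.2.symm⟩
  have hRsymm : ∀ x y, R x y → R y x := fun x y h =>
    ⟨h.2.1, h.1, Relation.ReflTransGen.mono (fun u v k => hS v u k) _ _ (Relation.ReflTransGen.swap _ _ h.2.2)⟩
  have hRconj : ∀ g x y, R x y → R (g * x * g⁻¹) (g * y * g⁻¹) := fun g x y h =>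
    ⟨hD.closed.conj g x h.1, hD.closed.conj g y h.2.1, h.2.2.lift (fun z => g * z * g⁻¹)
      fun u v k => ⟨hD.closed.conj g u k.1, hD.closed.conj g v k.2.1, (commute_conj_iff g u v).2 k.2.2⟩⟩
  have hall := hD.cores_of_primitive_aux R hRsymm (fun x y z k l => ⟨k.1, l.2.1, k.2.2.trans l.2.2⟩)
    (fun x y k => ⟨k.1, k.2.1⟩) hRconj hprim (d := a) (v := b)
    ⟨ha, hb, Relation.ReflTransGen.single ⟨ha, hb, hab⟩⟩ (Ne.symm hne)
  have key : ∀ y, R a y → ∀ hy : y ∈ D, (Cfsg.commutingGraph D).Reachable ⟨a, ha⟩ ⟨y, hy⟩ := by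
    intro y h
    have := h.2.2
    induction this with
    | refl => exact fun _ => SimpleGraph.Reachable.refl _
    | @tail u v hu hs ih =>
      intro hv
      refine (ih ⟨ha, hs.1, hu⟩ hs.1).trans ?_
      by_cases huv : u = v
      · subst huv; exact SimpleGraph.Reachable.refl _
      · exact SimpleGraph.Adj.reachable
          ((SimpleGraph.fromRel_adj _ _ _).2 ⟨fun e => huv (congrArg Subtype.val e), Or.inl hs.2.2⟩)
  exact SimpleGraph.Connected.mk fun x y => (key x (hall x x.2) x.2).symm.trans (key y (hall y y.2) y.2)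

theorem component_of_primitive (hprim : Cfsg.IsPrimitiveUnderConj D)
    (hw : ∃ a ∈ D, ∃ b ∈ D, a ≠ b ∧ Commute a b) :
    ∃ L : Subgroup G, Cfsg.IsComponent L ∧ L.Normal ∧ L.index ≤ 2 := by
  obtain ⟨h2, h3⟩ := hD.cores_of_primitive hprim hw
  obtain ⟨L, hL⟩ := hD.exists_component h2 h3
  exact ⟨L, hL, hD.component_normal hL, hD.index_le_two_of_connected hL (hD.connected_of_primitive hprim hw)⟩

/-- The orbit of `d` under the subgroup generated by a set. -/
def orb (S : Set G) (d : G) : Set G := {x | ∃ h ∈ Subgroup.closure S, x = h * d * h⁻¹}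

omit hD [Finite G] in
theorem orb_self (S : Set G) (d : G) : d ∈ orb S d := ⟨1, one_mem _, by simp⟩

omit hD [Finite G] in
theorem orb_mono {S T : Set G} (h : S ⊆ T) (d : G) : orb S d ⊆ orb T d :=
  fun _ ⟨k, hk, e⟩ => ⟨k, Subgroup.closure_mono h hk, e⟩

omit hD [Finite G] in
theorem orb_trans {S : Set G} {d x : G} (hx : x ∈ orb S d) {h : G} (hh : h ∈ Subgroup.closure S) :
    h * x * h⁻¹ ∈ orb S d := by
  obtain ⟨k, hk, rfl⟩ := hx
  exact ⟨h * k, mul_mem hh hk, by group⟩

omit hD [Finite G] in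
theorem orb_image (S : Set G) (g d : G) :
    orb ((fun x => g * x * g⁻¹) '' S) (g * d * g⁻¹) = (fun x => g * x * g⁻¹) '' orb S d := by
  have hc : Subgroup.closure ((fun x => g * x * g⁻¹) '' S) =
      (Subgroup.closure S).map (MulAut.conj g).toMonoidHom := by
    rw [MonoidHom.map_closure]; rfl
  ext x
  constructor
  · rintro ⟨h, hh, rfl⟩
    rw [hc] at hh
    obtain ⟨k, hk, rfl⟩ := hh
    exact ⟨k * d * k⁻¹, ⟨k, hk, rfl⟩, by simp [mul_assoc]⟩
  · rintro ⟨_, ⟨k, hk, rfl⟩, rfl⟩
    exact ⟨g * k * g⁻¹, hc ▸ ⟨k, hk, rfl⟩, by simp [mul_assoc]⟩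

/-- The members of `D` commuting with `x`, itself included. -/
def cD (D : Set G) (x : G) : Set G := {y | y ∈ D ∧ Commute x y}

theorem maximal_dSubgroup (hprim : Cfsg.IsPrimitiveUnderConj D)
    (hw : ∃ a ∈ D, ∃ b ∈ D, a ≠ b ∧ Commute a b) {d : G} (hd : d ∈ D) {X : Set G} (hXD : X ⊆ D)
    (hX : Subgroup.closure X ≠ ⊤) (hsat : ∀ x ∈ D, x ∈ Subgroup.closure X → x ∈ X)
    (hC : cD D d ⊆ X) : X ⊆ cD D d := by
  classical
  have hs := hD.closed.set
  have hc := hD.closed
  have hconn := hD.connected_of_primitive hprim hw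
  by_contra hnot
  obtain ⟨f, hfX, hfd⟩ := Set.not_subset.1 hnot
  let F : Set (Set G) := {Y | Y ⊆ D ∧ Subgroup.closure Y ≠ ⊤ ∧
    (∀ x ∈ D, x ∈ Subgroup.closure Y → x ∈ Y) ∧ cD D d ⊆ Y ∧ ¬ Y ⊆ cD D d}
  have hcD : ∀ (g x : G), cD D (g * x * g⁻¹) = (fun y => g * y * g⁻¹) '' cD D x :=
    fun g x => conj_set_eq hc g (fun a y => Commute a y) (fun a b => commute_conj_iff g a b) x
  have facts : ∀ Y ∈ F, orb Y d ⊆ Y ∧
      (∀ x ∈ Y, ∀ o ∈ orb Y d, ¬ Commute o x → x ∈ orb Y d) ∧
      (∀ o ∈ orb Y d, cD D o ⊆ Y) ∧ orb Y d ⊆ orb (orb Y d) d := by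
    rintro Y ⟨hYD, hYtop, hYsat, hYC, -⟩
    have hdY : d ∈ Y := hYC ⟨hd, Commute.refl d⟩
    have hconjY : ∀ h ∈ Subgroup.closure Y, ∀ y ∈ Y, h * y * h⁻¹ ∈ Y := fun h hh y hy =>
      hYsat _ (hc.conj h y (hYD hy)) (mul_mem (mul_mem hh (Subgroup.subset_closure hy)) (inv_mem hh))
    have h1 : orb Y d ⊆ Y := by
      rintro _ ⟨h, hh, rfl⟩; exact hconjY h hh d hdY
    have h2 : ∀ x ∈ Y, ∀ o ∈ orb Y d, ¬ Commute o x → x ∈ orb Y d := by
      intro x hx o ho hox
      have := orb_trans ho (mul_mem (Subgroup.subset_closure (h1 ho)) (Subgroup.subset_closure hx))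
      have b := braid hs (hYD (h1 ho)) (hYD hx) hox
      have e : o * x * o * (o * x)⁻¹ = x := by
        rw [mul_inv_rev, inv_eq hs (hYD (h1 ho)), inv_eq hs (hYD hx)]
        calc o * x * o * (x * o) = o * (x * o * x) * o := by simp [mul_assoc]
          _ = x := by rw [← b]; simp [mul_assoc, mul_self hs (hYD (h1 ho)), mul_self_mul hs (hYD (h1 ho))]
      rwa [e] at this
    refine ⟨h1, h2, ?_, ?_⟩
    · rintro _ ⟨h, hh, rfl⟩
      rw [hcD]
      rintro _ ⟨y, hy, rfl⟩
      exact hconjY h hh y (hYC hy)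
    · rintro _ ⟨h, hh, rfl⟩
      have key : ∀ y ∈ Y, ∀ z ∈ orb (orb Y d) d, y * z * y⁻¹ ∈ orb (orb Y d) d := by
        intro y hy z hz
        by_cases hyo : y ∈ orb Y d
        · exact orb_trans hz (Subgroup.subset_closure hyo)
        · have hle : Subgroup.closure (orb Y d) ≤ Subgroup.centralizer ({y} : Set G) := by
            rw [Subgroup.closure_le]
            intro o ho
            rw [SetLike.mem_coe, Subgroup.mem_centralizer_singleton_iff]
            by_contra hoy
            exact hyo (h2 y hy o ho hoy)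
          obtain ⟨k, hk, rfl⟩ := hz
          have hkd : k * d * k⁻¹ ∈ Subgroup.centralizer ({y} : Set G) :=
            mul_mem (mul_mem (hle hk) (hle (Subgroup.subset_closure (orb_self Y d)))) (inv_mem (hle hk))
          rw [Subgroup.mem_centralizer_singleton_iff] at hkd
          rw [← hkd, mul_inv_cancel_right]
          exact ⟨k, hk, rfl⟩
      rw [← Subgroup.mem_toSubmonoid, Subgroup.closure_toSubmonoid_of_finite] at hh
      induction hh using Submonoid.closure_induction_left with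
      | one => simpa using orb_self (orb Y d) d
      | mul_left y hy h _ ih =>
        have := key y hy _ ih
        simpa [mul_assoc] using this
  have hFne : F.Nonempty := ⟨X, hXD, hX, hsat, hC, hnot⟩
  obtain ⟨Y₀, hY₀, hmax⟩ := Set.exists_max_image F (fun Y => (orb Y d).ncard) (Set.toFinite F) hFne
  have hdC : d ∈ cD D d := ⟨hd, Commute.refl d⟩
  obtain ⟨z, hz, hzmax⟩ := Set.exists_max_image (cD D d) (fun z => (orb (cD D d) z).ncard)
    (Set.toFinite _) ⟨d, hdC⟩
  set Z := orb (cD D d) z with hZ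
  let Y₁ : Set G := {x | x ∈ D ∧ x ∈ Subgroup.closure {y | y ∈ D ∧ ∀ w ∈ Z, y * w * y⁻¹ ∈ Z}}
  have hZC : Z ⊆ Subgroup.closure (cD D d) := by
    rintro _ ⟨h, hh, rfl⟩
    exact mul_mem (mul_mem hh (Subgroup.subset_closure hz)) (inv_mem hh)
  have key : ∀ Y ∈ F, (∀ Y' ∈ F, (orb Y' d).ncard ≤ (orb Y d).ncard) → orb Y d = orb Y₁ d := by
    intro Y hY hYmax
    obtain ⟨h1, h2, h3, h4⟩ := facts Y hY
    obtain ⟨hYD, hYtop, hYsat, hYC, hYn⟩ := hY
    obtain ⟨e, he, heY⟩ : ∃ e ∈ D, e ∉ Y := by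
      by_contra! hall
      exact hYtop (eq_top_of_conj_invariant hD.gen fun x hx => Subgroup.subset_closure (hall x hx))
    obtain ⟨r, y, hrD, hyD, hrY, hyY, hry⟩ :
        ∃ r y : G, r ∈ D ∧ y ∈ D ∧ r ∈ Y ∧ y ∉ Y ∧ Commute r y := by
      obtain ⟨p⟩ := hconn.preconnected ⟨d, hd⟩ ⟨e, he⟩
      obtain ⟨dart, -, hx1, hx2⟩ := p.exists_boundary_dart {x : D | (x : G) ∈ Y} (hYC hdC) heY
      refine ⟨_, _, dart.fst.2, dart.snd.2, hx1, hx2, ?_⟩
      rcases (SimpleGraph.fromRel_adj _ _ _).1 dart.adj with ⟨-, k | k⟩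
      · exact k
      · exact k.symm
    have hrO : r ∉ orb Y d := fun h => hyY (h3 r h ⟨hyD, hry⟩)
    have hOr : orb Y d ⊆ cD D r := fun o ho => ⟨hYD (h1 ho), by
      by_contra hor
      exact hrO (h2 r hrY o ho fun k => hor k.symm)⟩
    have hdy : ¬ Commute d y := fun k => hyY (hYC ⟨hyD, k⟩)
    have hlt : (orb Y d).ncard < (orb (cD D r) d).ncard := by
      refine Set.ncard_lt_ncard ?_ (Set.toFinite _)
      refine (Set.ssubset_iff_of_subset fun o ho => orb_mono hOr d (h4 ho)).2 ⟨y, ?_, fun h => hyY (h1 h)⟩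
      refine ⟨d * y, mul_mem (Subgroup.subset_closure (hOr (orb_self Y d)))
        (Subgroup.subset_closure ⟨hyD, hry⟩), ?_⟩
      have b := braid hs hd hyD hdy
      rw [mul_inv_rev, inv_eq hs hd, inv_eq hs hyD]
      calc y = d * (y * d * y) * d := by rw [← b]; simp [mul_assoc, mul_self hs hd, mul_self_mul hs hd]
        _ = _ := by simp [mul_assoc]
    have hM : (orb Y d).ncard < Z.ncard := by
      refine lt_of_lt_of_le hlt ?_
      obtain ⟨g, hg⟩ := hD.class_eq d hd r hrD
      obtain ⟨x, hx, hxd⟩ : d ∈ (fun y => g * y * g⁻¹) '' cD D d := by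
        rw [← hcD, hg]; exact hOr (orb_self Y d)
      have e1 : orb (cD D r) d = (fun y => g * y * g⁻¹) '' orb (cD D d) x := by
        rw [← orb_image, ← hcD, hg, show g * x * g⁻¹ = d from hxd]
      rw [e1, Set.ncard_image_of_injective _ (fun a b h => mul_left_cancel (mul_right_cancel h))]
      exact hzmax x hx
    have hzO : z ∉ orb Y d := fun hzo => by
      have : Z ⊆ orb Y d := by
        rintro _ ⟨h, hh, rfl⟩
        exact orb_trans hzo (Subgroup.closure_mono hYC hh)
      exact absurd (Set.ncard_le_ncard this (Set.toFinite _)) (not_le.2 hM)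
    have hZO : ∀ w ∈ Z, ∀ o ∈ orb Y d, Commute o w := by
      intro w hw o ho
      obtain ⟨h, hh, rfl⟩ := hw
      have hm : h * z * h⁻¹ ∈ Y := hYsat _ (hc.conj h z hz.1)
        (mul_mem (mul_mem (Subgroup.closure_mono hYC hh) (Subgroup.subset_closure (hYC hz)))
          (inv_mem (Subgroup.closure_mono hYC hh)))
      by_contra hno
      have := orb_trans (h2 _ hm o ho hno) (inv_mem (Subgroup.closure_mono hYC hh))
      exact hzO (by simpa [mul_assoc] using this)
    have hYY₁ : Y ⊆ Y₁ := by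
      intro x hx
      refine ⟨hYD hx, Subgroup.subset_closure ⟨hYD hx, fun w hw => ?_⟩⟩
      by_cases hxo : x ∈ orb Y d
      · rw [(hZO w hw x hxo).eq, mul_inv_cancel_right]; exact hw
      · have hxd : Commute d x := by
          by_contra hno
          exact hxo (h2 x hx d (orb_self Y d) hno)
        exact orb_trans hw (Subgroup.subset_closure ⟨hYD hx, hxd⟩)
    have hY₁ : Y₁ ∈ F := by
      refine ⟨fun x hx => hx.1, ?_, fun x hx hx' => ⟨hx, ?_⟩, hYC.trans hYY₁, fun h => hYn (hYY₁.trans h)⟩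
      · intro htop
        have hclo : Subgroup.closure Y₁ ≤ Subgroup.closure {y | y ∈ D ∧ ∀ w ∈ Z, y * w * y⁻¹ ∈ Z} :=
          (Subgroup.closure_le _).2 fun x hx => hx.2
        rw [htop, top_le_iff] at hclo
        have hinv : ∀ g : G, ∀ w ∈ Z, g * w * g⁻¹ ∈ Z := by
          intro g
          have hg : g ∈ Subgroup.closure {y | y ∈ D ∧ ∀ w ∈ Z, y * w * y⁻¹ ∈ Z} := hclo ▸ Subgroup.mem_top g
          rw [← Subgroup.mem_toSubmonoid, Subgroup.closure_toSubmonoid_of_finite] at hg
          induction hg using Submonoid.closure_induction with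
          | mem a ha => exact ha.2
          | one => simp
          | mul a b _ _ iha ihb =>
            intro w hw
            have := iha _ (ihb w hw)
            simpa [mul_assoc] using this
        obtain ⟨e', he', hde'⟩ := exists_not_commute hD.gen hc hD.class_eq hD.two hd
        obtain ⟨g, hg⟩ := hD.class_eq z hz.1 e' he'
        have hm := hZC (hg ▸ hinv g z (orb_self _ z))
        have hle : Subgroup.closure (cD D d) ≤ Subgroup.centralizer ({d} : Set G) := by
          rw [Subgroup.closure_le]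
          intro x hx
          rw [SetLike.mem_coe, Subgroup.mem_centralizer_singleton_iff]
          exact hx.2.eq.symm
        exact hde' (Subgroup.mem_centralizer_singleton_iff.1 (hle hm)).symm
      · exact (Subgroup.closure_le _).2 (fun y hy => hy.2) hx'
    exact Set.eq_of_subset_of_ncard_le (orb_mono hYY₁ d) (hYmax Y₁ hY₁) (Set.toFinite _)
  have hO := key Y₀ hY₀ hmax
  set O := orb Y₀ d
  obtain ⟨h1, -, -, -⟩ := facts Y₀ hY₀
  have hblock : ∀ g : G, (fun x => g * x * g⁻¹) '' O = O ∨ Disjoint ((fun x => g * x * g⁻¹) '' O) O := by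
    intro g
    refine or_iff_not_imp_right.2 fun hne => ?_
    obtain ⟨_, ⟨_, ⟨k, hk, rfl⟩, rfl⟩, ⟨h', hh', he⟩⟩ := Set.not_disjoint_iff.1 hne
    set u := h'⁻¹ * g * k with hu
    have hud : u * d * u⁻¹ = d := by
      rw [hu]
      calc h'⁻¹ * g * k * d * (h'⁻¹ * g * k)⁻¹ = h'⁻¹ * (g * (k * d * k⁻¹) * g⁻¹) * h' := by group
        _ = h'⁻¹ * (h' * d * h'⁻¹) * h' := by
          have he' : g * (k * d * k⁻¹) * g⁻¹ = h' * d * h'⁻¹ := he
          rw [he']
        _ = d := by group
    set φ := fun x => u * x * u⁻¹ with hφ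
    have hφinj : Function.Injective φ := fun a b h => mul_left_cancel (mul_right_cancel h)
    have hcd : φ '' cD D d = cD D d := by rw [← hcD, hud]
    have hclo : Subgroup.closure (φ '' Y₀) = (Subgroup.closure Y₀).map (MulAut.conj u).toMonoidHom := by
      rw [MonoidHom.map_closure]; rfl
    have hY' : φ '' Y₀ ∈ F := by
      refine ⟨?_, ?_, ?_, hcd ▸ Set.image_mono hY₀.2.2.2.1, ?_⟩
      · rintro _ ⟨y, hy, rfl⟩; exact hc.conj u y (hY₀.1 hy)
      · rw [hclo]
        intro htop
        apply hY₀.2.1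
        apply Subgroup.map_injective (f := (MulAut.conj u).toMonoidHom) (MulAut.conj u).injective
        rw [htop, Subgroup.map_top_of_surjective _ (MulAut.conj u).surjective]
      · intro x hx hx'
        rw [hclo] at hx'
        obtain ⟨y, hy, rfl⟩ := hx'
        exact ⟨y, hY₀.2.2.1 y (by simpa [mul_assoc] using hc.conj' u hx) hy, rfl⟩
      · intro h'
        apply hY₀.2.2.2.2
        rw [← Set.image_subset_image_iff hφinj, hcd]
        exact h'
    have horb : orb (φ '' Y₀) d = φ '' O := by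
      conv_lhs => rw [← hud]
      exact orb_image Y₀ u d
    have hu' : φ '' O = O := by
      have := key _ hY' (fun Y' hY' => by
        rw [horb, Set.ncard_image_of_injective _ hφinj]; exact hmax Y' hY')
      rw [horb] at this
      rw [this, hO]
    ext x
    constructor
    · rintro ⟨w, hw, rfl⟩
      have hw' : k⁻¹ * w * k ∈ O := by
        have := orb_trans hw (inv_mem hk); simpa using this
      have : φ (k⁻¹ * w * k) ∈ O := hu' ▸ ⟨_, hw', rfl⟩
      have := orb_trans this hh'
      simpa [hφ, hu, mul_assoc] using this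
    · intro hx
      have h1' : h'⁻¹ * x * h' ∈ φ '' O := hu'.symm ▸ (by simpa using orb_trans hx (inv_mem hh'))
      obtain ⟨w, hw, hwx⟩ := h1'
      refine ⟨k * w * k⁻¹, orb_trans hw hk, ?_⟩
      calc g * (k * w * k⁻¹) * g⁻¹ = h' * φ w * h'⁻¹ := by simp only [hφ, hu]; group
        _ = x := by rw [hwx]; group
  rcases hprim.2.2 O (fun o ho => hY₀.1 (h1 ho)) hblock with h | h
  · apply hY₀.2.2.2.2
    intro x hx
    refine ⟨hY₀.1 hx, ?_⟩
    by_contra hno
    exact hno ((h ((facts Y₀ hY₀).2.1 x hx d (orb_self Y₀ d) hno) (orb_self Y₀ d)) ▸ Commute.refl d)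
  · exact hY₀.2.1 (eq_top_of_conj_invariant hD.gen fun x hx => Subgroup.subset_closure (h1 (h.ge hx)))

theorem dSubgroup_maximal (hprim : Cfsg.IsPrimitiveUnderConj D)
    (hw : ∃ a ∈ D, ∃ b ∈ D, a ≠ b ∧ Commute a b) {d : G} (hd : d ∈ D) :
    Subgroup.closure {y : G | y ∈ D ∧ Commute d y} ≠ ⊤ ∧ ∀ H : Subgroup G, Cfsg.IsDSubgroup D H →
      Subgroup.closure {y : G | y ∈ D ∧ Commute d y} ≤ H →
      H = Subgroup.closure {y : G | y ∈ D ∧ Commute d y} ∨ H = ⊤ := by
  constructor
  · intro htop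
    obtain ⟨e, he, hde⟩ := exists_not_commute hD.gen hD.closed hD.class_eq hD.two hd
    have hle : Subgroup.closure {y : G | y ∈ D ∧ Commute d y} ≤ Subgroup.centralizer ({d} : Set G) := by
      rw [Subgroup.closure_le]
      intro x hx
      rw [SetLike.mem_coe, Subgroup.mem_centralizer_singleton_iff]
      exact hx.2.eq.symm
    exact hde (Subgroup.mem_centralizer_singleton_iff.1 (hle (htop ▸ Subgroup.mem_top e))).symm
  · intro H hH hle
    refine or_iff_not_imp_right.2 fun hne => le_antisymm ?_ hle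
    have hX : Subgroup.closure {x : G | x ∈ D ∧ x ∈ H} = H := hH
    have hsub := hD.maximal_dSubgroup hprim hw hd (X := {x | x ∈ D ∧ x ∈ H}) (fun x hx => hx.1)
      (by rw [hX]; exact hne) (fun x hx hx' => ⟨hx, hX ▸ hx'⟩)
      (fun x hx => ⟨hx.1, hle (Subgroup.subset_closure hx)⟩)
    conv_lhs => rw [← hX]
    exact Subgroup.closure_mono hsub

theorem commutator_eq_component {L : Subgroup G} (hL : Cfsg.IsComponent L)
    (hi : L.index ≤ 2) : commutator G = L := by
  haveI := hD.component_normal hL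
  apply le_antisymm
  · rw [commutator_def, Subgroup.commutator_le]
    intro a _ b _
    rw [← QuotientGroup.eq_one_iff, ← QuotientGroup.mk'_apply, map_commutatorElement,
      commutatorElement_eq_one_iff_mul_comm]
    have hcard : Nat.card (G ⧸ L) ≤ 2 := hi
    have hcyc : IsCyclic (G ⧸ L) := by
      rcases Nat.lt_or_eq_of_le hcard with h | h
      · haveI : Subsingleton (G ⧸ L) := (Nat.card_eq_one_iff_unique.1 (by
          have : 0 < Nat.card (G ⧸ L) := Nat.card_pos
          omega)).1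
        infer_instance
      · haveI := Fact.mk Nat.prime_two
        exact isCyclic_of_prime_card h
    exact hcyc.commutative.is_comm.comm _ _
  · calc L = ⁅L, L⁆ := (CfsgLib.Components.component_commutator_self hL).symm
      _ ≤ commutator G := Subgroup.commutator_mono le_top le_top

theorem simple_derived_of_primitive (hprim : Cfsg.IsPrimitiveUnderConj D)
    (hw : ∃ a ∈ D, ∃ b ∈ D, a ≠ b ∧ Commute a b) (hZ : Subgroup.center G = ⊥) :
    IsSimpleGroup (commutator G) := by
  obtain ⟨h2, h3⟩ := hD.cores_of_primitive hprim hw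
  obtain ⟨L, hL, hn, hi⟩ := hD.component_of_primitive hprim hw
  haveI := hn
  have hLe : commutator G = L := hD.commutator_eq_component hL hi
  have hcen : Subgroup.center L = ⊥ := by
    rw [← (Subgroup.map_injective L.subtype_injective).eq_iff, Subgroup.map_bot, ← le_bot_iff, ← hZ,
      ← hD.fitting_eq_center h2 h3]
    refine CfsgLib.Fitting.le_fitting inferInstance ?_
    refine CfsgLib.Fitting.isNilpotent_map ?_ L.subtype
    exact @CommGroup.isNilpotent _ { (inferInstance : Group (Subgroup.center L)) with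
      mul_comm := fun a b => Subtype.ext (Subgroup.mem_center_iff.1 b.2 a.1) }
  rw [hLe]
  haveI : Nontrivial L := CfsgLib.Components.quasisimple_nontrivial hL.2
  have hsimple := hL.2.2
  exact IsSimpleGroup.isSimpleGroup_of_surjective ((QuotientGroup.quotientMulEquivOfEq hcen).trans QuotientGroup.quotientBot).toMonoidHom
    (MulEquiv.surjective _)

theorem primitive_of_simple_derived (hw : ∃ a ∈ D, ∃ b ∈ D, a ≠ b ∧ Commute a b)
    (hZ : Subgroup.center G = ⊥) (hsimp : IsSimpleGroup (commutator G)) :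
    Cfsg.IsPrimitiveUnderConj D := by
  have hs := hD.closed.set
  haveI := hsimp
  have hcoset : ∀ a ∈ D, ∀ b ∈ D, a⁻¹ * b ∈ commutator G := by
    intro a ha b hb
    obtain ⟨g, rfl⟩ := hD.class_eq a ha b hb
    have h := Subgroup.commutator_mem_commutator (Subgroup.mem_top a⁻¹) (Subgroup.mem_top g)
    rw [commutatorElement_def] at h
    simpa [commutator_def, mul_assoc] using h
  have hnc : ¬ ∀ x y : commutator G, x * y = y * x := by
    intro hcomm
    obtain ⟨a, ha, b, hb, hne, hab⟩ := hw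
    obtain ⟨c, hc, hac⟩ := exists_not_commute hD.gen hD.closed hD.class_eq hD.two ha
    have hx := hcoset a ha b hb
    have hy := hcoset a ha c hc
    rw [inv_eq hs ha] at hx hy
    let y : commutator G := ⟨a * c, hy⟩
    have hn : (Subgroup.zpowers y).Normal := ⟨fun n hn g => by rwa [hcomm g n, mul_inv_cancel_right]⟩
    have htop : Subgroup.zpowers y = ⊤ := (hn.eq_bot_or_eq_top).resolve_left fun h => by
      rw [Subgroup.zpowers_eq_bot] at h
      exact hac ((mul_eq_one_iff_eq' hs hc).1 (congrArg Subtype.val h) ▸ Commute.refl a)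
    obtain ⟨k, hk⟩ := Subgroup.mem_zpowers_iff.1 (htop ▸ Subgroup.mem_top (⟨a * b, hx⟩ : commutator G))
    have hk' : (a * c) ^ k = a * b := congrArg Subtype.val hk
    have h3 : (a * b) ^ 3 = 1 := by
      rw [← hk', ← zpow_natCast, zpow_comm, zpow_natCast, pow_three_of_not_commute hs ha hc hac, one_zpow]
    rw [pow_succ, (sq_eq_one_iff hs ha hb).2 hab, one_mul, mul_eq_one_iff_eq' hs hb] at h3
    exact hne h3
  have hnsolv : ¬ Group.IsSolvable (commutator G) := fun h => hnc (IsSimpleGroup.comm_iff_isSolvable.2 h)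
  have hcore : ∀ p, p.Prime → Cfsg.pCore p G ≤ Subgroup.center G := by
    intro p hp
    haveI := Fact.mk hp
    have hN : ((Cfsg.pCore p G).subgroupOf (commutator G)).Normal := inferInstance
    rcases hN.eq_bot_or_eq_top with h | h
    · intro x hx
      refine mem_center_of_commute hD.gen fun d _ => ?_
      have hm : ⁅x, d⁆ ∈ Cfsg.pCore p G ⊓ commutator G :=
        ⟨(Subgroup.commutator_le_left _ _) (Subgroup.commutator_mem_commutator hx (Subgroup.mem_top d)),
          Subgroup.commutator_mem_commutator (Subgroup.mem_top x) (Subgroup.mem_top d)⟩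
      rw [Subgroup.subgroupOf_eq_bot, disjoint_iff] at h
      rw [h, Subgroup.mem_bot, commutatorElement_eq_one_iff_mul_comm] at hm
      exact hm
    · exfalso
      apply hnsolv
      rw [Subgroup.subgroupOf_eq_top] at h
      haveI := ((CfsgLib.PCore.pCore_isPGroup (p := p) (G := G)).to_le h).isNilpotent
      infer_instance
  haveI : Nontrivial (commutator G) := inferInstance
  have hcomp : Cfsg.IsComponent (commutator G) := by
    refine ⟨(inferInstance : (commutator G).Normal).isSubnormal, ?_⟩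
    refine CfsgLib.Components.isQuasisimple_of_normal ?_ fun N hN hne => ?_
    · refine (inferInstance : (_root_.commutator (commutator G)).Normal).eq_bot_or_eq_top.resolve_left ?_
      intro h
      apply hnc
      intro x y
      have := Subgroup.commutator_mem_commutator (Subgroup.mem_top x) (Subgroup.mem_top y)
      rw [← commutator_def, h, Subgroup.mem_bot, commutatorElement_eq_one_iff_mul_comm] at this
      exact this
    · exact (hN.eq_bot_or_eq_top.resolve_right hne) ▸ bot_le
  obtain ⟨a, ha, -⟩ := hD.two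
  exact hD.primitive_of_index_le_two (hcore 2 Nat.prime_two) (hcore 3 Nat.prime_three) hcomp
    (hD.index_le_two ha fun b hb => hcoset a ha b hb)

end ClassTwo

end CfsgLib.ThreeTrans
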