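import Mathlib
import Cfsg.Agent.Lib.ThreeTrans.Basic

/-! A member of a set of 3-transpositions commuting with the product of two or three commuting members
commutes with each of them; relations between commuting members. -/

set_option autoImplicit false

namespace CfsgLib.ThreeTrans

variable {G : Type*} [Group G] {D : Set G}

/-- The members other than `a` commuting with `a`. -/
def Dd (D : Set G) (a : G) : Set G := {y : G | y ∈ D ∧ y ≠ a ∧ Commute a y}

/-- No two members commute with exactly the same members. -/
def NoTwins (D : Set G) : Prop :=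
  ∀ a ∈ D, ∀ b ∈ D, (∀ y ∈ D, Commute a y ↔ Commute b y) → a = b

/-- No product of `k` distinct pairwise commuting members is one. -/
def NoRel (D : Set G) (k : ℕ) : Prop :=
  ∀ l : List G, l.Nodup → l.length = k → (∀ x ∈ l, x ∈ D) → (∀ x ∈ l, ∀ y ∈ l, Commute x y) → l.prod ≠ 1

section

variable (hD : Cfsg.IsThreeTranspositionSet D)
include hD

/-- A member commuting with the product of two distinct commuting members commutes with both. -/
theorem commute_of_commute_two {a b x : G} (ha : a ∈ D) (hb : b ∈ D) (hx : x ∈ D) (hne : a ≠ b)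
    (hab : Commute a b) (h : Commute x (a * b)) : Commute x a ∧ Commute x b := by
  have hb' : Commute x a → Commute x b := fun hxa => by
    have := hxa.inv_right.mul_right h
    rwa [inv_mul_cancel_left] at this
  have ha' : Commute x b → Commute x a := fun hxb => by
    have := h.mul_right hxb.inv_right
    rwa [mul_inv_cancel_right] at this
  by_cases hxa : Commute x a
  · exact ⟨hxa, hb' hxa⟩
  by_cases hxb : Commute x b
  · exact ⟨ha' hxb, hxb⟩
  exfalso
  have ba := braid hD hx ha hxa
  have bb := braid hD hx hb hxb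
  have hxx := mul_self hD hx
  have haa := mul_self hD ha
  have hbb := mul_self hD hb
  have e1 : a * b = a * (x * a * b * x) * b := by
    calc a * b = x * (a * b) * x := by rw [h.eq, mul_assoc, hxx, mul_one]
      _ = (x * a * x) * (x * b * x) := by
        simp only [mul_assoc]
        rw [← mul_assoc x x, hxx, one_mul]
      _ = (a * x * a) * (b * x * b) := by rw [ba, bb]
      _ = a * (x * a * b * x) * b := by simp [mul_assoc]
  have e2 : x * a * b * x = 1 := by
    have := congrArg (fun t => a⁻¹ * t * b⁻¹) e1
    simpa [mul_assoc] using this.symm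
  refine hne ?_
  have e3 : a * b = 1 := by
    calc a * b = x * (x * a * b * x) * x := by
          simp only [mul_assoc, mul_self_mul hD hx, hxx, mul_one]
      _ = 1 := by rw [e2, mul_one, hxx]
  exact (mul_eq_one_iff_eq' hD hb).1 e3

/-- A member commuting with the product of three distinct commuting members commutes with each. -/
theorem commute_of_commute_three {a b c x : G} (ha : a ∈ D) (hb : b ∈ D) (hc : c ∈ D) (hx : x ∈ D)
    (nab : a ≠ b) (nac : a ≠ c) (nbc : b ≠ c) (hab : Commute a b) (hac : Commute a c) (hbc : Commute b c)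
    (hxc : x ≠ c) (h : Commute x (a * b * c)) : Commute x a ∧ Commute x b ∧ Commute x c := by
  by_cases hc1 : Commute x c
  · have h2 : Commute x (a * b) := by
      have := h.mul_right hc1.inv_right
      rwa [mul_inv_cancel_right] at this
    obtain ⟨h3, h4⟩ := commute_of_commute_two hD ha hb hx nab hab h2
    exact ⟨h3, h4, hc1⟩
  by_cases ha1 : Commute x a
  · have h2 : Commute x (b * c) := by
      have := ha1.inv_right.mul_right h
      rwa [mul_assoc, inv_mul_cancel_left] at this
    obtain ⟨h3, h4⟩ := commute_of_commute_two hD hb hc hx nbc hbc h2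
    exact ⟨ha1, h3, h4⟩
  by_cases hb1 : Commute x b
  · have h2 : Commute x (a * c) := by
      have e : a * c = b⁻¹ * (a * b * c) := by rw [hab.eq]; group
      rw [e]
      exact hb1.inv_right.mul_right h
    obtain ⟨h3, h4⟩ := commute_of_commute_two hD ha hc hx nac hac h2
    exact ⟨h3, hb1, h4⟩
  exfalso
  have aa := mul_self hD ha
  have bb := mul_self hD hb
  have cc := mul_self hD hc
  have xx := mul_self hD hx
  have Ba := braid hD hx ha ha1
  have Bb := braid hD hx hb hb1
  have Bc := braid hD hx hc hc1
  have can : ∀ {t : G}, t * t = 1 → ∀ y : G, t * (t * y) = y := fun ht y => by rw [← mul_assoc, ht, one_mul]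
  set u := a * b * x * b * a with hu
  have hX : (a * b * c) * x * (c * b * a) = x := by
    rw [← h.eq]
    simp only [mul_assoc]
    rw [can cc, can bb, aa, mul_one]
  have h1 : u * x * u = x := by
    have e1 : u * x * u = a * b * x * b * (a * x * a) * b * x * b * a := by rw [hu]; simp only [mul_assoc]
    rw [e1, ← Ba]
    calc a * b * x * b * (x * a * x) * b * x * b * a
        = a * b * (x * b * x) * a * (x * b * x) * b * a := by simp only [mul_assoc]
      _ = a * b * (b * x * b) * a * (b * x * b) * b * a := by rw [Bb]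
      _ = a * x * (b * a * b) * x * a := by simp only [mul_assoc, can bb, bb, mul_one, can bb]
      _ = a * x * a * x * a := by rw [← hab.eq, mul_assoc a b b, bb, mul_one]
      _ = (a * x * a) * x * a := rfl
      _ = (x * a * x) * x * a := by rw [Ba]
      _ = x := by simp only [mul_assoc, can xx, aa, mul_one]
  have h2 : u * x * u = c := by
    calc u * x * u = u * ((a * b * c) * x * (c * b * a)) * u := by rw [hX]
      _ = a * b * x * (b * a * a * b) * c * x * c * (b * a * a * b) * x * b * a := by
        rw [hu]; simp only [mul_assoc]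
      _ = a * b * (x * c * x) * c * x * b * a := by
        simp only [mul_assoc, can aa, can bb, bb, mul_one]
      _ = a * b * (c * x * c) * c * x * b * a := by rw [Bc]
      _ = a * (b * c) * b * a := by simp only [mul_assoc, can cc, can xx]
      _ = a * c * a := by rw [hbc.eq]; simp only [mul_assoc, can bb]
      _ = c := by rw [hac.eq, mul_assoc, aa, mul_one]
  exact hxc (h1.symm.trans h2)

/-- Products of two distinct commuting members determine them, given that four such never multiply to one. -/
theorem pair_unique (h4 : NoRel D 4) {a b a' b' : G} (ha : a ∈ D) (hb : b ∈ D) (ha' : a' ∈ D) (hb' : b' ∈ D)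
    (nab : a ≠ b) (nab' : a' ≠ b') (hab : Commute a b) (hab' : Commute a' b') (e : a * b = a' * b') :
    (a' = a ∧ b' = b) ∨ (a' = b ∧ b' = a) := by
  by_cases h1 : a' = a
  · exact Or.inl ⟨h1, by rw [h1] at e; exact (mul_left_cancel e).symm⟩
  by_cases h2 : a' = b
  · exact Or.inr ⟨h2, by rw [h2, hab.eq] at e; exact (mul_left_cancel e).symm⟩
  exfalso
  have h3 : b' ≠ a := fun e' => by
    have c : Commute a' a := e' ▸ hab'
    rw [e', c.eq] at e
    exact h2 (mul_left_cancel e).symm
  have h4' : b' ≠ b := fun e' => by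
    rw [e'] at e
    exact h1 (mul_right_cancel e).symm
  have hc' : Commute a' (a * b) := by rw [e]; exact (Commute.refl a').mul_right hab'
  have hc'' : Commute b' (a * b) := by rw [e]; exact hab'.symm.mul_right (Commute.refl b')
  obtain ⟨c1, c2⟩ := commute_of_commute_two hD ha hb ha' nab hab hc'
  obtain ⟨c3, c4⟩ := commute_of_commute_two hD ha hb hb' nab hab hc''
  refine h4 [a, b, a', b'] ?_ rfl ?_ ?_ ?_
  · simp only [List.nodup_cons, List.mem_cons, List.not_mem_nil, or_false, not_or, not_false_eq_true,
      List.nodup_nil, and_true]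
    exact ⟨⟨nab, Ne.symm h1, Ne.symm h3⟩, ⟨Ne.symm h2, Ne.symm h4'⟩, nab'⟩
  · simp only [List.mem_cons, List.not_mem_nil, or_false]
    rintro y (rfl | rfl | rfl | rfl) <;> assumption
  · simp only [List.mem_cons, List.not_mem_nil, or_false]
    rintro y (rfl | rfl | rfl | rfl) z (rfl | rfl | rfl | rfl) <;>
      first | exact Commute.refl _ | assumption | exact Commute.symm (by assumption)
  · simp only [List.prod_cons, List.prod_nil, mul_one]
    rw [← mul_assoc, e, ← mul_assoc, mul_assoc a', ← hab'.eq, ← mul_assoc, mul_self hD ha', one_mul,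
      mul_self hD hb']

/-- Two triples with the same product share their members, or form six commuting members with product one. -/
theorem triple_cases (h4 : NoRel D 4) {a b c a' b' c' : G} (ha : a ∈ D) (hb : b ∈ D) (hc : c ∈ D) (ha' : a' ∈ D)
    (hb' : b' ∈ D) (hc' : c' ∈ D) (nab : a ≠ b) (nac : a ≠ c) (nbc : b ≠ c) (nab' : a' ≠ b') (nac' : a' ≠ c')
    (nbc' : b' ≠ c') (hab : Commute a b) (hac : Commute a c) (hbc : Commute b c) (hab' : Commute a' b')
    (hac' : Commute a' c') (hbc' : Commute b' c') (e : a * b * c = a' * b' * c') :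
    (∀ x : G, x ∈ [a', b', c'] ↔ x ∈ [a, b, c]) ∨
      ([a, b, c, a', b', c'].Nodup ∧ (∀ x ∈ [a, b, c, a', b', c'], ∀ y ∈ [a, b, c, a', b', c'], Commute x y) ∧
        [a, b, c, a', b', c'].prod = 1) := by
  -- reduce to the case where the first member of the second triple is new
  have key : ∀ {p q r : G}, p ∈ D → q ∈ D → r ∈ D → q ≠ r → Commute p q → Commute p r → Commute q r →
      a * b * c = p * (q * r) → p ∈ [a, b, c] → ∀ x : G, x ∈ [p, q, r] ↔ x ∈ [a, b, c] := by
    intro p q r hp hq hr nqr cpq cpr cqr e hmem x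
    simp only [List.mem_cons, List.not_mem_nil, or_false] at hmem ⊢
    have pp := mul_self hD hp
    rcases hmem with rfl | rfl | rfl
    · rw [mul_assoc] at e
      rcases pair_unique hD h4 hb hc hq hr nbc nqr hbc cqr (mul_left_cancel e) with ⟨rfl, rfl⟩ | ⟨rfl, rfl⟩ <;> tauto
    · rw [hab.eq, mul_assoc] at e
      rcases pair_unique hD h4 ha hc hq hr nac nqr hac cqr (mul_left_cancel e) with ⟨rfl, rfl⟩ | ⟨rfl, rfl⟩ <;> tauto
    · rw [(hac.mul_left hbc).eq] at e
      rcases pair_unique hD h4 ha hb hq hr nab nqr hab cqr (mul_left_cancel e) with ⟨rfl, rfl⟩ | ⟨rfl, rfl⟩ <;> tauto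
  by_cases h1 : a' ∈ [a, b, c]
  · exact Or.inl (key ha' hb' hc' nbc' hab' hac' hbc' (by rw [e, mul_assoc]) h1)
  by_cases h2 : b' ∈ [a, b, c]
  · refine Or.inl fun x => ?_
    rw [← key hb' ha' hc' nac' hab'.symm hbc' hac' (by rw [e, hab'.eq, mul_assoc]) h2 x]
    simp only [List.mem_cons, List.not_mem_nil, or_false]
    tauto
  by_cases h3 : c' ∈ [a, b, c]
  · refine Or.inl fun x => ?_
    rw [← key hc' ha' hb' nab' hac'.symm hbc'.symm hab' (by rw [e, (hac'.mul_left hbc').eq]) h3 x]
    simp only [List.mem_cons, List.not_mem_nil, or_false]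
    tauto
  right
  have hj : ∀ x ∈ [a', b', c'], Commute x (a * b * c) := by
    rw [e]
    simp only [List.mem_cons, List.not_mem_nil, or_false]
    rintro x (rfl | rfl | rfl)
    · exact ((Commute.refl _).mul_right hab').mul_right hac'
    · exact (hab'.symm.mul_right (Commute.refl _)).mul_right hbc'
    · exact (hac'.symm.mul_right hbc'.symm).mul_right (Commute.refl _)
  simp only [List.mem_cons, List.not_mem_nil, or_false, not_or] at h1 h2 h3
  obtain ⟨p1, p2, p3⟩ := commute_of_commute_three hD ha hb hc ha' nab nac nbc hab hac hbc h1.2.2 (hj a' (by simp))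
  obtain ⟨q1, q2, q3⟩ := commute_of_commute_three hD ha hb hc hb' nab nac nbc hab hac hbc h2.2.2 (hj b' (by simp))
  obtain ⟨r1, r2, r3⟩ := commute_of_commute_three hD ha hb hc hc' nab nac nbc hab hac hbc h3.2.2 (hj c' (by simp))
  refine ⟨?_, ?_, ?_⟩
  · simp only [List.nodup_cons, List.mem_cons, List.not_mem_nil, or_false, not_or, not_false_eq_true,
      List.nodup_nil, and_true]
    exact ⟨⟨nab, nac, Ne.symm h1.1, Ne.symm h2.1, Ne.symm h3.1⟩,
      ⟨nbc, Ne.symm h1.2.1, Ne.symm h2.2.1, Ne.symm h3.2.1⟩,
      ⟨Ne.symm h1.2.2, Ne.symm h2.2.2, Ne.symm h3.2.2⟩, ⟨nab', nac'⟩, nbc'⟩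
  · simp only [List.mem_cons, List.not_mem_nil, or_false]
    rintro x (rfl | rfl | rfl | rfl | rfl | rfl) y (rfl | rfl | rfl | rfl | rfl | rfl) <;>
      first | exact Commute.refl _ | assumption | exact Commute.symm (by assumption)
  · have hinv : a' * b' * c' * (a' * b' * c') = 1 := by
      have h12 : (a' * b') * (a' * b') = 1 := by
        rw [mul_assoc, ← mul_assoc b' a', ← hab'.eq, mul_assoc a', mul_self hD hb', mul_one, mul_self hD ha']
      rw [mul_assoc, ← mul_assoc c', ← (hac'.mul_left hbc').eq, mul_assoc (a' * b'), mul_self hD hc', mul_one, h12]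
    calc [a, b, c, a', b', c'].prod = (a * b * c) * (a' * b' * c') := by simp [mul_assoc]
      _ = 1 := by rw [e]; exact hinv

end

end CfsgLib.ThreeTrans
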