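import Mathlib
import Cfsg.Agent.Lib.ThreeTrans.Relations
import Cfsg.Agent.Lib.ThreeTrans.Layer

/-! What the structure of the group generated by the members commuting with one member says about a group
generated by 3-transpositions. -/

set_option autoImplicit false

namespace CfsgLib.ThreeTrans

variable {G : Type*} [Group G] {D : Set G}

/-- The subgroup generated by the members other than `d` commuting with `d`. -/
abbrev Hd (D : Set G) (d : G) : Subgroup G := Subgroup.closure (Dd D d)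

/-- A class of 3-transpositions without twins, not all commuting. -/
structure Rigid {Y : Type*} [Group Y] (E : Set Y) : Prop where
  class_eq : ∀ a ∈ E, ∀ b ∈ E, ∃ g : Y, g * a * g⁻¹ = b
  nonabelian : ∃ a ∈ E, ∃ b ∈ E, ¬ Commute a b
  twins : NoTwins E

/-- The non-trivial images of the members commuting with `d`. -/
def imgSet (D : Set G) (d : G) {Y : Type*} [Group Y] (π : Hd D d →* Y) : Set Y :=
  {e | e ≠ 1 ∧ ∃ x : Hd D d, (x : G) ∈ Dd D d ∧ π x = e}

/-- `π` is the quotient of the group generated by the members commuting with `d` by its centre. -/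
structure IsBase (D : Set G) (d : G) {Y : Type*} [Group Y] (π : Hd D d →* Y) : Prop where
  group : Cfsg.IsThreeTranspositionGroup D
  mem : d ∈ D
  surj : Function.Surjective π
  ker : ∀ x, π x = 1 ↔ x ∈ Subgroup.center (Hd D d)

theorem mem_center_iff_commute {d : G} (x : Hd D d) :
    x ∈ Subgroup.center (Hd D d) ↔ ∀ y ∈ Dd D d, Commute (x : G) y := by
  constructor
  · intro h y hy
    exact (congrArg Subtype.val (Subgroup.mem_center_iff.1 h ⟨y, Subgroup.subset_closure hy⟩)).symm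
  · intro h
    rw [Subgroup.mem_center_iff]
    intro w
    have hle : Hd D d ≤ Subgroup.centralizer ({(x : G)} : Set G) := by
      refine (Subgroup.closure_le _).2 fun y hy => ?_
      rw [SetLike.mem_coe, Subgroup.mem_centralizer_singleton_iff]
      exact (h y hy).eq.symm
    exact Subtype.ext (Subgroup.mem_centralizer_singleton_iff.1 (hle w.2))

theorem commute_of_mem_Hd {d h : G} (hh : h ∈ Hd D d) : Commute h d := by
  have hle : Hd D d ≤ Subgroup.centralizer ({d} : Set G) := by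
    refine (Subgroup.closure_le _).2 fun y hy => ?_
    rw [SetLike.mem_coe, Subgroup.mem_centralizer_singleton_iff]
    exact hy.2.2.eq.symm
  exact Subgroup.mem_centralizer_singleton_iff.1 (hle hh)

theorem conj_mem_Dd (hD : ConjClosed D) {d h y : G} (hh : Commute h d) (hy : y ∈ Dd D d) :
    h * y * h⁻¹ ∈ Dd D d := by
  have e : h * d * h⁻¹ = d := by rw [hh.eq, mul_inv_cancel_right]
  refine ⟨hD.conj h y hy.1, fun e' => hy.2.1 (mul_left_cancel (mul_right_cancel (e'.trans e.symm))), ?_⟩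
  have := (commute_conj_iff h d y).2 hy.2.2
  rwa [e] at this

/-- Members not commuting are conjugate. -/
theorem exists_conj_of_not_commute (hD : Cfsg.IsThreeTranspositionSet D) {a b : G} (ha : a ∈ D) (hb : b ∈ D)
    (h : ¬ Commute a b) : ∃ g : G, g * a * g⁻¹ = b := by
  refine ⟨a * b, ?_⟩
  rw [mul_inv_rev, inv_eq hD ha, inv_eq hD hb]
  calc a * b * a * (b * a) = a * b * (a * b * a) := by simp [mul_assoc]
    _ = a * b * (b * a * b) := by rw [braid hD ha hb h]
    _ = b := by simp [mul_assoc, mul_self_mul hD hb, mul_self_mul hD ha]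

namespace IsBase

variable {d : G} {Y : Type*} [Group Y] {π : Hd D d →* Y} (hB : IsBase D d π)
include hB

theorem map_eq_one_iff' (x : Hd D d) : π x = 1 ↔ ∀ y ∈ Dd D d, Commute (x : G) y := by
  rw [hB.ker, mem_center_iff_commute]

theorem commute_img {x y : Hd D d} (hx : (x : G) ∈ Dd D d) (hy : (y : G) ∈ Dd D d) :
    Commute (π x) (π y) ↔ Commute (x : G) y := by
  refine ⟨fun h => ?_, fun h => Commute.map (show Commute x y from Subtype.ext h) π⟩
  by_contra hn
  have hs := hB.group.1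
  have h1 : π (x * y * (x * y)) = 1 := by
    have hx2 : x * x = 1 := Subtype.ext (mul_self hs hx.1)
    have hy2 : y * y = 1 := Subtype.ext (mul_self hs hy.1)
    calc π (x * y * (x * y)) = π x * (π y * π x) * π y := by simp [mul_assoc]
      _ = π x * (π x * π y) * π y := by rw [h.eq]
      _ = π (x * x * (y * y)) := by simp [mul_assoc]
      _ = 1 := by rw [hx2, hy2, one_mul, map_one]
  have h2 := ((hB.map_eq_one_iff' _).1 h1) _ hx
  have h3 := pow_three_of_not_commute hs hx.1 hy.1 hn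
  have h4 : ((x : G) * y * ((x : G) * y))⁻¹ = (x : G) * y := by
    rw [pow_succ, pow_two] at h3
    exact inv_eq_of_mul_eq_one_right h3
  have h5 : Commute ((x : G) * y) x := h4 ▸ h2.inv_left
  refine hn ?_
  have := ((Commute.refl (x : G)).inv_right).mul_right h5.symm
  rwa [inv_mul_cancel_left] at this

theorem img_isThreeTranspositionSet : Cfsg.IsThreeTranspositionSet (imgSet D d π) := by
  refine ⟨?_, ?_⟩
  · rintro e ⟨hne, x, hx, rfl⟩
    refine orderOf_eq_prime ?_ hne
    rw [pow_two, ← map_mul, show x * x = 1 from Subtype.ext (mul_self hB.group.1 hx.1), map_one]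
  · rintro e ⟨-, x, hx, rfl⟩ f ⟨-, y, hy, rfl⟩
    rw [← map_mul, ← map_pow, ← map_pow]
    rcases hB.group.1.2 _ hx.1 _ hy.1 with h | h
    · exact Or.inl (by rw [show (x * y) ^ 2 = 1 from Subtype.ext h, map_one])
    · exact Or.inr (by rw [show (x * y) ^ 3 = 1 from Subtype.ext h, map_one])

theorem img_conj : ∀ g : Y, ∀ e ∈ imgSet D d π, g * e * g⁻¹ ∈ imgSet D d π := by
  rintro g e ⟨hne, x, hx, rfl⟩
  obtain ⟨h, rfl⟩ := hB.surj g
  refine ⟨fun e' => hne ?_, h * x * h⁻¹, conj_mem_Dd (conjClosed_of_group hB.group) (commute_of_mem_Hd h.2) hx,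
    by rw [map_mul, map_mul, map_inv]⟩
  rwa [mul_inv_eq_one, mul_eq_left] at e'

theorem img_gen : Subgroup.closure (imgSet D d π) = ⊤ := by
  rw [eq_top_iff]
  rintro y -
  obtain ⟨⟨x, hx⟩, rfl⟩ := hB.surj y
  induction hx using Subgroup.closure_induction with
  | mem z hz =>
    by_cases h : π ⟨z, Subgroup.subset_closure hz⟩ = 1
    · rw [h]; exact one_mem _
    · exact Subgroup.subset_closure ⟨h, ⟨z, _⟩, hz, rfl⟩
  | one =>
    have : (⟨1, one_mem _⟩ : Hd D d) = 1 := rfl
    rw [this, map_one]; exact one_mem _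
  | mul a b ha hb iha ihb =>
    have : (⟨a * b, mul_mem ha hb⟩ : Hd D d) = ⟨a, ha⟩ * ⟨b, hb⟩ := rfl
    rw [this, map_mul]; exact mul_mem iha ihb
  | inv a ha iha =>
    have : (⟨a⁻¹, inv_mem ha⟩ : Hd D d) = (⟨a, ha⟩ : Hd D d)⁻¹ := rfl
    rw [this, map_inv]; exact inv_mem iha

theorem img_group : Cfsg.IsThreeTranspositionGroup (imgSet D d π) :=
  ⟨hB.img_isThreeTranspositionSet, hB.img_conj, hB.img_gen⟩

theorem exists_img_ne (hnab : ∃ a b : Y, a * b ≠ b * a) : (imgSet D d π).Nonempty := by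
  by_contra h
  rw [Set.not_nonempty_iff_eq_empty] at h
  have htop := hB.img_gen
  rw [h, Subgroup.closure_empty] at htop
  obtain ⟨a, b, hab⟩ := hnab
  refine hab ?_
  have ha : a ∈ (⊥ : Subgroup Y) := htop ▸ Subgroup.mem_top a
  rw [Subgroup.mem_bot] at ha
  rw [ha, one_mul, mul_one]

/-- All members are conjugate. -/
theorem transitive [Finite G] (hZ : Subgroup.center G = ⊥) (hZY : Subgroup.center Y = ⊥)
    (hE : Rigid (imgSet D d π)) {c : G} (hc : c ∈ D) (hdc : ¬ Commute d c)
    (hL : Nat.card (↥(Subgroup.closure (Dd D d ∩ Dd D c)) ⧸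
      Subgroup.center ↥(Subgroup.closure (Dd D d ∩ Dd D c))) ≠ Nat.card Y) :
    ∀ a ∈ D, ∀ b ∈ D, ∃ g : G, g * a * g⁻¹ = b := by
  have hs := hB.group.1
  suffices hall : ∀ f ∈ D, ∃ g : G, g * d * g⁻¹ = f by
    intro a ha b hb
    obtain ⟨g, rfl⟩ := hall a ha
    obtain ⟨g', rfl⟩ := hall b hb
    exact ⟨g' * g⁻¹, by group⟩
  by_contra hnot
  push Not at hnot
  obtain ⟨f, hf, hfd⟩ := hnot
  -- members outside the class commute with the class
  have hcls : ∀ o f : G, o ∈ D → f ∈ D → (∃ g : G, g * d * g⁻¹ = o) → (¬ ∃ g : G, g * d * g⁻¹ = f) →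
      Commute o f := by
    rintro o f ho hf ⟨g, rfl⟩ hnf
    by_contra hn
    obtain ⟨k, rfl⟩ := exists_conj_of_not_commute hs ho hf hn
    exact hnf ⟨k * g, by group⟩
  let O : G → Prop := fun x => ∃ g : G, g * d * g⁻¹ = x
  have hOd : O d := ⟨1, by simp⟩
  have hFd : ∀ x ∈ D, ¬ O x → x ∈ Dd D d := fun x hx hOx =>
    ⟨hx, fun e => hOx (e ▸ hOd), hcls d x hB.mem hx hOd hOx⟩
  have hconjO : ∀ x g : G, O x → O (g * x * g⁻¹) := by
    rintro x g ⟨k, rfl⟩
    exact ⟨g * k, by group⟩
  -- one of the two parts is central in `Hd`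
  have hpart : (∀ x : Hd D d, (x : G) ∈ Dd D d → ¬ O x → π x = 1) ∨
      (∀ x : Hd D d, (x : G) ∈ Dd D d → O x → π x = 1) := by
    by_contra! hboth
    obtain ⟨⟨x, hx, hOx, hx1⟩, o, ho, hOo, ho1⟩ := hboth
    obtain ⟨k, hk⟩ := hE.class_eq _ ⟨ho1, o, ho, rfl⟩ _ ⟨hx1, x, hx, rfl⟩
    obtain ⟨h, rfl⟩ := hB.surj k
    set o' := h * o * h⁻¹ with ho'
    have ho'D : (o' : G) ∈ Dd D d := conj_mem_Dd (conjClosed_of_group hB.group) (commute_of_mem_Hd h.2) ho
    have hOo' : O (o' : G) := hconjO _ _ hOo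
    have hπ : π o' = π x := by rw [ho', map_mul, map_mul, map_inv, hk]
    obtain ⟨a, ⟨ha1, a', ha', rfl⟩, b, hb, hab⟩ := hE.nonabelian
    have hcen : ∀ y : Hd D d, (y : G) ∈ Dd D d → Commute (π x) (π y) := by
      intro y hy
      by_cases hOy : O y
      · exact ((hB.commute_img hy hx).2 (hcls y x hy.1 hx.1 hOy hOx)).symm
      · rw [← hπ]; exact (hB.commute_img ho'D hy).2 (hcls o' y ho'D.1 hy.1 hOo' hOy)
    obtain ⟨g, hg⟩ := hE.class_eq _ ⟨hx1, x, hx, rfl⟩ _ ⟨ha1, a', ha', rfl⟩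
    obtain ⟨g', rfl⟩ := hB.surj g
    obtain ⟨-, b', hb', rfl⟩ := hb
    refine hab ?_
    rw [← hg]
    have := hcen (g'⁻¹ * b' * g'⁻¹⁻¹)
      (conj_mem_Dd (conjClosed_of_group hB.group) (commute_of_mem_Hd (inv_mem g'.2)) hb')
    rw [← commute_conj_iff (π g')] at this
    simpa [mul_assoc] using this
  rcases hpart with h | h
  · -- the outside part would be central in `G`
    have hOf : ¬ O f := fun ⟨g, hg⟩ => hfd g hg
    have hfD := hFd f hf hOf
    have hfc := (hB.map_eq_one_iff' ⟨f, Subgroup.subset_closure hfD⟩).1 (h _ hfD hOf)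
    have hcen : f ∈ Subgroup.center G := by
      refine mem_center_of_commute hB.group.2.2 fun y hy => ?_
      by_cases hOy : O y
      · exact (hcls y f hy hf hOy hOf).symm
      · exact hfc y (hFd y hy hOy)
    rw [hZ, Subgroup.mem_bot] at hcen
    exact ne_one hs hf hcen
  · -- otherwise the outside part already generates the quotient
    have hOc : O c := exists_conj_of_not_commute hs hB.mem hc hdc
    set L := Subgroup.closure (Dd D d ∩ Dd D c) with hLdef
    have hLle : L ≤ Hd D d := Subgroup.closure_mono Set.inter_subset_left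
    let ρ : L →* Y := π.comp (Subgroup.inclusion hLle)
    have hρ : Function.Surjective ρ := by
      rw [← MonoidHom.range_eq_top, eq_top_iff, ← hB.img_gen, Subgroup.closure_le]
      rintro e ⟨he, x, hx, rfl⟩
      have hOx : ¬ O x := fun hO => he (h x hx hO)
      have hxc : (x : G) ∈ Dd D c :=
        ⟨hx.1, fun e' => hOx (e' ▸ hOc), hcls c x hc hx.1 hOc hOx⟩
      exact ⟨⟨x, Subgroup.subset_closure ⟨hx, hxc⟩⟩, rfl⟩
    have hker : ρ.ker = Subgroup.center L := by
      refine le_antisymm (fun x hx => ?_) (fun x hx => ?_)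
      · rw [Subgroup.mem_center_iff]
        intro w
        have := (hB.ker _).1 (show π (Subgroup.inclusion hLle x) = 1 from hx)
        exact Subtype.ext (congrArg Subtype.val (Subgroup.mem_center_iff.1 this (Subgroup.inclusion hLle w)) :)
      · have : ρ x ∈ Subgroup.center Y := by
          rw [Subgroup.mem_center_iff]
          intro y
          obtain ⟨w, rfl⟩ := hρ y
          rw [← map_mul, ← map_mul, Subgroup.mem_center_iff.1 hx w]
        rw [hZY, Subgroup.mem_bot] at this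
        exact this
    exact hL (Nat.card_congr ((QuotientGroup.quotientMulEquivOfEq hker.symm).trans
      (QuotientGroup.quotientKerEquivOfSurjective ρ hρ)).toEquiv)

/-- There are no twins. -/
theorem noTwins (hcls : ∀ a ∈ D, ∀ b ∈ D, ∃ g : G, g * a * g⁻¹ = b) (hE : Rigid (imgSet D d π)) : NoTwins D := by
  have hs := hB.group.1
  have hc := conjClosed_of_group hB.group
  by_contra hnot
  rw [NoTwins] at hnot
  push Not at hnot
  obtain ⟨a, ha, b, hb, hiff, hne⟩ := hnot
  obtain ⟨e, ⟨he1, x, hx, rfl⟩, -⟩ := hE.nonabelian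
  obtain ⟨g, hg⟩ := hcls a ha x hx.1
  set x' := g * b * g⁻¹ with hx'
  have hx'D : x' ∈ D := hc.conj g b hb
  have htw : ∀ y ∈ D, Commute (x : G) y ↔ Commute x' y := by
    intro y hy
    have h := hiff _ (hc.conj' g hy)
    rw [← commute_conj_iff g a, ← commute_conj_iff g b, hg] at h
    simpa [hx', mul_assoc] using h
  have hne' : (x : G) ≠ x' := fun e' => hne (mul_left_cancel (mul_right_cancel (hg.trans e')))
  have hnc : ¬ ∀ y ∈ Dd D d, Commute (x : G) y := fun h => he1 ((hB.map_eq_one_iff' x).2 h)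
  have hx'd : Commute d x' := ((htw d hB.mem).1 hx.2.2.symm).symm
  have hx'ne : x' ≠ d := by
    intro e'
    refine hnc fun y hy => ?_
    rw [htw y hy.1, e']
    exact hy.2.2
  have hx'Dd : x' ∈ Dd D d := ⟨hx'D, hx'ne, hx'd⟩
  set X' : Hd D d := ⟨x', Subgroup.subset_closure hx'Dd⟩ with hX'
  have hX'1 : π X' ≠ 1 := fun h => hnc fun y hy => (htw y hy.1).2 ((hB.map_eq_one_iff' X').1 h y hy)
  have heq : π x = π X' := by
    refine hE.twins _ ⟨he1, x, hx, rfl⟩ _ ⟨hX'1, X', hx'Dd, rfl⟩ ?_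
    rintro y ⟨-, w, hw, rfl⟩
    rw [hB.commute_img hx hw, hB.commute_img hx'Dd hw]
    exact htw _ hw.1
  have hxx : Commute (x : G) x' := (htw _ hx'D).2 (Commute.refl x')
  have hcen : π (x * X') = 1 := by
    rw [map_mul, ← heq, ← map_mul, show x * x = 1 from Subtype.ext (mul_self hs hx.1), map_one]
  refine hnc fun y hy => ?_
  exact (commute_of_commute_two hs hx.1 hx'D hy.1 hne' hxx
    ((hB.map_eq_one_iff' _).1 hcen y hy).symm).1.symm

/-- The members commuting with `d` are faithfully represented. -/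
theorem img_ne_one [Finite G] (hcls : ∀ a ∈ D, ∀ b ∈ D, ∃ g : G, g * a * g⁻¹ = b) (hNT : NoTwins D)
    {x : Hd D d} (hx : (x : G) ∈ Dd D d) : π x ≠ 1 := by
  intro h
  have hcomm := (hB.map_eq_one_iff' x).1 h
  have hc := conjClosed_of_group hB.group
  obtain ⟨g, hg⟩ := hcls d hB.mem x hx.1
  have hsub : {y | y ∈ D ∧ Commute d y} ⊆ {y | y ∈ D ∧ Commute (x : G) y} := by
    rintro y ⟨hy, hdy⟩
    refine ⟨hy, ?_⟩
    by_cases hyd : y = d
    · rw [hyd]; exact hx.2.2.symm
    · exact hcomm y ⟨hy, hyd, hdy⟩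
  have hcard : {y | y ∈ D ∧ Commute (x : G) y}.ncard = {y | y ∈ D ∧ Commute d y}.ncard := by
    rw [← hg, conj_set_eq hc g (fun a y => Commute a y) (fun a b => commute_conj_iff g a b) d,
      Set.ncard_image_of_injective _ fun a b e => mul_left_cancel (mul_right_cancel e)]
  have heq := Set.eq_of_subset_of_ncard_le hsub hcard.le (Set.toFinite _)
  refine hx.2.1 (hNT x hx.1 d hB.mem fun y hy => ?_)
  have := Set.ext_iff.1 heq y
  simp only [Set.mem_ofPred_eq, hy, true_and] at this
  exact this.symm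

theorem img_injective [Finite G] (hcls : ∀ a ∈ D, ∀ b ∈ D, ∃ g : G, g * a * g⁻¹ = b) (hNT : NoTwins D)
    {x y : Hd D d} (hx : (x : G) ∈ Dd D d) (hy : (y : G) ∈ Dd D d) (h : π x = π y) : x = y := by
  have hs := hB.group.1
  by_contra hne
  have hxy : Commute (x : G) y := (hB.commute_img hx hy).1 (h ▸ Commute.refl _)
  have h1 : π (x * y) = 1 := by
    rw [map_mul, ← h, ← map_mul, show x * x = 1 from Subtype.ext (mul_self hs hx.1), map_one]
  refine hB.img_ne_one hcls hNT hx ((hB.map_eq_one_iff' x).2 fun z hz => ?_)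
  exact (commute_of_commute_two hs hx.1 hy.1 hz.1 (fun e => hne (Subtype.ext e)) hxy
    ((hB.map_eq_one_iff' _).1 h1 z hz).symm).1.symm

theorem img_mem [Finite G] (hcls : ∀ a ∈ D, ∀ b ∈ D, ∃ g : G, g * a * g⁻¹ = b) (hNT : NoTwins D)
    {x : Hd D d} (hx : (x : G) ∈ Dd D d) : π x ∈ imgSet D d π :=
  ⟨hB.img_ne_one hcls hNT hx, x, hx, rfl⟩

/-- Relations come from shorter relations in the quotient. -/
theorem noRel_succ [Finite G] (hcls : ∀ a ∈ D, ∀ b ∈ D, ∃ g : G, g * a * g⁻¹ = b) (hNT : NoTwins D) {k : ℕ}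
    (hk : NoRel (imgSet D d π) k) : NoRel D (k + 1) := by
  intro l hnd hlen hmem hcomm hprod
  have hc := conjClosed_of_group hB.group
  obtain _ | ⟨a, t⟩ := l
  · simp at hlen
  obtain ⟨g, hg⟩ := hcls a (hmem a (by simp)) d hB.mem
  let φ : G →* G := (MulAut.conj g).toMonoidHom
  have hφ : ∀ y, φ y = g * y * g⁻¹ := fun y => rfl
  have hmem' : ∀ y ∈ t.map φ, y ∈ Dd D d := by
    intro y hy
    obtain ⟨z, hz, rfl⟩ := List.mem_map.1 hy
    refine ⟨hc.conj g z (hmem z (List.mem_cons_of_mem _ hz)), fun e => ?_, ?_⟩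
    · rw [hφ, ← hg] at e
      exact (List.nodup_cons.1 hnd).1 ((mul_left_cancel (mul_right_cancel e) : z = a) ▸ hz)
    · rw [hφ, ← hg]
      exact (commute_conj_iff g a z).2 (hcomm a (by simp) z (List.mem_cons_of_mem _ hz))
  let t' : List (Hd D d) := (t.map φ).pmap (fun y h => (⟨y, Subgroup.subset_closure h⟩ : Hd D d)) hmem'
  have ht' : t'.map (Hd D d).subtype = t.map φ := by
    simp only [t', List.map_pmap, Subgroup.coe_subtype]
    exact List.pmap_eq_map hmem' |>.trans (List.map_id _)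
  have ht'mem : ∀ y ∈ t', (y : G) ∈ Dd D d := fun y hy => by
    refine hmem' _ ?_
    rw [← ht']
    exact List.mem_map_of_mem hy
  have ht'nd : t'.Nodup := by
    refine List.Nodup.of_map (Hd D d).subtype ?_
    rw [ht']
    exact (List.nodup_cons.1 hnd).2.map fun x y e => mul_left_cancel (mul_right_cancel e)
  refine hk (t'.map π) ?_ ?_ ?_ ?_ ?_
  · exact ht'nd.map_on fun x hx y hy e => hB.img_injective hcls hNT (ht'mem x hx) (ht'mem y hy) e
  · simp [t'] at hlen ⊢; omega
  · intro y hy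
    obtain ⟨x, hx, rfl⟩ := List.mem_map.1 hy
    exact hB.img_mem hcls hNT (ht'mem x hx)
  · intro y hy z hz
    obtain ⟨x, hx, rfl⟩ := List.mem_map.1 hy
    obtain ⟨w, hw, rfl⟩ := List.mem_map.1 hz
    refine (hB.commute_img (ht'mem x hx) (ht'mem w hw)).2 ?_
    have hx' : (x : G) ∈ t.map φ := ht' ▸ List.mem_map_of_mem hx
    have hw' : (w : G) ∈ t.map φ := ht' ▸ List.mem_map_of_mem hw
    obtain ⟨x₀, hx₀, ex⟩ := List.mem_map.1 hx'
    obtain ⟨w₀, hw₀, ew⟩ := List.mem_map.1 hw'
    rw [← ex, ← ew]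
    exact (commute_conj_iff g x₀ w₀).2 (hcomm x₀ (List.mem_cons_of_mem _ hx₀) w₀ (List.mem_cons_of_mem _ hw₀))
  · rw [← map_list_prod, hB.map_eq_one_iff']
    intro y hy
    have e : ((t'.prod : Hd D d) : G) = d := by
      have h1 : g * (a :: t).prod * g⁻¹ = 1 := by rw [hprod, mul_one, mul_inv_cancel]
      have h2 : g * a * g⁻¹ * φ t.prod = 1 := by
        rw [← h1, List.prod_cons, hφ]; group
      rw [← Subgroup.coe_subtype, map_list_prod, ht', ← map_list_prod]
      rw [hg] at h2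
      rw [eq_comm, ← inv_eq hB.group.1 hB.mem]
      exact inv_eq_of_mul_eq_one_right h2
    rw [e]
    exact hy.2.2

end IsBase

end CfsgLib.ThreeTrans
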