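import Mathlib
import Cfsg.Agent.Lib.ClassicalGroups.UnitarySimple
import Cfsg.Agent.Lib.ThreeTrans.Basic

/-! Transvections of the six dimensional unitary group over the field with four elements: the configurations
of commuting transvections with product one, and the fact that no other involution gives 3-transpositions. -/

set_option autoImplicit false
set_option linter.unusedSectionVars false

namespace CfsgLib.ThreeTrans

open Matrix CfsgLib.ClassicalGroups

/-- Properties of a class of 3-transpositions that behaves like the transvections of `U₆(2)`. -/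
structure LineClass {Y : Type*} [Group Y] (E : Set Y) : Prop where
  set : Cfsg.IsThreeTranspositionSet E
  class_eq : ∀ a ∈ E, ∀ b ∈ E, ∃ g : Y, g * a * g⁻¹ = b
  nonabelian : ∃ a ∈ E, ∃ b ∈ E, ¬ Commute a b
  twins : ∀ a ∈ E, ∀ b ∈ E, (∀ y ∈ E, Commute a y ↔ Commute b y) → a = b
  no_three : ∀ a ∈ E, ∀ b ∈ E, ∀ c ∈ E, a ≠ b → a ≠ c → b ≠ c →
    Commute a b → Commute a c → Commute b c → a * b * c ≠ 1
  no_four : ∀ a ∈ E, ∀ b ∈ E, ∀ c ∈ E, ∀ d ∈ E, a ≠ b → a ≠ c → a ≠ d → b ≠ c → b ≠ d → c ≠ d →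
    Commute a b → Commute a c → Commute a d → Commute b c → Commute b d → Commute c d → a * b * c * d ≠ 1
  five : ∀ l : List Y, l.Nodup → l.length = 5 → (∀ x ∈ l, x ∈ E) → (∀ x ∈ l, ∀ y ∈ l, Commute x y) →
    l.prod = 1 → ∀ b ∈ l, ∀ c ∈ l, b ≠ c → ∀ e ∈ l, ∀ y ∈ E, Commute y b → Commute y c → Commute y e
  line : ∀ b ∈ E, ∀ c ∈ E, b ≠ c → Commute b c → ∃ e f g : Y,
    [b, c, e, f, g].Nodup ∧ (∀ x ∈ [b, c, e, f, g], x ∈ E) ∧
    (∀ x ∈ [b, c, e, f, g], ∀ y ∈ [b, c, e, f, g], Commute x y) ∧ [b, c, e, f, g].prod = 1 ∧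
    ∀ p ∈ E, Commute p b → Commute p c → (∀ y ∈ E, Commute y b → Commute y c → Commute p y) →
      p ∈ [b, c, e, f, g]

namespace USix

variable {F : Type*} [Field F] [Fintype F]

local notation "V" => Fin 6 → F
local notation "𝕙" => Cfsg.hermForm 6 F 2
local notation "SU₆" => Cfsg.SU 6 F 2

section Field

variable (hF : Fintype.card F = 2 ^ 2)
include hF

theorem charTwo : CharP F 2 := by
  obtain ⟨p, hp⟩ := CharP.exists F
  obtain ⟨n, hpp, hn⟩ := FiniteField.card F p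
  rw [hF] at hn
  have h2 : p = 2 := (Nat.prime_dvd_prime_iff_eq hpp Nat.prime_two).1
    (hpp.dvd_of_dvd_pow (n := 2) (hn ▸ dvd_pow_self p n.ne_zero))
  exact h2 ▸ hp

theorem two_eq_zero : (2 : F) = 0 := by
  haveI := charTwo hF
  exact CharTwo.two_eq_zero

theorem add_self' (x : F) : x + x = 0 := by
  rw [← two_mul, two_eq_zero hF, zero_mul]

theorem neg_eq' (x : F) : -x = x := neg_eq_of_add_eq_zero_left (add_self' hF x)

theorem vadd_self (x : V) : x + x = 0 := funext fun i => add_self' hF (x i)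

theorem vneg_eq (x : V) : -x = x := funext fun i => neg_eq' hF (x i)

theorem pow_four (x : F) : x ^ 4 = x := by
  have h := FiniteField.pow_card x
  rwa [hF] at h

theorem cube_eq_one {x : F} (hx : x ≠ 0) : x ^ 3 = 1 := by
  refine mul_right_cancel₀ hx ?_
  rw [← pow_succ, one_mul]; exact pow_four hF x

theorem sq_eq_self_cases {x : F} (h : x ^ 2 = x) : x = 0 ∨ x = 1 := by
  rcases eq_or_ne x 0 with h0 | h0
  · exact Or.inl h0
  · exact Or.inr (mul_right_cancel₀ h0 (by rw [← pow_two, h, one_mul]))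

theorem norm_cases (x : F) : x ^ 3 = 0 ∨ x ^ 3 = 1 := by
  rcases eq_or_ne x 0 with h0 | h0
  · exact Or.inl (by rw [h0]; norm_num)
  · exact Or.inr (cube_eq_one hF h0)

theorem exists_omega : ∃ w : F, w ≠ 0 ∧ w ≠ 1 ∧ 1 + w + w ^ 2 = 0 := by
  classical
  obtain ⟨w, hw⟩ : ∃ w : F, w ∉ ({0, 1} : Finset F) := by
    by_contra h
    push Not at h
    have := Finset.card_le_card (fun x _ => h x : (Finset.univ : Finset F) ⊆ {0, 1})
    rw [Finset.card_univ, hF] at this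
    simp at this
  simp only [Finset.mem_insert, Finset.mem_singleton, not_or] at hw
  refine ⟨w, hw.1, hw.2, ?_⟩
  have h : (w - 1) * (1 + w + w ^ 2) = 0 := by
    rw [show (w - 1) * (1 + w + w ^ 2) = w ^ 3 - 1 by ring, cube_eq_one hF hw.1, sub_self]
  exact (mul_eq_zero.1 h).resolve_left (sub_ne_zero.2 hw.2)

theorem herm_symm' (u v : V) : 𝕙 v u = 𝕙 u v ^ 2 := hermForm_symm hF 6 u v

theorem herm_zero_symm {u v : V} (h : 𝕙 u v = 0) : 𝕙 v u = 0 := by
  rw [herm_symm' hF u v, h, zero_pow two_ne_zero]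

theorem exists_dual (φ : V →ₗ[F] F) : ∃ x : V, ∀ v, φ v = 𝕙 v x := by
  refine ⟨fun i => φ (Pi.single i 1) ^ 2, fun v => ?_⟩
  conv_lhs => rw [pi_eq_sum_univ' v]
  rw [map_sum, Cfsg.hermForm]
  refine Finset.sum_congr rfl fun i _ => ?_
  rw [map_smul, smul_eq_mul, ← pow_mul]
  show v i * φ (Pi.single i 1) = v i * φ (Pi.single i 1) ^ 4
  rw [pow_four hF]

theorem exists_perp {m : ℕ} (f : Fin m → V) (hm : m < 6) :
    ∃ x : V, x ≠ 0 ∧ ∀ i, 𝕙 x (f i) = 0 := by
  let φ : V →ₗ[F] (Fin m → F) :=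
    { toFun := fun x i => 𝕙 x (f i)
      map_add' := fun x y => funext fun i => hermForm_add_left 6 x y (f i)
      map_smul' := fun c x => funext fun i => hermForm_smul_left 6 c x (f i) }
  have hker : LinearMap.ker φ ≠ ⊥ := by
    intro h
    have := LinearMap.finrank_le_finrank_of_injective (LinearMap.ker_eq_bot.1 h)
    simp at this
    omega
  obtain ⟨x, hx, hx0⟩ := Submodule.exists_mem_ne_zero_of_ne_bot hker
  exact ⟨x, hx0, fun i => congrFun hx i⟩

end Field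

/-- The matrix of the transvection at `v`. -/
abbrev tv (v : V) : Matrix (Fin 6) (Fin 6) F := Cfsg.unitaryTransvection 6 2 v 1

theorem tv_apply (v x : V) : tv v *ᵥ x = x + 𝕙 x v • v := by
  rw [tv, unitaryTransvection_mulVec, one_mul]

/-- `A` is the transvection at the isotropic vector `v`. -/
def IsTvAt (v : V) (A : SU₆) : Prop := v ≠ 0 ∧ 𝕙 v v = 0 ∧ A.1.1 = tv v

/-- The transvections. -/
def tvSet (F : Type*) [Field F] [Fintype F] : Set (Cfsg.SU 6 F 2) := {A | ∃ v, IsTvAt v A}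

theorem IsTvAt.apply {v : V} {A : SU₆} (h : IsTvAt v A) (x : V) : A.1.1 *ᵥ x = x + 𝕙 x v • v := by
  rw [h.2.2, tv_apply]

theorem herm_map (A : SU₆) (x y : V) : 𝕙 (A.1.1 *ᵥ x) (A.1.1 *ᵥ y) = 𝕙 x y := mem_SU_iff.1 A.2 x y

/-- A non-zero vector is in the span of another when they are proportional. -/
theorem eq_smul_of_mem_span {v w : V} (h : v ∈ Submodule.span F {w}) : ∃ a : F, v = a • w := by
  obtain ⟨a, ha⟩ := Submodule.mem_span_singleton.1 h
  exact ⟨a, ha.symm⟩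

section Tv

variable (hF : Fintype.card F = 2 ^ 2)
include hF

theorem exists_tvAt {v : V} (hv0 : v ≠ 0) (hv : 𝕙 v v = 0) : ∃ A : SU₆, IsTvAt v A := by
  obtain ⟨A, hA⟩ := exists_SU_tv (n := 6) hF hv (c := (1 : F)) (by rw [one_pow, neg_eq' hF])
  exact ⟨A, hv0, hv, hA⟩

theorem IsTvAt.sq {v : V} {A : SU₆} (h : IsTvAt v A) : A * A = 1 := SU_ext fun x => by
  rw [SU_mul_mulVec, SU_one_mulVec, h.apply x, h.apply, hermForm_add_left, hermForm_smul_left, h.2.1,
    mul_zero, add_zero, add_assoc, vadd_self hF, add_zero]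

theorem IsTvAt.ne_one {v : V} {A : SU₆} (h : IsTvAt v A) : A ≠ 1 := by
  intro e
  obtain ⟨w, hw'⟩ := exists_pairing_ne (q := 2) hF h.1
  have hw : 𝕙 w v ≠ 0 := by rw [herm_symm' hF, hw', one_pow]; exact one_ne_zero
  have := h.apply w
  rw [e, SU_one_mulVec, left_eq_add, smul_eq_zero] at this
  rcases this with h1 | h1
  · exact hw h1
  · exact h.1 h1

theorem IsTvAt.scale {v : V} {A : SU₆} (h : IsTvAt v A) {a : F} (ha : a ≠ 0) : IsTvAt (a • v) A := by
  refine ⟨smul_ne_zero ha h.1, by rw [hermForm_smul_left, hermForm_smul_right, h.2.1, mul_zero, mul_zero], ?_⟩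
  refine Matrix.ext_of_mulVec_single fun i => ?_
  rw [h.apply, tv_apply, hermForm_smul_right, smul_smul]
  congr 2
  rw [mul_assoc, mul_comm, mul_assoc, ← pow_succ', cube_eq_one hF ha, mul_one]

theorem IsTvAt.unique {v : V} {A B : SU₆} (h : IsTvAt v A) (h' : IsTvAt v B) : A = B :=
  Subtype.ext (Subtype.ext (h.2.2.trans h'.2.2.symm))

theorem IsTvAt.conj {v : V} {A : SU₆} (h : IsTvAt v A) (g : SU₆) :
    IsTvAt (g.1.1 *ᵥ v) (g * A * g⁻¹) := by
  refine ⟨fun e => h.1 ?_, by rw [herm_map, h.2.1], Matrix.ext_of_mulVec_single fun i => ?_⟩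
  · have := SU_inv_mulVec_mulVec g v
    rwa [e, Matrix.mulVec_zero, eq_comm] at this
  · set x : V := Pi.single i 1
    rw [SU_mul_mulVec, SU_mul_mulVec, tv_apply, h.apply, Matrix.mulVec_add, Matrix.mulVec_smul,
      SU_mulVec_inv_mulVec]
    conv_rhs => rw [← SU_mulVec_inv_mulVec g x, herm_map, SU_mulVec_inv_mulVec]

/-- A central element is a scalar of order dividing three. -/
theorem center_scalar {z : SU₆} (hz : z ∈ Subgroup.center SU₆) :
    ∃ a : F, a ^ 3 = 1 ∧ ∀ x, z.1.1 *ᵥ x = a • x := by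
  have h := center_SU_scalar hF ⟨z, hz⟩
  set a := z.1.1 0 0 with ha
  have happ : ∀ x, z.1.1 *ᵥ x = a • x := by
    intro x
    funext i
    rw [Matrix.mulVec, dotProduct, Finset.sum_eq_single i, Pi.smul_apply, smul_eq_mul]
    · exact congrArg (· * x i) (h i 0).2
    · intro j _ hj
      rw [show z.1.1 i j = 0 from (h i j).1 (Ne.symm hj), zero_mul]
    · simp
  refine ⟨a, ?_, happ⟩
  refine cube_eq_one hF fun h0 => ?_
  have := SU_inv_mulVec_mulVec z (Pi.single (0 : Fin 6) (1 : F))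
  rw [happ, h0, zero_smul, Matrix.mulVec_zero] at this
  have := congrFun this 0
  simp at this

theorem center_eq_one_of_fix {z : SU₆} (hz : z ∈ Subgroup.center SU₆) {x : V} (hx : x ≠ 0)
    (hfix : z.1.1 *ᵥ x = x) : z = 1 := by
  obtain ⟨a, -, happ⟩ := center_scalar hF hz
  have ha : a = 1 := by
    rw [happ] at hfix
    have h1 : (a - 1) • x = 0 := by rw [sub_smul, one_smul, hfix, sub_self]
    exact sub_eq_zero.1 ((smul_eq_zero.1 h1).resolve_right hx)
  exact SU_ext fun y => by rw [happ, ha, one_smul, SU_one_mulVec]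

theorem center_cube {z : SU₆} (hz : z ∈ Subgroup.center SU₆) : z * z * z = 1 := SU_ext fun x => by
  obtain ⟨a, ha, happ⟩ := center_scalar hF hz
  rw [SU_mul_mulVec, SU_mul_mulVec, happ, happ, happ, SU_one_mulVec, smul_smul, smul_smul,
    show a * a * a = a ^ 3 by ring, ha, one_smul]

/-- Two transvections equal modulo the centre are equal. -/
theorem eq_of_mk_eq {v w : V} {A B : SU₆} (hA : IsTvAt v A) (hB : IsTvAt w B)
    (h : (QuotientGroup.mk A : Cfsg.PSU 6 F 2) = QuotientGroup.mk B) : A = B := by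
  have hz := QuotientGroup.eq.1 h
  obtain ⟨x, hx, hxp⟩ := exists_perp hF ![v, w] (by norm_num)
  have h1 : (A⁻¹ * B).1.1 *ᵥ x = x := by
    have e1 : B.1.1 *ᵥ x = x := by rw [hB.apply, show 𝕙 x w = 0 from hxp 1, zero_smul, add_zero]
    have e2 : A.1.1 *ᵥ x = x := by rw [hA.apply, show 𝕙 x v = 0 from hxp 0, zero_smul, add_zero]
    rw [SU_mul_mulVec, e1]
    conv_lhs => rw [← e2]
    rw [SU_inv_mulVec_mulVec]
  exact (inv_mul_eq_one.1 (center_eq_one_of_fix hF hz hx h1))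

/-- The vector of a transvection is determined up to a scalar. -/
theorem IsTvAt.line {v w : V} {A : SU₆} (h : IsTvAt v A) (h' : IsTvAt w A) : ∃ a : F, a ≠ 0 ∧ w = a • v := by
  obtain ⟨x, hx'⟩ := exists_pairing_ne (q := 2) hF h'.1
  have hx : 𝕙 x w ≠ 0 := by rw [herm_symm' hF, hx', one_pow]; exact one_ne_zero
  have e : x + 𝕙 x v • v = x + 𝕙 x w • w := (h.apply x).symm.trans (h'.apply x)
  have e' := add_left_cancel e
  refine ⟨(𝕙 x w)⁻¹ * 𝕙 x v, ?_, ?_⟩
  · intro h0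
    have : w = 0 := by
      have h2 : ((𝕙 x w)⁻¹ * 𝕙 x v) • v = w := by
        rw [mul_smul, e', smul_smul, inv_mul_cancel₀ hx, one_smul]
      rw [← h2, h0, zero_smul]
    exact h'.1 this
  · rw [mul_smul, e', smul_smul, inv_mul_cancel₀ hx, one_smul]

theorem commute_of_perp {v w : V} {A B : SU₆} (hA : IsTvAt v A) (hB : IsTvAt w B) (h : 𝕙 v w = 0) :
    Commute A B := SU_ext fun x => by
  rw [SU_mul_mulVec, SU_mul_mulVec, hA.apply x, hB.apply x, hA.apply, hB.apply, hermForm_add_left,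
    hermForm_add_left, hermForm_smul_left, hermForm_smul_left, herm_zero_symm hF h, h, mul_zero,
    mul_zero, add_zero, add_zero]
  abel

theorem commute_mk_iff {v w : V} {A B : SU₆} (hA : IsTvAt v A) (hB : IsTvAt w B) :
    Commute (QuotientGroup.mk A : Cfsg.PSU 6 F 2) (QuotientGroup.mk B) ↔ 𝕙 v w = 0 := by
  refine ⟨fun h => ?_, fun h => (commute_of_perp hF hA hB h).map (QuotientGroup.mk' _)⟩
  have h1 : (QuotientGroup.mk (A * B * A⁻¹) : Cfsg.PSU 6 F 2) = QuotientGroup.mk B := by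
    rw [QuotientGroup.mk_mul, QuotientGroup.mk_mul, QuotientGroup.mk_inv, h.eq, mul_inv_cancel_right]
  have hB' := hB.conj hF A
  rw [hA.apply w] at hB'
  rw [eq_of_mk_eq hF hB' hB h1] at hB'
  obtain ⟨a, ha0, ha⟩ := hB.line hF hB'
  by_contra hvw
  have hwv : 𝕙 w v ≠ 0 := fun e => hvw (herm_zero_symm hF e)
  have hv : v = (𝕙 w v)⁻¹ • (a - 1) • w := by
    rw [sub_smul, one_smul, ← ha, add_sub_cancel_left, smul_smul, inv_mul_cancel₀ hwv, one_smul]
  exact hvw (by rw [hv, hermForm_smul_left, hermForm_smul_left, hB.2.1, mul_zero, mul_zero])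

/-- An element normalizing a transvection preserves its line. -/
theorem map_line_of_mk_commute {v : V} {A : SU₆} (hA : IsTvAt v A) {g : SU₆}
    (h : Commute (QuotientGroup.mk g : Cfsg.PSU 6 F 2) (QuotientGroup.mk A)) :
    ∃ a : F, g.1.1 *ᵥ v = a • v := by
  have h1 : (QuotientGroup.mk (g * A * g⁻¹) : Cfsg.PSU 6 F 2) = QuotientGroup.mk A := by
    rw [QuotientGroup.mk_mul, QuotientGroup.mk_mul, QuotientGroup.mk_inv, h.eq, mul_inv_cancel_right]
  have hA' := hA.conj hF g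
  rw [eq_of_mk_eq hF hA' hA h1] at hA'
  obtain ⟨a, -, ha⟩ := hA.line hF hA'
  exact ⟨a, ha⟩

end Tv

/-! ### Standard vectors -/

/-- The standard orthogonal isotropic triple. -/
def stdP : Fin 3 → V := ![![1, 1, 0, 0, 0, 0], ![0, 0, 1, 1, 0, 0], ![0, 0, 0, 0, 1, 1]]

/-- A vector pairing to one with the first two standard vectors only. -/
def stdU : V := ![1, 0, 1, 0, 0, 0]

theorem herm_six (u v : V) : 𝕙 u v =
    u 0 * v 0 ^ 2 + u 1 * v 1 ^ 2 + u 2 * v 2 ^ 2 + u 3 * v 3 ^ 2 + u 4 * v 4 ^ 2 + u 5 * v 5 ^ 2 := by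
  simp [Cfsg.hermForm, Fin.sum_univ_six]

theorem li_stdP : LinearIndependent F (stdP (F := F)) := by
  rw [Fintype.linearIndependent_iff]
  intro g hg
  rw [Fin.sum_univ_three] at hg
  intro i
  fin_cases i
  · have := congrFun hg 0; simpa [stdP] using this
  · have := congrFun hg 2; simpa [stdP] using this
  · have := congrFun hg 4; simpa [stdP] using this

theorem li_stdP_two : LinearIndependent F ![stdP (F := F) 0, stdP 1] := by
  rw [LinearIndependent.pair_iff]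
  intro s t h
  have h0 := congrFun h 0
  have h2 := congrFun h 2
  simp [stdP] at h0 h2
  exact ⟨h0, h2⟩

section Configurations

variable (hF : Fintype.card F = 2 ^ 2)
include hF

theorem stdP_gram (i j : Fin 3) : 𝕙 (stdP (F := F) i) (stdP j) = 0 := by
  fin_cases i <;> fin_cases j <;> simp [stdP, herm_six, add_self' hF]

/-- An orthogonal isotropic independent triple has a vector pairing with the first two only, and one
pairing with the second only. -/
theorem exists_path_three {p : Fin 3 → V} (hp : LinearIndependent F p) (h : ∀ i j, 𝕙 (p i) (p j) = 0) :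
    ∃ u₁ u₂ : V, LinearIndependent F ![u₁, u₂, p 2] ∧ 𝕙 u₁ u₁ = 0 ∧ 𝕙 u₂ u₂ = 0 ∧ 𝕙 u₁ u₂ = 0 ∧
      𝕙 u₁ (p 2) = 0 ∧ 𝕙 u₂ (p 2) = 0 ∧
      𝕙 (p 0) u₁ = 1 ∧ 𝕙 (p 1) u₁ = 1 ∧ 𝕙 (p 0) u₂ = 0 ∧ 𝕙 (p 1) u₂ = 1 := by
  obtain ⟨w, hw0, hw1, hw⟩ := exists_omega hF
  have hw3 := cube_eq_one hF hw0
  have h2 := two_eq_zero hF
  obtain ⟨g, hg⟩ := exists_GU_family hF stdP p li_stdP hp fun i j => by rw [h, stdP_gram hF]
  set v₂ : V := ![w, w, w, w ^ 2, 0, 0] with hv₂
  have hG : ∀ x y, 𝕙 (g.1.val *ᵥ x) (g.1.val *ᵥ y) = 𝕙 x y := mem_GU_iff.1 g.2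
  have hli : LinearIndependent F ![stdU, v₂, stdP (F := F) 2] := by
    rw [Fintype.linearIndependent_iff]
    intro c hc
    rw [Fin.sum_univ_three] at hc
    have e4 := congrFun hc 4
    have e1 := congrFun hc 1
    have e0 := congrFun hc 0
    simp [stdU, hv₂, stdP, hw0] at e4 e1 e0
    rw [e1, zero_mul, add_zero] at e0
    intro i
    fin_cases i
    exacts [e0, e1, e4]
  have hinj : Function.Injective (Matrix.mulVecLin g.1.val) := by
    intro x y hxy
    have h' : g⁻¹.1.val *ᵥ (g.1.val *ᵥ x) = g⁻¹.1.val *ᵥ (g.1.val *ᵥ y) := congrArg _ hxy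
    rwa [← GU_mul_mulVec, ← GU_mul_mulVec, inv_mul_cancel, GU_one_mulVec, GU_one_mulVec] at h'
  refine ⟨g.1.val *ᵥ stdU, g.1.val *ᵥ v₂, ?_, ?_, ?_, ?_, ?_, ?_, ?_, ?_, ?_, ?_⟩
  · have := hli.map' (Matrix.mulVecLin g.1.val) (LinearMap.ker_eq_bot.2 hinj)
    have e : (Matrix.mulVecLin g.1.val) ∘ ![stdU, v₂, stdP 2] =
        ![g.1.val *ᵥ stdU, g.1.val *ᵥ v₂, p 2] := by
      funext i
      fin_cases i <;> simp [← hg]
    rwa [e] at this
  all_goals (try rw [← hg 0]); (try rw [← hg 1]); (try rw [← hg 2]); rw [hG, herm_six]; simp [stdP, stdU, hv₂]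
  all_goals grind

/-- An orthogonal isotropic independent triple has an isotropic vector pairing with the third only. -/
theorem exists_sep_three {a b c : V} (hli : LinearIndependent F ![a, b, c]) (ha : 𝕙 a a = 0) (hb : 𝕙 b b = 0)
    (hc : 𝕙 c c = 0) (hab : 𝕙 a b = 0) (hac : 𝕙 a c = 0) (hbc : 𝕙 b c = 0) :
    ∃ x : V, x ≠ 0 ∧ 𝕙 x x = 0 ∧ 𝕙 x a = 0 ∧ 𝕙 x b = 0 ∧ 𝕙 x c ≠ 0 := by
  obtain ⟨w, hw0, hw1, hw⟩ := exists_omega hF
  have hw3 := cube_eq_one hF hw0
  have h2 := two_eq_zero hF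
  have hg0 : ∀ i j : Fin 3, 𝕙 (![a, b, c] i) (![a, b, c] j) = 0 := by
    intro i j
    fin_cases i <;> fin_cases j <;>
      simp [ha, hb, hc, hab, hac, hbc, herm_zero_symm hF hab, herm_zero_symm hF hac, herm_zero_symm hF hbc]
  obtain ⟨g, hg⟩ := exists_GU_family hF stdP ![a, b, c] li_stdP hli fun i j => by rw [hg0, stdP_gram hF]
  have hG : ∀ x y, 𝕙 (g.1.val *ᵥ x) (g.1.val *ᵥ y) = 𝕙 x y := mem_GU_iff.1 g.2
  set v : V := ![0, 0, 0, 0, 1, w] with hv
  have hxc : 𝕙 (g.1.val *ᵥ v) c ≠ 0 := by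
    rw [show c = g.1.val *ᵥ stdP 2 from (hg 2).symm, hG, herm_six]
    simp [stdP, hv]
    exact fun e => hw1 (by linear_combination e - h2)
  refine ⟨g.1.val *ᵥ v, fun e => hxc (by rw [e, hermForm_zero_left]), ?_, ?_, ?_, hxc⟩
  · rw [hG, herm_six]; simp [hv]; grind
  · rw [show a = g.1.val *ᵥ stdP 0 from (hg 0).symm, hG, herm_six]; simp [stdP, hv]
  · rw [show b = g.1.val *ᵥ stdP 1 from (hg 1).symm, hG, herm_six]; simp [stdP, hv]

/-- An independent orthogonal pair is part of an independent orthogonal triple. -/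
theorem exists_third {a b : V} (hli : LinearIndependent F ![a, b]) (ha : 𝕙 a a = 0) (hb : 𝕙 b b = 0)
    (hab : 𝕙 a b = 0) : ∃ c : V, LinearIndependent F ![a, b, c] ∧ 𝕙 c c = 0 ∧ 𝕙 a c = 0 ∧ 𝕙 b c = 0 := by
  have hg0 : ∀ i j : Fin 2, 𝕙 (![a, b] i) (![a, b] j) = 0 := by
    intro i j
    fin_cases i <;> fin_cases j <;> simp [ha, hb, hab, herm_zero_symm hF hab]
  obtain ⟨g, hg⟩ := exists_GU_family hF ![stdP 0, stdP 1] ![a, b] li_stdP_two hli fun i j => by
    rw [hg0]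
    fin_cases i <;> fin_cases j <;> simp [stdP_gram hF]
  have hG : ∀ x y, 𝕙 (g.1.val *ᵥ x) (g.1.val *ᵥ y) = 𝕙 x y := mem_GU_iff.1 g.2
  have hinj : Function.Injective (Matrix.mulVecLin g.1.val) := by
    intro x y hxy
    have h' : g⁻¹.1.val *ᵥ (g.1.val *ᵥ x) = g⁻¹.1.val *ᵥ (g.1.val *ᵥ y) := congrArg _ hxy
    rwa [← GU_mul_mulVec, ← GU_mul_mulVec, inv_mul_cancel, GU_one_mulVec, GU_one_mulVec] at h'
  have e0 : a = g.1.val *ᵥ stdP 0 := (hg 0).symm
  have e1 : b = g.1.val *ᵥ stdP 1 := (hg 1).symm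
  refine ⟨g.1.val *ᵥ stdP 2, ?_, ?_, ?_, ?_⟩
  · have := (li_stdP (F := F)).map' (Matrix.mulVecLin g.1.val) (LinearMap.ker_eq_bot.2 hinj)
    have e : (Matrix.mulVecLin g.1.val) ∘ (stdP (F := F)) = ![a, b, g.1.val *ᵥ stdP 2] := by
      funext i
      fin_cases i <;> simp [e0, e1]
    rwa [e] at this
  · rw [hG, stdP_gram hF]
  · rw [e0, hG, stdP_gram hF]
  · rw [e1, hG, stdP_gram hF]

end Configurations

end USix

end CfsgLib.ThreeTrans
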