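import Mathlib
import Cfsg.Agent.Lib.ThreeTrans.UnitarySix

/-! A conjugation invariant set of 3-transpositions of `PSU(6,2)` is the set of transvections, and these
form a `LineClass`. -/

set_option autoImplicit false
set_option linter.unusedSectionVars false

namespace CfsgLib.ThreeTrans.USix

open Matrix CfsgLib.ClassicalGroups

variable {F : Type*} [Field F] [Fintype F]

local notation "V" => Fin 6 → F
local notation "𝕙" => Cfsg.hermForm 6 F 2
local notation "SU₆" => Cfsg.SU 6 F 2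
local notation "PSU₆" => Cfsg.PSU 6 F 2

/-! ### Linear algebra -/

theorem exists_coord {m : ℕ} {f : Fin m → V} (hf : LinearIndependent F f) (c : Fin m → F) :
    ∃ φ : V →ₗ[F] F, ∀ i, φ (f i) = c i := by
  obtain ⟨φ, hφ⟩ := LinearMap.exists_extend ((Module.Basis.span hf).constr F c)
  refine ⟨φ, fun i => ?_⟩
  have h := LinearMap.congr_fun hφ (Module.Basis.span hf i)
  rw [LinearMap.comp_apply, Module.Basis.constr_basis, Submodule.coe_subtype, Module.Basis.span_apply] at h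
  exact h

theorem li_pair_of_ne {a b : V} (ha : a ≠ 0) (h : ∀ c : F, b ≠ c • a) : LinearIndependent F ![a, b] := by
  rw [LinearIndependent.pair_iff]
  intro s t hst
  by_cases ht : t = 0
  · rw [ht, zero_smul, add_zero, smul_eq_zero] at hst
    exact ⟨hst.resolve_right ha, ht⟩
  · refine absurd ?_ (h (-(s / t)))
    have : t • b = -(s • a) := eq_neg_of_add_eq_zero_right hst
    rw [neg_smul, div_eq_inv_mul, mul_smul, ← smul_neg, ← this, inv_smul_smul₀ ht]

theorem li_triple {a b c : V} (h : LinearIndependent F ![a, b])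
    (hc : ∀ s t : F, c ≠ s • a + t • b) : LinearIndependent F ![a, b, c] := by
  rw [Fintype.linearIndependent_iff]
  intro g hg
  rw [Fin.sum_univ_three] at hg
  simp only [Matrix.cons_val_zero, Matrix.cons_val_one, Matrix.cons_val_two, Matrix.tail_cons, Matrix.head_cons] at hg
  have h2 : g 2 = 0 := by
    by_contra h2
    refine hc (-(g 0 / g 2)) (-(g 1 / g 2)) ?_
    have : g 2 • c = -(g 0 • a + g 1 • b) := eq_neg_of_add_eq_zero_right hg
    rw [neg_smul, neg_smul, div_eq_inv_mul, div_eq_inv_mul, mul_smul, mul_smul, ← neg_add, ← smul_add,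
      ← smul_neg, ← this, inv_smul_smul₀ h2]
  rw [h2, zero_smul, add_zero] at hg
  obtain ⟨h0, h1⟩ := LinearIndependent.pair_iff.1 h _ _ hg
  intro i
  fin_cases i
  exacts [h0, h1, h2]

theorem li_four {a b c d : V} (h : LinearIndependent F ![a, b, c])
    (hd : ∀ r s t : F, d ≠ r • a + s • b + t • c) : LinearIndependent F ![a, b, c, d] := by
  rw [Fintype.linearIndependent_iff]
  intro g hg
  rw [Fin.sum_univ_four] at hg
  simp at hg
  have h3 : g 3 = 0 := by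
    by_contra h3
    refine hd (-(g 0 / g 3)) (-(g 1 / g 3)) (-(g 2 / g 3)) ?_
    have : g 3 • d = -(g 0 • a + g 1 • b + g 2 • c) := eq_neg_of_add_eq_zero_right hg
    rw [neg_smul, neg_smul, neg_smul, div_eq_inv_mul, div_eq_inv_mul, div_eq_inv_mul, mul_smul, mul_smul,
      mul_smul, ← neg_add, ← neg_add, ← smul_add, ← smul_add, ← smul_neg, ← this, inv_smul_smul₀ h3]
  rw [h3, zero_smul, add_zero] at hg
  have := Fintype.linearIndependent_iff.1 h ![g 0, g 1, g 2] (by simpa [Fin.sum_univ_three] using hg)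
  intro i
  fin_cases i
  exacts [this 0, this 1, this 2, h3]

theorem li_five {a b c d e : V} (h : LinearIndependent F ![a, b, c, d])
    (he : ∀ q r s t : F, e ≠ q • a + r • b + s • c + t • d) : LinearIndependent F ![a, b, c, d, e] := by
  rw [Fintype.linearIndependent_iff]
  intro g hg
  rw [Fin.sum_univ_five] at hg
  simp at hg
  have h4 : g 4 = 0 := by
    by_contra h4
    refine he (-(g 0 / g 4)) (-(g 1 / g 4)) (-(g 2 / g 4)) (-(g 3 / g 4)) ?_
    have : g 4 • e = -(g 0 • a + g 1 • b + g 2 • c + g 3 • d) := eq_neg_of_add_eq_zero_right hg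
    rw [neg_smul, neg_smul, neg_smul, neg_smul, div_eq_inv_mul, div_eq_inv_mul, div_eq_inv_mul, div_eq_inv_mul,
      mul_smul, mul_smul, mul_smul, mul_smul, ← neg_add, ← neg_add, ← neg_add, ← smul_add, ← smul_add, ← smul_add,
      ← smul_neg, ← this, inv_smul_smul₀ h4]
  rw [h4, zero_smul, add_zero] at hg
  have := Fintype.linearIndependent_iff.1 h ![g 0, g 1, g 2, g 3] (by simpa [Fin.sum_univ_four] using hg)
  intro i
  fin_cases i
  exacts [this 0, this 1, this 2, this 3, h4]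

variable (hF : Fintype.card F = 2 ^ 2)
include hF

/-- A combination with one coefficient zero is proportional. -/
theorem dep_three {a b c : V} (ha : a ≠ 0) (hab : ∀ s : F, b ≠ s • a)
    (hca : ∀ s : F, c ≠ s • a) (hcb : ∀ s : F, c ≠ s • b)
    (hdep : ∀ φ : V →ₗ[F] F, φ a ^ 2 • a + φ b ^ 2 • b + φ c ^ 2 • c = 0) : False := by
  have h2 := li_pair_of_ne ha hab
  by_cases hc : ∃ s t : F, c = s • a + t • b
  · obtain ⟨s, t, rfl⟩ := hc
    have hs : s ≠ 0 := fun h => hcb t (by rw [h, zero_smul, zero_add])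
    have ht : t ≠ 0 := fun h => hca s (by rw [h, zero_smul, add_zero])
    obtain ⟨φ, hφ⟩ := exists_coord h2 ![1, 0]
    have ea : φ a = 1 := hφ 0
    have eb : φ b = 0 := hφ 1
    have h := hdep φ
    rw [map_add, map_smul, map_smul, ea, eb] at h
    have h' : (1 + s ^ 3) • a + (s ^ 2 * t) • b = 0 := by
      refine Eq.trans ?_ h
      simp only [smul_eq_mul, mul_one, mul_zero, add_zero]
      module
    exact mul_ne_zero (pow_ne_zero _ hs) ht (LinearIndependent.pair_iff.1 h2 _ _ h').2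
  · push Not at hc
    obtain ⟨φ, hφ⟩ := exists_coord (li_triple h2 hc) ![1, 0, 0]
    have h := hdep φ
    rw [show φ a = 1 from hφ 0, show φ b = 0 from hφ 1, show φ c = 0 from hφ 2] at h
    simp at h
    exact ha h

theorem dep_four_aux {a b c d : V} (ha : a ≠ 0) (hab : ∀ s : F, b ≠ s • a) (hdc : ∀ s : F, d ≠ s • c)
    (hdep : ∀ φ : V →ₗ[F] F, φ a ^ 2 • a + φ b ^ 2 • b + φ c ^ 2 • c + φ d ^ 2 • d = 0) :
    ∃ s t : F, c = s • a + t • b := by
  by_contra hc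
  push Not at hc
  have h3 := li_triple (li_pair_of_ne ha hab) hc
  by_cases hd : ∃ r s t : F, d = r • a + s • b + t • c
  · obtain ⟨r, s, t, rfl⟩ := hd
    obtain ⟨φ, hφ⟩ := exists_coord h3 ![0, 0, 1]
    have h := hdep φ
    rw [map_add, map_add, map_smul, map_smul, map_smul, show φ a = 0 from hφ 0, show φ b = 0 from hφ 1,
      show φ c = 1 from hφ 2] at h
    have h' := Fintype.linearIndependent_iff.1 h3 ![t ^ 2 * r, t ^ 2 * s, 1 + t ^ 3] (by
      rw [Fin.sum_univ_three]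
      refine Eq.trans ?_ h
      simp only [smul_eq_mul, mul_one, mul_zero, zero_add, Matrix.cons_val_zero, Matrix.cons_val_one,
        Matrix.cons_val_two, Matrix.tail_cons, Matrix.head_cons]
      module)
    have e0 : t ^ 2 * r = 0 := h' 0
    have e1 : t ^ 2 * s = 0 := h' 1
    have e2 : 1 + t ^ 3 = 0 := h' 2
    have ht : t ≠ 0 := fun h => by simp [h] at e2
    refine hdc t ?_
    rw [(mul_eq_zero.1 e0).resolve_left (pow_ne_zero _ ht), (mul_eq_zero.1 e1).resolve_left (pow_ne_zero _ ht),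
      zero_smul, zero_smul, zero_add, zero_add]
  · push Not at hd
    obtain ⟨φ, hφ⟩ := exists_coord (li_four h3 hd) ![1, 0, 0, 0]
    have h := hdep φ
    rw [show φ a = 1 from hφ 0, show φ b = 0 from hφ 1, show φ c = 0 from hφ 2, show φ d = 0 from hφ 3] at h
    simp at h
    exact ha h

theorem dep_four {a b c d : V} (ha : a ≠ 0) (hab : ∀ s : F, b ≠ s • a)
    (hca : ∀ s : F, c ≠ s • a) (hcb : ∀ s : F, c ≠ s • b) (hda : ∀ s : F, d ≠ s • a) (hdb : ∀ s : F, d ≠ s • b)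
    (hdc : ∀ s : F, d ≠ s • c) (hcd : ∀ s : F, c ≠ s • d)
    (hdep : ∀ φ : V →ₗ[F] F, φ a ^ 2 • a + φ b ^ 2 • b + φ c ^ 2 • c + φ d ^ 2 • d = 0) : False := by
  obtain ⟨s, t, rfl⟩ := dep_four_aux hF ha hab hdc hdep
  obtain ⟨s', t', rfl⟩ := dep_four_aux hF ha hab hcd (c := d) (d := s • a + t • b) fun φ => by
    rw [← hdep φ]; abel
  have hs : s ≠ 0 := fun h => hcb t (by rw [h, zero_smul, zero_add])
  have hs' : s' ≠ 0 := fun h => hdb t' (by rw [h, zero_smul, zero_add])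
  have h2 := li_pair_of_ne ha hab
  obtain ⟨φ, hφ⟩ := exists_coord h2 ![1, 0]
  have h := hdep φ
  rw [map_add, map_add, map_smul, map_smul, map_smul, map_smul, show φ a = 1 from hφ 0,
    show φ b = 0 from hφ 1] at h
  have h' : (1 + s ^ 3 + s' ^ 3) • a + (s ^ 2 * t + s' ^ 2 * t') • b = 0 := by
    refine Eq.trans ?_ h
    simp only [smul_eq_mul, mul_one, mul_zero, add_zero]
    module
  have e := (LinearIndependent.pair_iff.1 h2 _ _ h').1
  rw [cube_eq_one hF hs, cube_eq_one hF hs', add_assoc, add_self' hF, add_zero] at e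
  exact one_ne_zero e

theorem dep_five_aux {a b c d e : V} (ha : a ≠ 0) (hab : ∀ s : F, b ≠ s • a)
    (hde : ∀ s : F, d ≠ s • e) (hed : ∀ s : F, e ≠ s • d)
    (hdep : ∀ φ : V →ₗ[F] F, φ a ^ 2 • a + φ b ^ 2 • b + φ c ^ 2 • c + φ d ^ 2 • d + φ e ^ 2 • e = 0) :
    ∃ s t : F, c = s • a + t • b := by
  by_contra hc
  push Not at hc
  have h3 := li_triple (li_pair_of_ne ha hab) hc
  have key : ∀ d e : V, (∀ s : F, e ≠ s • d) →
      (∀ φ : V →ₗ[F] F, φ a ^ 2 • a + φ b ^ 2 • b + φ c ^ 2 • c + φ d ^ 2 • d + φ e ^ 2 • e = 0) →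
      ∃ r s t : F, d = r • a + s • b + t • c := by
    intro d e hed hdep
    by_contra hd
    push Not at hd
    have h4 := li_four h3 hd
    by_cases he : ∃ q r s t : F, e = q • a + r • b + s • c + t • d
    · obtain ⟨q, r, s, t, rfl⟩ := he
      obtain ⟨φ, hφ⟩ := exists_coord h4 ![0, 0, 0, 1]
      have h := hdep φ
      rw [map_add, map_add, map_add, map_smul, map_smul, map_smul, map_smul, show φ a = 0 from hφ 0,
        show φ b = 0 from hφ 1, show φ c = 0 from hφ 2, show φ d = 1 from hφ 3] at h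
      have h' := Fintype.linearIndependent_iff.1 h4 ![t ^ 2 * q, t ^ 2 * r, t ^ 2 * s, 1 + t ^ 3] (by
        rw [Fin.sum_univ_four]
        refine Eq.trans ?_ h
        simp
        module)
      have e0 : t ^ 2 * q = 0 := h' 0
      have e1 : t ^ 2 * r = 0 := h' 1
      have e2 : t ^ 2 * s = 0 := h' 2
      have e3 : 1 + t ^ 3 = 0 := h' 3
      have ht : t ≠ 0 := fun h => by simp [h] at e3
      refine hed t ?_
      rw [(mul_eq_zero.1 e0).resolve_left (pow_ne_zero _ ht), (mul_eq_zero.1 e1).resolve_left (pow_ne_zero _ ht),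
        (mul_eq_zero.1 e2).resolve_left (pow_ne_zero _ ht)]
      simp
    · push Not at he
      obtain ⟨φ, hφ⟩ := exists_coord (li_five h4 he) ![1, 0, 0, 0, 0]
      have h := hdep φ
      rw [show φ a = 1 from hφ 0, show φ b = 0 from hφ 1, show φ c = 0 from hφ 2, show φ d = 0 from hφ 3,
        show φ e = 0 from hφ 4] at h
      simp at h
      exact ha h
  obtain ⟨u₀, u₁, u₂, hd⟩ := key d e hed hdep
  obtain ⟨v₀, v₁, v₂, he⟩ := key e d hde fun φ => by rw [← hdep φ]; abel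
  have eq : ∀ w : Fin 3 → F,
      (w 0 ^ 2 + (w 0 * u₀ + w 1 * u₁ + w 2 * u₂) ^ 2 * u₀ + (w 0 * v₀ + w 1 * v₁ + w 2 * v₂) ^ 2 * v₀ = 0) ∧
      (w 1 ^ 2 + (w 0 * u₀ + w 1 * u₁ + w 2 * u₂) ^ 2 * u₁ + (w 0 * v₀ + w 1 * v₁ + w 2 * v₂) ^ 2 * v₁ = 0) ∧
      (w 2 ^ 2 + (w 0 * u₀ + w 1 * u₁ + w 2 * u₂) ^ 2 * u₂ + (w 0 * v₀ + w 1 * v₁ + w 2 * v₂) ^ 2 * v₂ = 0) := by
    intro w
    obtain ⟨φ, hφ⟩ := exists_coord h3 w
    have h := hdep φ
    rw [hd, he] at h
    simp only [map_add, map_smul, smul_eq_mul] at h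
    rw [show φ a = w 0 from hφ 0, show φ b = w 1 from hφ 1, show φ c = w 2 from hφ 2] at h
    have h' := Fintype.linearIndependent_iff.1 h3
      ![w 0 ^ 2 + (w 0 * u₀ + w 1 * u₁ + w 2 * u₂) ^ 2 * u₀ + (w 0 * v₀ + w 1 * v₁ + w 2 * v₂) ^ 2 * v₀,
        w 1 ^ 2 + (w 0 * u₀ + w 1 * u₁ + w 2 * u₂) ^ 2 * u₁ + (w 0 * v₀ + w 1 * v₁ + w 2 * v₂) ^ 2 * v₁,
        w 2 ^ 2 + (w 0 * u₀ + w 1 * u₁ + w 2 * u₂) ^ 2 * u₂ + (w 0 * v₀ + w 1 * v₁ + w 2 * v₂) ^ 2 * v₂] (by
      rw [Fin.sum_univ_three]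
      refine Eq.trans ?_ h
      simp
      module)
    exact ⟨h' 0, h' 1, h' 2⟩
  obtain ⟨d0, o01, o02⟩ := eq ![1, 0, 0]
  obtain ⟨o10, d1, o12⟩ := eq ![0, 1, 0]
  obtain ⟨o20, o21, d2⟩ := eq ![0, 0, 1]
  simp at d0 o01 o02 o10 d1 o12 o20 o21 d2
  have hdiag : ∀ u v : F, 1 + u ^ 2 * u + v ^ 2 * v = 0 → (u ≠ 0 ∧ v = 0) ∨ (u = 0 ∧ v ≠ 0) := by
    intro u v h
    by_cases hu : u = 0 <;> by_cases hv : v = 0
    · subst hu hv; simp at h
    · exact Or.inr ⟨hu, hv⟩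
    · exact Or.inl ⟨hu, hv⟩
    · rw [← pow_succ, ← pow_succ, cube_eq_one hF hu, cube_eq_one hF hv, add_assoc, add_self' hF, add_zero] at h
      exact absurd h one_ne_zero
  rcases hdiag _ _ d0 with ⟨a0, b0⟩ | ⟨a0, b0⟩ <;> rcases hdiag _ _ d1 with ⟨a1, b1⟩ | ⟨a1, b1⟩ <;>
    rcases hdiag _ _ d2 with ⟨a2, b2⟩ | ⟨a2, b2⟩ <;> simp_all

theorem dep_five {a b c d e : V} (ha : a ≠ 0) (hab : ∀ s : F, b ≠ s • a)
    (hcd : ∀ s : F, c ≠ s • d) (hdc : ∀ s : F, d ≠ s • c) (hce : ∀ s : F, c ≠ s • e) (hec : ∀ s : F, e ≠ s • c)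
    (hde : ∀ s : F, d ≠ s • e) (hed : ∀ s : F, e ≠ s • d)
    (hdep : ∀ φ : V →ₗ[F] F, φ a ^ 2 • a + φ b ^ 2 • b + φ c ^ 2 • c + φ d ^ 2 • d + φ e ^ 2 • e = 0) :
    ∀ x ∈ [a, b, c, d, e], ∃ s t : F, x = s • a + t • b := by
  intro x hx
  simp only [List.mem_cons, List.not_mem_nil, or_false] at hx
  rcases hx with rfl | rfl | rfl | rfl | rfl
  · exact ⟨1, 0, by simp⟩
  · exact ⟨0, 1, by simp⟩
  · exact dep_five_aux hF ha hab hde hed hdep
  · exact dep_five_aux hF ha hab hce hec (d := c) (e := e) fun φ => by rw [← hdep φ]; abel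
  · exact dep_five_aux hF ha hab hcd hdc (d := c) (e := d) fun φ => by rw [← hdep φ]; abel

omit hF in
/-- In a plane, two independent vectors span. -/
theorem mem_plane {a b x y : V} (hxy : ∀ s : F, y ≠ s • x) (hx0 : x ≠ 0) {s t s' t' : F}
    (hx : x = s • a + t • b) (hy : y = s' • a + t' • b) {z : V} {r w : F} (hz : z = r • a + w • b) :
    ∃ k l : F, z = k • x + l • y := by
  have hD : s * t' - t * s' ≠ 0 := by
    intro hD
    have h1 : t' • x - t • y = 0 := by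
      rw [hx, hy]
      have h : s * t' - t * s' = 0 := hD
      linear_combination (norm := module) h • a
    have h2 : s • y - s' • x = 0 := by
      rw [hx, hy]
      have h : s * t' - t * s' = 0 := hD
      linear_combination (norm := module) h • b
    by_cases ht : t = 0
    · by_cases hs : s = 0
      · exact hx0 (by rw [hx, hs, ht, zero_smul, zero_smul, add_zero])
      · exact hxy (s⁻¹ * s') (by rw [mul_smul, ← sub_eq_zero.1 h2, inv_smul_smul₀ hs])
    · exact hxy (t⁻¹ * t') (by rw [mul_smul, sub_eq_zero.1 h1, inv_smul_smul₀ ht])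
  refine ⟨(r * t' - w * s') / (s * t' - t * s'), (s * w - t * r) / (s * t' - t * s'), ?_⟩
  generalize hk : (r * t' - w * s') / (s * t' - t * s') = k
  generalize hl : (s * w - t * r) / (s * t' - t * s') = l
  have e1 : k * (s * t' - t * s') = r * t' - w * s' := by rw [← hk, div_mul_cancel₀ _ hD]
  have e2 : l * (s * t' - t * s') = s * w - t * r := by rw [← hl, div_mul_cancel₀ _ hD]
  have ea : r = k * s + l * s' := mul_left_cancel₀ hD (by linear_combination (-s) * e1 - s' * e2)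
  have eb : w = k * t + l * t' := mul_left_cancel₀ hD (by linear_combination (-t) * e1 - t' * e2)
  rw [hx, hy, hz, ea, eb]
  module

/-! ### Involutions -/

/-- The step splitting off one transvection from a square-zero self-adjoint map. -/
theorem split_step {N : V →ₗ[F] V} (hadj : ∀ x y, 𝕙 (N x) y = 𝕙 x (N y)) (hN : ∀ x, N (N x) = 0)
    (hne : ∃ x, N x ≠ 0) : ∃ (x p : V) (N' : V →ₗ[F] V), p = N x ∧ 𝕙 p p = 0 ∧ 𝕙 p x = 1 ∧
      (∀ y, N y = N' y + 𝕙 y p • p) ∧ (∀ a b, 𝕙 (N' a) b = 𝕙 a (N' b)) ∧ (∀ a, N' (N' a) = 0) ∧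
      N' x = 0 ∧ (∀ a, N a = 0 → N' a = 0) ∧ (∀ a, ∃ b, N' a = N b) := by
  obtain ⟨x, hx⟩ : ∃ x, 𝕙 (N x) x ≠ 0 := by
    by_contra h
    push Not at h
    obtain ⟨w, hw0, hw1, hw⟩ := exists_omega hF
    obtain ⟨x₀, hx₀⟩ := hne
    obtain ⟨y, hy⟩ := exists_pairing_ne (q := 2) hF hx₀
    have e : ∀ c : F, c + c ^ 2 = 0 := by
      intro c
      have e1 := h (c • x₀ + y)
      rw [map_add, map_smul, hermForm_add_left, hermForm_add_right hF, hermForm_add_right hF,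
        hermForm_smul_left, hermForm_smul_left, hermForm_smul_right, hermForm_smul_right, h, h, hy,
        hadj y x₀, herm_symm' hF (N x₀) y, hy] at e1
      simpa using e1
    have := e w
    exact one_ne_zero (α := F) (by linear_combination hw - this)
  have hself : 𝕙 (N x) x = 1 := by
    refine (sq_eq_self_cases hF ?_).resolve_left hx
    rw [← herm_symm' hF, hadj]
  set p := N x with hp
  let N' : V →ₗ[F] V :=
    { toFun := fun y => N y + 𝕙 y p • p
      map_add' := fun a b => by rw [map_add, hermForm_add_left, add_smul]; abel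
      map_smul' := fun c a => by
        rw [map_smul, hermForm_smul_left, RingHom.id_apply, smul_add, smul_smul] }
  have hxp : 𝕙 x p = 1 := by rw [herm_symm' hF, hself, one_pow]
  have hpp : 𝕙 p p = 0 := by rw [hp, hadj, hN]; exact hermForm_zero_right hF x
  have happ : ∀ y, N' y = N y + 𝕙 y p • p := fun y => rfl
  refine ⟨x, p, N', rfl, hpp, hself, fun y => ?_, fun a b => ?_, fun a => ?_, ?_, fun a ha => ?_, fun a => ?_⟩
  · rw [happ, add_assoc, vadd_self hF, add_zero]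
  · rw [happ, happ, hermForm_add_left, hermForm_add_right hF, hermForm_smul_left, hermForm_smul_right,
      hadj, ← herm_symm' hF b p]
    ring
  · have hNp : N p = 0 := hN x
    have h1 : 𝕙 (N a) p = 0 := by rw [hadj, hNp]; exact hermForm_zero_right hF a
    rw [happ (N' a), happ a, map_add, hN, map_smul, hNp, hermForm_add_left, h1, hermForm_smul_left, hpp]
    simp
  · rw [happ, hxp, one_smul]
    exact vadd_self hF p
  · have : 𝕙 a p = 0 := by rw [hp, ← hadj, ha, hermForm_zero_left]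
    rw [happ, ha, this, zero_smul, add_zero]
  · exact ⟨a + 𝕙 a p • x, by rw [happ, map_add, map_smul]⟩

/-- An involution is a product of at most three orthogonal transvections. -/
theorem involution_cases {A : SU₆} (hA : A * A = 1) (hA1 : A ≠ 1) :
    (∃ v, IsTvAt v A) ∨ ∃ (p : Fin 3 → V) (T : Fin 3 → SU₆), LinearIndependent F p ∧
      (∀ i j, 𝕙 (p i) (p j) = 0) ∧ (∀ i, IsTvAt (p i) (T i)) ∧ (A = T 0 * T 1 ∨ A = T 0 * T 1 * T 2) := by
  let N : V →ₗ[F] V :=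
    { toFun := fun x => A.1.1 *ᵥ x + x
      map_add' := fun a b => by rw [Matrix.mulVec_add]; abel
      map_smul' := fun c a => by rw [Matrix.mulVec_smul, RingHom.id_apply, smul_add] }
  have happ : ∀ x, A.1.1 *ᵥ x = x + N x := fun x => by
    show _ = x + (A.1.1 *ᵥ x + x)
    rw [add_left_comm, vadd_self hF, add_zero]
  have hAA : ∀ x, A.1.1 *ᵥ (A.1.1 *ᵥ x) = x := fun x => by rw [← SU_mul_mulVec, hA, SU_one_mulVec]
  have hN : ∀ x, N (N x) = 0 := fun x => by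
    show A.1.1 *ᵥ (A.1.1 *ᵥ x + x) + (A.1.1 *ᵥ x + x) = 0
    rw [Matrix.mulVec_add, hAA]
    exact (add_comm _ _).trans (by rw [add_comm x, vadd_self hF])
  have hadj : ∀ x y, 𝕙 (N x) y = 𝕙 x (N y) := fun x y => by
    have h1 : 𝕙 (A.1.1 *ᵥ x) y = 𝕙 x (A.1.1 *ᵥ y) := by
      conv_lhs => rw [← hAA y, herm_map]
    show 𝕙 (A.1.1 *ᵥ x + x) y = 𝕙 x (A.1.1 *ᵥ y + y)
    rw [hermForm_add_left, hermForm_add_right hF, h1]
  have hne : ∃ x, N x ≠ 0 := by
    by_contra h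
    push Not at h
    exact hA1 (SU_ext fun x => by rw [happ, h, add_zero, SU_one_mulVec])
  obtain ⟨x₁, p₁, N₁, hp₁, hp₁₁, hq₁, hdec₁, hadj₁, hN₁, hx₁, hker₁, hran₁⟩ := split_step hF hadj hN hne
  have hp₁0 : p₁ ≠ 0 := fun h => by rw [h, hermForm_zero_left] at hq₁; exact zero_ne_one hq₁
  have hperp : ∀ a b, 𝕙 (N a) (N b) = 0 := fun a b => by rw [hadj, hN]; exact hermForm_zero_right hF a
  by_cases hne₁ : ∃ x, N₁ x ≠ 0
  swap
  · push Not at hne₁
    exact Or.inl ⟨p₁, hp₁0, hp₁₁, Matrix.ext_of_mulVec_single fun i => by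
      rw [happ, hdec₁, hne₁, zero_add, tv_apply]⟩
  obtain ⟨x₂, p₂, N₂, hp₂, hp₂₂, hq₂, hdec₂, hadj₂, hN₂, hx₂, hker₂, hran₂⟩ := split_step hF hadj₁ hN₁ hne₁
  obtain ⟨b₂, hb₂⟩ := hran₁ x₂
  have hp12 : 𝕙 p₁ p₂ = 0 := by rw [hp₁, hp₂, hb₂, hperp]
  have h21 : 𝕙 p₂ x₁ = 0 := by rw [hp₂, hadj₁, hx₁]; exact hermForm_zero_right hF x₂
  have hp₂0 : p₂ ≠ 0 := fun h => by rw [h, hermForm_zero_left] at hq₂; exact zero_ne_one hq₂
  have hli2 : LinearIndependent F ![p₁, p₂] := li_pair_of_ne hp₁0 fun c h => by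
    rw [h, hermForm_smul_left, hq₁, mul_one] at h21
    exact hp₂0 (by rw [h, h21, zero_smul])
  obtain ⟨T₁, hT₁⟩ := exists_tvAt hF hp₁0 hp₁₁
  obtain ⟨T₂, hT₂⟩ := exists_tvAt hF hp₂0 hp₂₂
  right
  by_cases hne₂ : ∃ x, N₂ x ≠ 0
  swap
  · push Not at hne₂
    obtain ⟨c, hli, hcc, h1c, h2c⟩ := exists_third hF hli2 hp₁₁ hp₂₂ hp12
    have hc0 : c ≠ 0 := hli.ne_zero 2
    obtain ⟨T₃, hT₃⟩ := exists_tvAt hF hc0 hcc
    refine ⟨![p₁, p₂, c], ![T₁, T₂, T₃], hli, fun i j => ?_, fun i => ?_, Or.inl ?_⟩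
    · fin_cases i <;> fin_cases j <;>
        simp [hp₁₁, hp₂₂, hcc, hp12, h1c, h2c, herm_zero_symm hF hp12, herm_zero_symm hF h1c,
          herm_zero_symm hF h2c]
    · fin_cases i
      exacts [hT₁, hT₂, hT₃]
    · refine SU_ext fun x => ?_
      show _ = (T₁ * T₂).1.1 *ᵥ x
      rw [SU_mul_mulVec, hT₂.apply, hT₁.apply, happ, hdec₁, hdec₂, hne₂, hermForm_add_left,
        hermForm_smul_left, herm_zero_symm hF hp12]
      simp
      abel
  obtain ⟨x₃, p₃, N₃, hp₃, hp₃₃, hq₃, hdec₃, hadj₃, hN₃, hx₃, hker₃, hran₃⟩ := split_step hF hadj₂ hN₂ hne₂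
  obtain ⟨b₃', hb₃'⟩ := hran₂ x₃
  obtain ⟨b₃, hb₃⟩ := hran₁ b₃'
  have hp13 : 𝕙 p₁ p₃ = 0 := by rw [hp₁, hp₃, hb₃', hb₃, hperp]
  have hp23 : 𝕙 p₂ p₃ = 0 := by rw [hp₂, hp₃, hb₂, hb₃', hb₃, hperp]
  have h31 : 𝕙 p₃ x₁ = 0 := by rw [hp₃, hadj₂, hker₂ x₁ hx₁]; exact hermForm_zero_right hF x₃
  have h32 : 𝕙 p₃ x₂ = 0 := by rw [hp₃, hadj₂, hx₂]; exact hermForm_zero_right hF x₃
  have hp₃0 : p₃ ≠ 0 := fun h => by rw [h, hermForm_zero_left] at hq₃; exact zero_ne_one hq₃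
  have hli3 : LinearIndependent F ![p₁, p₂, p₃] := li_triple hli2 fun s t h => by
    have e1 := h31
    rw [h, hermForm_add_left, hermForm_smul_left, hermForm_smul_left, hq₁, h21, mul_one, mul_zero, add_zero] at e1
    have e2 := h32
    rw [h, e1, zero_smul, zero_add, hermForm_smul_left, hq₂, mul_one] at e2
    exact hp₃0 (by rw [h, e1, e2, zero_smul, zero_smul, add_zero])
  have hN₃0 : ∀ x, N₃ x = 0 := by
    by_contra hne₃
    push Not at hne₃
    obtain ⟨x₄, p₄, N₄, hp₄, hp₄₄, hq₄, -, -, -, -, -, -⟩ := split_step hF hadj₃ hN₃ hne₃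
    obtain ⟨b₄'', hb₄''⟩ := hran₃ x₄
    obtain ⟨b₄', hb₄'⟩ := hran₂ b₄''
    obtain ⟨b₄, hb₄⟩ := hran₁ b₄'
    have h41 : 𝕙 p₄ x₁ = 0 := by
      rw [hp₄, hadj₃, hker₃ x₁ (hker₂ x₁ hx₁)]; exact hermForm_zero_right hF x₄
    have h42 : 𝕙 p₄ x₂ = 0 := by rw [hp₄, hadj₃, hker₃ x₂ hx₂]; exact hermForm_zero_right hF x₄
    have h43 : 𝕙 p₄ x₃ = 0 := by rw [hp₄, hadj₃, hx₃]; exact hermForm_zero_right hF x₄
    have hp₄0 : p₄ ≠ 0 := fun h => by rw [h, hermForm_zero_left] at hq₄; exact zero_ne_one hq₄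
    -- `p₄` is orthogonal to a maximal totally isotropic triple, hence in its span
    obtain ⟨y, hy0, hyy, hy1, hy2, hy4⟩ : ∃ y : V, y ≠ 0 ∧ 𝕙 y y = 0 ∧ 𝕙 y p₁ = 0 ∧ 𝕙 y p₂ = 0 ∧ 𝕙 y p₄ ≠ 0 := by
      refine exists_sep_three hF (li_triple hli2 fun s t h => ?_) hp₁₁ hp₂₂ hp₄₄ hp12 ?_ ?_
      · have e1 := h41
        rw [h, hermForm_add_left, hermForm_smul_left, hermForm_smul_left, hq₁, h21, mul_one, mul_zero, add_zero] at e1
        have e2 := h42
        rw [h, e1, zero_smul, zero_add, hermForm_smul_left, hq₂, mul_one] at e2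
        exact hp₄0 (by rw [h, e1, e2, zero_smul, zero_smul, add_zero])
      · rw [hp₁, hp₄, hb₄'', hb₄', hb₄, hperp]
      · rw [hp₂, hp₄, hb₂, hb₄'', hb₄', hb₄, hperp]
    have hp14 : 𝕙 p₁ p₄ = 0 := by rw [hp₁, hp₄, hb₄'', hb₄', hb₄, hperp]
    have hp24 : 𝕙 p₂ p₄ = 0 := by rw [hp₂, hp₄, hb₂, hb₄'', hb₄', hb₄, hperp]
    have hp34 : 𝕙 p₃ p₄ = 0 := by rw [hp₃, hp₄, hb₃', hb₃, hb₄'', hb₄', hb₄, hperp]
    have hli4 : LinearIndependent F ![p₁, p₂, p₃, p₄] := li_four hli3 fun r s t h => by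
      have e1 := h41
      rw [h, hermForm_add_left, hermForm_add_left, hermForm_smul_left, hermForm_smul_left, hermForm_smul_left,
        hq₁, h21, h31, mul_one, mul_zero, mul_zero, add_zero, add_zero] at e1
      have e2 := h42
      rw [h, e1, zero_smul, zero_add, hermForm_add_left, hermForm_smul_left, hermForm_smul_left, hq₂, h32,
        mul_one, mul_zero, add_zero] at e2
      have e3 := h43
      rw [h, e1, e2, zero_smul, zero_smul, zero_add, zero_add, hermForm_smul_left, hq₃, mul_one] at e3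
      exact hp₄0 (by rw [h, e1, e2, e3, zero_smul, zero_smul, zero_smul, add_zero, add_zero])
    -- four independent pairwise orthogonal vectors do not fit
    let φ : V →ₗ[F] (Fin 4 → F) :=
      { toFun := fun x i => 𝕙 x (![p₁, p₂, p₃, p₄] i)
        map_add' := fun x y => funext fun i => hermForm_add_left 6 x y _
        map_smul' := fun c x => funext fun i => hermForm_smul_left 6 c x _ }
    have hsur : Function.Surjective φ := by
      intro c
      obtain ⟨f, hf⟩ := exists_coord hli4 fun i => c i ^ 2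
      obtain ⟨z, hz⟩ := exists_dual hF f
      refine ⟨z, funext fun i => ?_⟩
      show 𝕙 z _ = c i
      rw [herm_symm' hF, ← hz, hf, ← pow_mul]
      exact pow_four hF _
    have hker : Submodule.span F (Set.range ![p₁, p₂, p₃, p₄]) ≤ LinearMap.ker φ := by
      rw [Submodule.span_le]
      rintro _ ⟨i, rfl⟩
      refine funext fun j => ?_
      show 𝕙 _ _ = 0
      fin_cases i <;> fin_cases j <;>
        simp [hp₁₁, hp₂₂, hp₃₃, hp₄₄, hp12, hp13, hp23, hp14, hp24, hp34, herm_zero_symm hF hp12,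
          herm_zero_symm hF hp13, herm_zero_symm hF hp23, herm_zero_symm hF hp14, herm_zero_symm hF hp24,
          herm_zero_symm hF hp34]
    have h1 := LinearMap.finrank_range_add_finrank_ker φ
    rw [LinearMap.range_eq_top.2 hsur] at h1
    have h2 := Submodule.finrank_mono hker
    rw [finrank_span_eq_card hli4] at h2
    simp at h1 h2
    omega
  obtain ⟨T₃, hT₃⟩ := exists_tvAt hF hp₃0 hp₃₃
  refine ⟨![p₁, p₂, p₃], ![T₁, T₂, T₃], hli3, fun i j => ?_, fun i => ?_, Or.inr ?_⟩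
  · fin_cases i <;> fin_cases j <;>
      simp [hp₁₁, hp₂₂, hp₃₃, hp12, hp13, hp23, herm_zero_symm hF hp12, herm_zero_symm hF hp13,
        herm_zero_symm hF hp23]
  · fin_cases i
    exacts [hT₁, hT₂, hT₃]
  · refine SU_ext fun x => ?_
    show _ = (T₁ * T₂ * T₃).1.1 *ᵥ x
    simp only [SU_mul_mulVec, hT₁.apply, hT₂.apply, hT₃.apply, happ, hdec₁, hdec₂, hdec₃, hN₃0,
      hermForm_add_left, hermForm_smul_left, herm_zero_symm hF hp12, herm_zero_symm hF hp13,
      herm_zero_symm hF hp23, mul_zero, add_zero, zero_add]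
    abel

/-- Elements of `SU` carry any orthogonal independent triple to any other, up to scalars. -/
theorem exists_move {p u : Fin 3 → V} (hp : LinearIndependent F p) (hu : LinearIndependent F u)
    (hpp : ∀ i j, 𝕙 (p i) (p j) = 0) (huu : ∀ i j, 𝕙 (u i) (u j) = 0) :
    ∃ s : SU₆, ∀ i, ∃ a : F, a ≠ 0 ∧ s.1.1 *ᵥ p i = a • u i := by
  obtain ⟨g₀, hg₀⟩ := exists_GU_family hF stdP p li_stdP hp fun i j => by rw [hpp, stdP_gram hF]
  obtain ⟨g, hg⟩ := exists_GU_family hF stdP u li_stdP hu fun i j => by rw [huu, stdP_gram hF]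
  have hd : ∀ f : Cfsg.GU 6 F 2, f.1.val.det ≠ 0 := fun f =>
    ((Matrix.isUnit_iff_isUnit_det _).1 (⟨f.1, rfl⟩ : IsUnit f.1.val)).ne_zero
  set μ := g.1.val.det * (g₀⁻¹).1.val.det with hμ
  have hμ0 : μ ≠ 0 := mul_ne_zero (hd g) (hd g₀⁻¹)
  have hsingle : ∀ i : Fin 6, 𝕙 (Pi.single i 1) (Pi.single i (1 : F)) = 1 := fun i => by
    rw [hermForm_single_right hF, Pi.single_eq_same]
  obtain ⟨r, hrd, hr⟩ := exists_refl hF (hsingle 0) (μ := μ) (cube_eq_one hF hμ0)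
  obtain ⟨r', hrd', hr'⟩ := exists_refl hF (hsingle 1) (μ := μ) (cube_eq_one hF hμ0)
  obtain ⟨s, hs⟩ := exists_SU_of_GU (g * (r * r') * g₀⁻¹) (by
    show (g.1.val * (r.1.val * r'.1.val) * (g₀⁻¹).1.val).det = 1
    rw [Matrix.det_mul, Matrix.det_mul, Matrix.det_mul, hrd, hrd']
    calc g.1.val.det * (μ * μ) * (g₀⁻¹).1.val.det = μ ^ 3 := by rw [hμ]; ring
      _ = 1 := cube_eq_one hF hμ0)
  refine ⟨s, fun i => ⟨if i = 0 then μ else 1, by split <;> simp [hμ0], ?_⟩⟩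
  have hinv : (g₀⁻¹).1.val *ᵥ p i = stdP i := by
    rw [← hg₀ i, ← GU_mul_mulVec, inv_mul_cancel, GU_one_mulVec]
  rw [hs, GU_mul_mulVec, GU_mul_mulVec, GU_mul_mulVec, hinv, ← hg i, ← Matrix.mulVec_smul]
  congr 1
  rw [hr', hr, hermForm_single_right hF, hermForm_single_right hF]
  funext k
  fin_cases i <;> fin_cases k <;> simp [stdP, Pi.single_apply, Matrix.vecHead, Matrix.vecTail]

/-- Every isotropic vector starts an orthogonal independent triple. -/
theorem exists_triple {v : V} (hv0 : v ≠ 0) (hv : 𝕙 v v = 0) :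
    ∃ p : Fin 3 → V, LinearIndependent F p ∧ (∀ i j, 𝕙 (p i) (p j) = 0) ∧ p 0 = v := by
  have hone : ∀ x : V, x ≠ 0 → LinearIndependent F ![x] := fun x hx => by
    rw [Fintype.linearIndependent_iff]
    intro g hg i
    fin_cases i
    simpa [hx] using hg
  obtain ⟨g, hg⟩ := exists_GU_family hF ![stdP 0] ![v] (hone _ ((li_stdP (F := F)).ne_zero 0))
    (hone v hv0) fun i j => by
      fin_cases i <;> fin_cases j
      simp [hv, stdP_gram hF]
  have hinj : Function.Injective (Matrix.mulVecLin g.1.val) := by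
    intro x y hxy
    have h' : g⁻¹.1.val *ᵥ (g.1.val *ᵥ x) = g⁻¹.1.val *ᵥ (g.1.val *ᵥ y) := congrArg _ hxy
    rwa [← GU_mul_mulVec, ← GU_mul_mulVec, inv_mul_cancel, GU_one_mulVec, GU_one_mulVec] at h'
  refine ⟨fun i => g.1.val *ᵥ stdP i, (li_stdP (F := F)).map' _ (LinearMap.ker_eq_bot.2 hinj), fun i j => ?_, hg 0⟩
  rw [mem_GU_iff.1 g.2]
  exact stdP_gram hF i j

theorem tv_conjugate {v w : V} {A B : SU₆} (hA : IsTvAt v A) (hB : IsTvAt w B) :
    ∃ s : SU₆, s * A * s⁻¹ = B := by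
  obtain ⟨p, hp, hpp, rfl⟩ := exists_triple hF hA.1 hA.2.1
  obtain ⟨u, hu, huu, rfl⟩ := exists_triple hF hB.1 hB.2.1
  obtain ⟨s, hs⟩ := exists_move hF hp hu hpp huu
  obtain ⟨a, ha, hsa⟩ := hs 0
  have h1 := hA.conj hF s
  rw [hsa] at h1
  exact ⟨s, h1.unique hF (hB.scale hF ha)⟩

/-- An involution all of whose products with conjugates have order at most three is a transvection. -/
theorem tv_of_three_transposition {A : SU₆} (hA : A * A = 1) (hA1 : A ≠ 1)
    (h3 : ∀ s : SU₆, ((QuotientGroup.mk A : PSU₆) * QuotientGroup.mk (s * A * s⁻¹)) ^ 2 = 1 ∨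
      ((QuotientGroup.mk A : PSU₆) * QuotientGroup.mk (s * A * s⁻¹)) ^ 3 = 1) : ∃ v, IsTvAt v A := by
  refine (involution_cases hF hA hA1).resolve_right ?_
  rintro ⟨p, T, hli, hpp, hT, hprod⟩
  obtain ⟨u₁, u₂, hul, h11, h22, h12, h1p, h2p, a11, a21, a12, a22⟩ := exists_path_three hF hli hpp
  obtain ⟨U₁, hU₁⟩ := exists_tvAt hF (v := u₁) (hul.ne_zero 0) h11
  obtain ⟨U₂, hU₂⟩ := exists_tvAt hF (v := u₂) (hul.ne_zero 1) h22
  obtain ⟨s, hs⟩ := exists_move hF hli hul hpp fun i j => by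
    fin_cases i <;> fin_cases j <;>
      simp [h11, h22, h12, h1p, h2p, hpp, herm_zero_symm hF h12, herm_zero_symm hF h1p, herm_zero_symm hF h2p]
  have hsT : s * T 0 * s⁻¹ = U₁ ∧ s * T 1 * s⁻¹ = U₂ ∧ s * T 2 * s⁻¹ = T 2 := by
    refine ⟨?_, ?_, ?_⟩
    · obtain ⟨a, ha, e⟩ := hs 0
      have h := (hT 0).conj hF s
      rw [e] at h
      exact h.unique hF (hU₁.scale hF ha)
    · obtain ⟨a, ha, e⟩ := hs 1
      have h := (hT 1).conj hF s
      rw [e] at h
      exact h.unique hF (hU₂.scale hF ha)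
    · obtain ⟨a, ha, e⟩ := hs 2
      have h := (hT 2).conj hF s
      rw [e] at h
      exact h.unique hF ((hT 2).scale hF ha)
  set W := T 0 * T 1 * (U₁ * U₂) with hW
  have hAW : A * (s * A * s⁻¹) = W := by
    rcases hprod with e | e
    · rw [hW, e, show s * (T 0 * T 1) * s⁻¹ = (s * T 0 * s⁻¹) * (s * T 1 * s⁻¹) by group, hsT.1, hsT.2.1]
    · rw [hW, e, show s * (T 0 * T 1 * T 2) * s⁻¹ = (s * T 0 * s⁻¹) * (s * T 1 * s⁻¹) * (s * T 2 * s⁻¹) by group,
        hsT.1, hsT.2.1, hsT.2.2]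
      have c1 : Commute (T 2) U₁ := commute_of_perp hF (hT 2) hU₁ (herm_zero_symm hF h1p)
      have c2 : Commute (T 2) U₂ := commute_of_perp hF (hT 2) hU₂ (herm_zero_symm hF h2p)
      calc T 0 * T 1 * T 2 * (U₁ * U₂ * T 2) = T 0 * T 1 * (T 2 * (U₁ * U₂)) * T 2 := by group
        _ = T 0 * T 1 * ((U₁ * U₂) * T 2) * T 2 := by rw [(c1.mul_right c2).eq]
        _ = T 0 * T 1 * (U₁ * U₂) * (T 2 * T 2) := by group
        _ = T 0 * T 1 * (U₁ * U₂) := by rw [(hT 2).sq hF, mul_one]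
  have b11 : 𝕙 u₁ (p 0) = 1 := by rw [herm_symm' hF, a11, one_pow]
  have b12 : 𝕙 u₁ (p 1) = 1 := by rw [herm_symm' hF, a21, one_pow]
  have b21 : 𝕙 u₂ (p 0) = 0 := herm_zero_symm hF a12
  have b22 : 𝕙 u₂ (p 1) = 1 := by rw [herm_symm' hF, a22, one_pow]
  have h21 : 𝕙 u₂ u₁ = 0 := herm_zero_symm hF h12
  have happ : ∀ x, W.1.1 *ᵥ x = (T 0).1.1 *ᵥ ((T 1).1.1 *ᵥ (U₁.1.1 *ᵥ (U₂.1.1 *ᵥ x))) := fun x => by
    rw [hW, SU_mul_mulVec, SU_mul_mulVec, SU_mul_mulVec]
  have w1 : W.1.1 *ᵥ p 0 = u₁ + p 1 := by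
    rw [happ, hU₂.apply, a12, zero_smul, add_zero, hU₁.apply, a11, one_smul, (hT 1).apply, (hT 0).apply]
    simp only [hermForm_add_left, hermForm_smul_left, hpp, b11, b12, mul_zero, zero_add, add_zero, one_smul]
    calc p 0 + u₁ + p 1 + p 0 = u₁ + p 1 + (p 0 + p 0) := by abel
      _ = u₁ + p 1 := by rw [vadd_self hF, add_zero]
  have w2 : W.1.1 *ᵥ (u₁ + p 1) = u₂ := by
    have e1 : 𝕙 (u₁ + p 1) u₂ = 1 := by rw [hermForm_add_left, h12, a22, zero_add]
    have e2 : 𝕙 (u₁ + p 1 + u₂) u₁ = 1 := by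
      rw [hermForm_add_left, hermForm_add_left, h11, a21, h21, zero_add, add_zero]
    rw [happ, hU₂.apply, e1, one_smul, hU₁.apply, e2, one_smul,
      show u₁ + p 1 + u₂ + u₁ = p 1 + u₂ + (u₁ + u₁) by abel, vadd_self hF, add_zero, (hT 1).apply,
      hermForm_add_left, hpp, b22, zero_add, one_smul,
      show p 1 + u₂ + p 1 = u₂ + (p 1 + p 1) by abel, vadd_self hF, add_zero, (hT 0).apply, b21, zero_smul,
      add_zero]
  have w3 : W.1.1 *ᵥ u₂ = u₂ + p 1 := by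
    rw [happ, hU₂.apply, h22, zero_smul, add_zero, hU₁.apply, h21, zero_smul, add_zero, (hT 1).apply, b22,
      one_smul, (hT 0).apply, hermForm_add_left, b21, hpp, add_zero, zero_smul, add_zero]
  have hnot : ∀ (X : SU₆) (y : V), X.1.1 *ᵥ p 0 = y → 𝕙 y (p 1) = 1 → (QuotientGroup.mk X : PSU₆) ≠ 1 := by
    intro X y hX hy e
    obtain ⟨a, -, happ⟩ := center_scalar hF ((QuotientGroup.eq_one_iff X).1 e)
    rw [happ] at hX
    rw [← hX, hermForm_smul_left, hpp, mul_zero] at hy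
    exact zero_ne_one hy
  rcases h3 s with e | e <;> rw [← QuotientGroup.mk_mul, hAW, ← QuotientGroup.mk_pow] at e
  · exact hnot _ u₂ (by rw [sq, SU_mul_mulVec, w1, w2]) b22 e
  · exact hnot _ (u₂ + p 1) (by rw [pow_succ, sq, SU_mul_mulVec, SU_mul_mulVec, w1, w2, w3])
      (by rw [hermForm_add_left, b22, hpp, add_zero]) e

end CfsgLib.ThreeTrans.USix
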