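import Mathlib
import Cfsg.Agent.Lib.ThreeTrans.UnitarySixClass

/-! Any conjugation invariant non-empty set of 3-transpositions of `PSU(6,2)` is a `LineClass`. -/

set_option autoImplicit false
set_option linter.unusedSectionVars false

namespace CfsgLib.ThreeTrans.USix

open Matrix CfsgLib.ClassicalGroups

variable {F : Type*} [Field F] [Fintype F] (hF : Fintype.card F = 2 ^ 2)
include hF

local notation "V" => Fin 6 → F
local notation "𝕙" => Cfsg.hermForm 6 F 2
local notation "SU₆" => Cfsg.SU 6 F 2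
local notation "PSU₆" => Cfsg.PSU 6 F 2

theorem IsTvAt.not_smul {v w : V} {A B : SU₆} (hA : IsTvAt v A) (hB : IsTvAt w B)
    (h : (QuotientGroup.mk A : PSU₆) ≠ QuotientGroup.mk B) : ∀ s : F, w ≠ s • v := by
  intro s hs
  have hs0 : s ≠ 0 := fun e => hB.1 (by rw [hs, e, zero_smul])
  have hA' := hA.scale hF hs0
  rw [← hs] at hA'
  exact h (congrArg _ (hA'.unique hF hB))

/-- The members of an invariant set of 3-transpositions are transvections. -/
theorem exists_rep {E : Set PSU₆} (hE : Cfsg.IsThreeTranspositionSet E)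
    (hconj : ∀ g, ∀ a ∈ E, g * a * g⁻¹ ∈ E) {a : PSU₆} (ha : a ∈ E) :
    ∃ (v : V) (A : SU₆), IsTvAt v A ∧ (QuotientGroup.mk A : PSU₆) = a := by
  obtain ⟨A₀, rfl⟩ := QuotientGroup.mk_surjective a
  have h2 : (QuotientGroup.mk (A₀ * A₀) : PSU₆) = 1 := by
    have h := pow_orderOf_eq_one (QuotientGroup.mk A₀ : PSU₆)
    rwa [hE.1 _ ha, pow_two, ← QuotientGroup.mk_mul] at h
  set z := A₀ * A₀ with hz
  have hzc : z ∈ Subgroup.center SU₆ := (QuotientGroup.eq_one_iff z).1 h2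
  set A := A₀ * z with hA
  have hmk : (QuotientGroup.mk A : PSU₆) = QuotientGroup.mk A₀ := by
    rw [hA, QuotientGroup.mk_mul, h2, mul_one]
  have hAA : A * A = 1 := by
    rw [hA]
    calc A₀ * z * (A₀ * z) = A₀ * (z * A₀) * z := by group
      _ = A₀ * (A₀ * z) * z := by rw [(Subgroup.mem_center_iff.1 hzc A₀).symm]
      _ = z * z * z := by rw [hz]; group
      _ = 1 := center_cube hF hzc
  have hA1 : A ≠ 1 := fun e => by
    have h := hE.1 _ ha
    rw [← hmk, e, QuotientGroup.mk_one, orderOf_one] at h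
    exact absurd h (by norm_num)
  obtain ⟨v, hv⟩ := tv_of_three_transposition hF hAA hA1 fun s => by
    have e : (QuotientGroup.mk (s * A * s⁻¹) : PSU₆) =
        QuotientGroup.mk s * QuotientGroup.mk A₀ * (QuotientGroup.mk s)⁻¹ := by rw [← hmk]; rfl
    rw [e, hmk]
    exact hE.2 _ ha _ (hconj _ _ ha)
  exact ⟨v, A, hv, hmk⟩

theorem sum_eq_zero_three {a b c : V} {A B C : SU₆} (hA : IsTvAt a A) (hB : IsTvAt b B) (hC : IsTvAt c C)
    (hab : 𝕙 a b = 0) (hac : 𝕙 a c = 0) (hbc : 𝕙 b c = 0)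
    (h : (QuotientGroup.mk (A * B * C) : PSU₆) = 1) :
    ∀ φ : V →ₗ[F] F, φ a ^ 2 • a + φ b ^ 2 • b + φ c ^ 2 • c = 0 := by
  have happ : ∀ x, (A * B * C).1.1 *ᵥ x = x + (𝕙 x a • a + 𝕙 x b • b + 𝕙 x c • c) := by
    intro x
    simp only [SU_mul_mulVec, hA.apply, hB.apply, hC.apply, hermForm_add_left, hermForm_smul_left,
      herm_zero_symm hF hab, herm_zero_symm hF hac, herm_zero_symm hF hbc, mul_zero, add_zero]
    abel
  obtain ⟨x, hx, hxp⟩ := exists_perp hF ![a, b, c] (by norm_num)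
  have h1 := center_eq_one_of_fix hF ((QuotientGroup.eq_one_iff _).1 h) hx (by
    rw [happ, show 𝕙 x a = 0 from hxp 0, show 𝕙 x b = 0 from hxp 1, show 𝕙 x c = 0 from hxp 2]
    simp)
  intro φ
  obtain ⟨y, hy⟩ := exists_dual hF φ
  have h2 := happ y
  rw [h1, SU_one_mulVec, left_eq_add] at h2
  simpa [hy, ← herm_symm' hF] using h2

theorem sum_eq_zero_four {a b c d : V} {A B C D : SU₆} (hA : IsTvAt a A) (hB : IsTvAt b B) (hC : IsTvAt c C)
    (hD : IsTvAt d D) (hab : 𝕙 a b = 0) (hac : 𝕙 a c = 0) (had : 𝕙 a d = 0) (hbc : 𝕙 b c = 0)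
    (hbd : 𝕙 b d = 0) (hcd : 𝕙 c d = 0) (h : (QuotientGroup.mk (A * B * C * D) : PSU₆) = 1) :
    ∀ φ : V →ₗ[F] F, φ a ^ 2 • a + φ b ^ 2 • b + φ c ^ 2 • c + φ d ^ 2 • d = 0 := by
  have happ : ∀ x, (A * B * C * D).1.1 *ᵥ x =
      x + (𝕙 x a • a + 𝕙 x b • b + 𝕙 x c • c + 𝕙 x d • d) := by
    intro x
    simp only [SU_mul_mulVec, hA.apply, hB.apply, hC.apply, hD.apply, hermForm_add_left, hermForm_smul_left,
      herm_zero_symm hF hab, herm_zero_symm hF hac, herm_zero_symm hF had, herm_zero_symm hF hbc,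
      herm_zero_symm hF hbd, herm_zero_symm hF hcd, mul_zero, add_zero]
    abel
  obtain ⟨x, hx, hxp⟩ := exists_perp hF ![a, b, c, d] (by norm_num)
  have h1 := center_eq_one_of_fix hF ((QuotientGroup.eq_one_iff _).1 h) hx (by
    rw [happ, show 𝕙 x a = 0 from hxp 0, show 𝕙 x b = 0 from hxp 1, show 𝕙 x c = 0 from hxp 2,
      show 𝕙 x d = 0 from hxp 3]
    simp)
  intro φ
  obtain ⟨y, hy⟩ := exists_dual hF φ
  have h2 := happ y
  rw [h1, SU_one_mulVec, left_eq_add] at h2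
  simpa [hy, ← herm_symm' hF] using h2

theorem five_apply {a b c d e : V} {A B C D E : SU₆} (hA : IsTvAt a A) (hB : IsTvAt b B) (hC : IsTvAt c C)
    (hD : IsTvAt d D) (hE : IsTvAt e E) (hab : 𝕙 a b = 0) (hac : 𝕙 a c = 0) (had : 𝕙 a d = 0)
    (hae : 𝕙 a e = 0) (hbc : 𝕙 b c = 0) (hbd : 𝕙 b d = 0) (hbe : 𝕙 b e = 0) (hcd : 𝕙 c d = 0)
    (hce : 𝕙 c e = 0) (hde : 𝕙 d e = 0) (x : V) :
    (A * B * C * D * E).1.1 *ᵥ x = x + (𝕙 x a • a + 𝕙 x b • b + 𝕙 x c • c + 𝕙 x d • d + 𝕙 x e • e) := by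
  simp only [SU_mul_mulVec, hA.apply, hB.apply, hC.apply, hD.apply, hE.apply, hermForm_add_left, hermForm_smul_left,
    herm_zero_symm hF hab, herm_zero_symm hF hac, herm_zero_symm hF had, herm_zero_symm hF hae,
    herm_zero_symm hF hbc, herm_zero_symm hF hbd, herm_zero_symm hF hbe, herm_zero_symm hF hcd,
    herm_zero_symm hF hce, herm_zero_symm hF hde, mul_zero, add_zero]
  abel

theorem sum_eq_zero_five {a b c d e : V} {A B C D E : SU₆} (hA : IsTvAt a A) (hB : IsTvAt b B) (hC : IsTvAt c C)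
    (hD : IsTvAt d D) (hE : IsTvAt e E) (hab : 𝕙 a b = 0) (hac : 𝕙 a c = 0) (had : 𝕙 a d = 0)
    (hae : 𝕙 a e = 0) (hbc : 𝕙 b c = 0) (hbd : 𝕙 b d = 0) (hbe : 𝕙 b e = 0) (hcd : 𝕙 c d = 0)
    (hce : 𝕙 c e = 0) (hde : 𝕙 d e = 0) (h : (QuotientGroup.mk (A * B * C * D * E) : PSU₆) = 1) :
    ∀ φ : V →ₗ[F] F, φ a ^ 2 • a + φ b ^ 2 • b + φ c ^ 2 • c + φ d ^ 2 • d + φ e ^ 2 • e = 0 := by
  have happ := five_apply hF hA hB hC hD hE hab hac had hae hbc hbd hbe hcd hce hde
  obtain ⟨x, hx, hxp⟩ := exists_perp hF ![a, b, c, d, e] (by norm_num)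
  have h1 := center_eq_one_of_fix hF ((QuotientGroup.eq_one_iff _).1 h) hx (by
    rw [happ, show 𝕙 x a = 0 from hxp 0, show 𝕙 x b = 0 from hxp 1, show 𝕙 x c = 0 from hxp 2,
      show 𝕙 x d = 0 from hxp 3, show 𝕙 x e = 0 from hxp 4]
    simp)
  intro φ
  obtain ⟨y, hy⟩ := exists_dual hF φ
  have h2 := happ y
  rw [h1, SU_one_mulVec, left_eq_add] at h2
  simpa [hy, ← herm_symm' hF] using h2

theorem omega_cases {w μ : F} (hw1 : w ≠ 1) (hw : 1 + w + w ^ 2 = 0) (hμ : μ ≠ 0) :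
    μ = 1 ∨ μ = w ∨ μ = w ^ 2 := by
  have h : (μ - 1) * (μ - w) * (μ - w ^ 2) = 0 := by
    have h3 := cube_eq_one hF hμ
    have h2 := two_eq_zero hF
    grind
  rcases mul_eq_zero.1 h with h | h
  · rcases mul_eq_zero.1 h with h | h
    · exact Or.inl (sub_eq_zero.1 h)
    · exact Or.inr (Or.inl (sub_eq_zero.1 h))
  · exact Or.inr (Or.inr (sub_eq_zero.1 h))

theorem lineClass {E : Set PSU₆} (hE : Cfsg.IsThreeTranspositionSet E)
    (hconj : ∀ g, ∀ a ∈ E, g * a * g⁻¹ ∈ E) (hne : E.Nonempty) : LineClass E := by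
  have hrep := fun {a} ha => exists_rep hF hE hconj (a := a) ha
  obtain ⟨a₀, ha₀⟩ := hne
  obtain ⟨v₀, A₀, hA₀, hmk₀⟩ := hrep ha₀
  have hall : ∀ {v : V} {A : SU₆}, IsTvAt v A → (QuotientGroup.mk A : PSU₆) ∈ E := by
    intro v A hA
    obtain ⟨s, rfl⟩ := tv_conjugate hF hA₀ hA
    rw [QuotientGroup.mk_mul, QuotientGroup.mk_mul, QuotientGroup.mk_inv, hmk₀]
    exact hconj _ _ ha₀
  have hperp : ∀ {v w : V} {A B : SU₆}, IsTvAt v A → IsTvAt w B →
      Commute (QuotientGroup.mk A : PSU₆) (QuotientGroup.mk B) → 𝕙 v w = 0 :=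
    fun hA hB h => (commute_mk_iff hF hA hB).1 h
  refine ⟨hE, ?_, ?_, ?_, ?_, ?_, ?_, ?_⟩
  · intro a ha b hb
    obtain ⟨v, A, hA, rfl⟩ := hrep ha
    obtain ⟨w, B, hB, rfl⟩ := hrep hb
    obtain ⟨s, rfl⟩ := tv_conjugate hF hA hB
    exact ⟨QuotientGroup.mk s, rfl⟩
  · obtain ⟨y, hy, hxy⟩ := exists_partner hF hA₀.1 hA₀.2.1
    obtain ⟨B, hB⟩ := exists_tvAt hF (v := y) (fun e => by rw [e, hermForm_zero_right hF] at hxy; exact zero_ne_one hxy) hy
    refine ⟨_, hall hA₀, _, hall hB, fun h => ?_⟩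
    rw [hperp hA₀ hB h] at hxy
    exact zero_ne_one hxy
  · intro a ha b hb hiff
    obtain ⟨v, A, hA, rfl⟩ := hrep ha
    obtain ⟨w, B, hB, rfl⟩ := hrep hb
    by_contra hne'
    have hns := hA.not_smul hF hB hne'
    have hvw : 𝕙 v w = 0 := herm_zero_symm hF (hperp hB hA ((hiff _ ha).1 (Commute.refl _)))
    obtain ⟨c, hli, hcc, hvc, hwc⟩ := exists_third hF (li_pair_of_ne hA.1 hns) hA.2.1 hB.2.1 hvw
    have hli' : LinearIndependent F ![c, v, w] := by
      have h := hli.comp ![2, 0, 1] (by decide)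
      have e : ![v, w, c] ∘ ![(2 : Fin 3), 0, 1] = ![c, v, w] := by funext i; fin_cases i <;> rfl
      rwa [e] at h
    obtain ⟨x, hx0, hxx, -, hxv, hxw⟩ := exists_sep_three hF hli' hcc hA.2.1 hB.2.1
      (herm_zero_symm hF hvc) (herm_zero_symm hF hwc) hvw
    obtain ⟨X, hX⟩ := exists_tvAt hF hx0 hxx
    have h := (hiff _ (hall hX)).1 ((commute_mk_iff hF hA hX).2 (herm_zero_symm hF hxv))
    exact hxw (herm_zero_symm hF (hperp hB hX h))
  · intro a ha b hb c hc hab hac hbc cab cac cbc h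
    obtain ⟨u, A, hA, rfl⟩ := hrep ha
    obtain ⟨v, B, hB, rfl⟩ := hrep hb
    obtain ⟨w, C, hC, rfl⟩ := hrep hc
    exact dep_three hF hA.1 (hA.not_smul hF hB hab) (hA.not_smul hF hC hac) (hB.not_smul hF hC hbc)
      (sum_eq_zero_three hF hA hB hC (hperp hA hB cab) (hperp hA hC cac) (hperp hB hC cbc) h)
  · intro a ha b hb c hc d hd hab hac had hbc hbd hcd cab cac cad cbc cbd ccd h
    obtain ⟨u, A, hA, rfl⟩ := hrep ha
    obtain ⟨v, B, hB, rfl⟩ := hrep hb
    obtain ⟨w, C, hC, rfl⟩ := hrep hc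
    obtain ⟨x, D, hD, rfl⟩ := hrep hd
    exact dep_four hF hA.1 (hA.not_smul hF hB hab) (hA.not_smul hF hC hac) (hB.not_smul hF hC hbc)
      (hA.not_smul hF hD had) (hB.not_smul hF hD hbd) (hC.not_smul hF hD hcd) (hD.not_smul hF hC (Ne.symm hcd))
      (sum_eq_zero_four hF hA hB hC hD (hperp hA hB cab) (hperp hA hC cac) (hperp hA hD cad)
        (hperp hB hC cbc) (hperp hB hD cbd) (hperp hC hD ccd) h)
  · intro l hnd hlen hmem hcomm hprod
    obtain ⟨p₁, p₂, p₃, p₄, p₅, rfl⟩ : ∃ p₁ p₂ p₃ p₄ p₅, l = [p₁, p₂, p₃, p₄, p₅] := by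
      match l, hlen with
      | [p₁, p₂, p₃, p₄, p₅], _ => exact ⟨p₁, p₂, p₃, p₄, p₅, rfl⟩
    obtain ⟨a, A, hA, rfl⟩ := hrep (hmem p₁ (by simp))
    obtain ⟨b, B, hB, rfl⟩ := hrep (hmem p₂ (by simp))
    obtain ⟨c, C, hC, rfl⟩ := hrep (hmem p₃ (by simp))
    obtain ⟨d, D, hD, rfl⟩ := hrep (hmem p₄ (by simp))
    obtain ⟨e, E', hE', rfl⟩ := hrep (hmem p₅ (by simp))
    simp only [List.nodup_cons, List.mem_cons, List.not_mem_nil, or_false, not_or] at hnd
    obtain ⟨⟨n12, n13, n14, n15⟩, ⟨n23, n24, n25⟩, ⟨n34, n35⟩, n45, -⟩ := hnd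
    have hdep := sum_eq_zero_five hF hA hB hC hD hE'
      (hperp hA hB (hcomm _ (by simp) _ (by simp))) (hperp hA hC (hcomm _ (by simp) _ (by simp)))
      (hperp hA hD (hcomm _ (by simp) _ (by simp))) (hperp hA hE' (hcomm _ (by simp) _ (by simp)))
      (hperp hB hC (hcomm _ (by simp) _ (by simp))) (hperp hB hD (hcomm _ (by simp) _ (by simp)))
      (hperp hB hE' (hcomm _ (by simp) _ (by simp))) (hperp hC hD (hcomm _ (by simp) _ (by simp)))
      (hperp hC hE' (hcomm _ (by simp) _ (by simp))) (hperp hD hE' (hcomm _ (by simp) _ (by simp)))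
      (by simpa [QuotientGroup.mk_mul, mul_assoc] using hprod)
    have hplane := dep_five hF hA.1 (hA.not_smul hF hB n12) (hD.not_smul hF hC (Ne.symm n34))
      (hC.not_smul hF hD n34) (hE'.not_smul hF hC (Ne.symm n35)) (hC.not_smul hF hE' n35)
      (hE'.not_smul hF hD (Ne.symm n45)) (hD.not_smul hF hE' n45) hdep
    have hvec : ∀ p ∈ [(QuotientGroup.mk A : PSU₆), QuotientGroup.mk B, QuotientGroup.mk C, QuotientGroup.mk D,
        QuotientGroup.mk E'], ∃ (v : V) (T : SU₆), IsTvAt v T ∧ (QuotientGroup.mk T : PSU₆) = p ∧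
          ∃ s t : F, v = s • a + t • b := by
      intro p hp
      simp only [List.mem_cons, List.not_mem_nil, or_false] at hp
      rcases hp with rfl | rfl | rfl | rfl | rfl
      exacts [⟨a, A, hA, rfl, hplane a (by simp)⟩, ⟨b, B, hB, rfl, hplane b (by simp)⟩,
        ⟨c, C, hC, rfl, hplane c (by simp)⟩, ⟨d, D, hD, rfl, hplane d (by simp)⟩,
        ⟨e, E', hE', rfl, hplane e (by simp)⟩]
    intro p hp q hq hpq r hr y hy hyp hyq
    obtain ⟨u, U, hU, rfl, s, t, hst⟩ := hvec p hp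
    obtain ⟨v, W, hW, rfl, s', t', hst'⟩ := hvec q hq
    obtain ⟨w, R, hR, rfl, s'', t'', hst''⟩ := hvec r hr
    obtain ⟨x, X, hX, rfl⟩ := hrep hy
    obtain ⟨k, m, hkm⟩ := mem_plane (hU.not_smul hF hW hpq) hU.1 hst hst' hst''
    refine (commute_mk_iff hF hX hR).2 ?_
    rw [hkm, hermForm_add_right hF, hermForm_smul_right, hermForm_smul_right, hperp hX hU hyp,
      hperp hX hW hyq, mul_zero, mul_zero, add_zero]
  · intro b hb c hc hbc cbc
    obtain ⟨u, U, hU, rfl⟩ := hrep hb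
    obtain ⟨v, W, hW, rfl⟩ := hrep hc
    have hns := hU.not_smul hF hW hbc
    have huv := hperp hU hW cbc
    have hvu := herm_zero_symm hF huv
    have hli := li_pair_of_ne hU.1 hns
    obtain ⟨w, hw0, hw1, hw⟩ := exists_omega hF
    have hw3 := cube_eq_one hF hw0
    have hiso : ∀ μ : F, 𝕙 (u + μ • v) (u + μ • v) = 0 := fun μ => by
      rw [hermForm_add_left, hermForm_add_right hF, hermForm_add_right hF, hermForm_smul_left,
        hermForm_smul_left, hermForm_smul_right, hermForm_smul_right, hU.2.1, hW.2.1, huv, hvu]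
      ring
    have hne0 : ∀ μ : F, u + μ • v ≠ 0 := fun μ h =>
      one_ne_zero (LinearIndependent.pair_iff.1 hli 1 μ (by rw [one_smul, h])).1
    obtain ⟨P₁, hP₁⟩ := exists_tvAt hF (hne0 1) (hiso 1)
    obtain ⟨P₂, hP₂⟩ := exists_tvAt hF (hne0 w) (hiso w)
    obtain ⟨P₃, hP₃⟩ := exists_tvAt hF (hne0 (w ^ 2)) (hiso (w ^ 2))
    have hpμ : ∀ μ ν : F, 𝕙 (u + μ • v) (u + ν • v) = 0 := fun μ ν => by
      rw [hermForm_add_left, hermForm_add_right hF, hermForm_add_right hF, hermForm_smul_left,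
        hermForm_smul_left, hermForm_smul_right, hermForm_smul_right, hU.2.1, hW.2.1, huv, hvu]
      ring
    have hu : ∀ μ : F, 𝕙 u (u + μ • v) = 0 := fun μ => by
      rw [hermForm_add_right hF, hermForm_smul_right, hU.2.1, huv, mul_zero, add_zero]
    have hv : ∀ μ : F, 𝕙 v (u + μ • v) = 0 := fun μ => by
      rw [hermForm_add_right hF, hermForm_smul_right, hW.2.1, hvu, mul_zero, add_zero]
    have hdiff : ∀ {x y : V} {X Y : SU₆}, IsTvAt x X → IsTvAt y Y → (∀ a : F, a ≠ 0 → y ≠ a • x) →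
        (QuotientGroup.mk X : PSU₆) ≠ QuotientGroup.mk Y := by
      intro x y X Y hX hY hxy h
      rw [← eq_of_mk_eq hF hX hY h] at hY
      obtain ⟨a, ha, e⟩ := hX.line hF hY
      exact hxy a ha e
    have huμ : ∀ μ : F, μ ≠ 0 → ∀ a : F, a ≠ 0 → u + μ • v ≠ a • u := fun μ hμ a _ h =>
      hμ (LinearIndependent.pair_iff.1 hli (1 - a) μ (by rw [sub_smul, one_smul]; rw [← h]; abel)).2
    have hvμ : ∀ μ : F, ∀ a : F, a ≠ 0 → u + μ • v ≠ a • v := fun μ a _ h =>
      one_ne_zero (LinearIndependent.pair_iff.1 hli 1 (μ - a) (by rw [one_smul, sub_smul, ← h]; abel)).1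
    have hμν : ∀ μ ν : F, μ ≠ ν → ∀ a : F, a ≠ 0 → u + ν • v ≠ a • (u + μ • v) := by
      intro μ ν hμν a _ h
      have h' := LinearIndependent.pair_iff.1 hli (1 - a) (ν - a * μ) (by
        rw [sub_smul, one_smul, sub_smul, mul_smul]
        rw [smul_add] at h
        linear_combination (norm := module) h)
      exact hμν (by
        have ha1 : a = 1 := (sub_eq_zero.1 h'.1).symm
        have := h'.2
        rw [ha1, one_mul] at this
        exact (sub_eq_zero.1 this).symm)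
    have hw21 : w ^ 2 ≠ 1 := fun h => hw1 (by linear_combination hw3 - w * h)
    have hw2w : w ^ 2 ≠ w := fun h => hw1 (mul_right_cancel₀ hw0 (by linear_combination h))
    have cc : ∀ {x y : V} {X Y : SU₆}, IsTvAt x X → IsTvAt y Y → 𝕙 x y = 0 →
        Commute (QuotientGroup.mk X : PSU₆) (QuotientGroup.mk Y) :=
      fun hX hY h => (commute_mk_iff hF hX hY).2 h
    refine ⟨QuotientGroup.mk P₁, QuotientGroup.mk P₂, QuotientGroup.mk P₃, ?_, ?_, ?_, ?_, ?_⟩
    · simp only [List.nodup_cons, List.mem_cons, List.not_mem_nil, or_false, not_or, not_false_eq_true,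
        List.nodup_nil, and_true]
      exact ⟨⟨hbc, hdiff hU hP₁ (huμ 1 one_ne_zero), hdiff hU hP₂ (huμ w hw0),
          hdiff hU hP₃ (huμ _ (pow_ne_zero 2 hw0))⟩,
        ⟨hdiff hW hP₁ (hvμ 1), hdiff hW hP₂ (hvμ w), hdiff hW hP₃ (hvμ _)⟩,
        ⟨hdiff hP₁ hP₂ (hμν 1 w (Ne.symm hw1)), hdiff hP₁ hP₃ (hμν 1 _ (Ne.symm hw21))⟩,
        hdiff hP₂ hP₃ (hμν w _ (Ne.symm hw2w))⟩
    · simp only [List.mem_cons, List.not_mem_nil, or_false]
      rintro x (rfl | rfl | rfl | rfl | rfl)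
      exacts [hall hU, hall hW, hall hP₁, hall hP₂, hall hP₃]
    · have q1 := cc hU hW huv
      have q2 := cc hU hP₁ (hu 1)
      have q3 := cc hU hP₂ (hu w)
      have q4 := cc hU hP₃ (hu (w ^ 2))
      have q5 := cc hW hP₁ (hv 1)
      have q6 := cc hW hP₂ (hv w)
      have q7 := cc hW hP₃ (hv (w ^ 2))
      have q8 := cc hP₁ hP₂ (hpμ 1 w)
      have q9 := cc hP₁ hP₃ (hpμ 1 (w ^ 2))
      have q10 := cc hP₂ hP₃ (hpμ w (w ^ 2))
      simp only [List.mem_cons, List.not_mem_nil, or_false]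
      rintro x (rfl | rfl | rfl | rfl | rfl) y (rfl | rfl | rfl | rfl | rfl) <;>
        first | exact Commute.refl _ | assumption | exact Commute.symm (by assumption)
    · have h1 : U * W * P₁ * P₂ * P₃ = 1 := SU_ext fun x => by
        rw [five_apply hF hU hW hP₁ hP₂ hP₃ huv (hu 1) (hu w) (hu _) (hv 1) (hv w) (hv _) (hpμ 1 w)
          (hpμ 1 _) (hpμ w _), SU_one_mulVec]
        simp only [hermForm_add_right hF, hermForm_smul_right, one_pow, one_mul, one_smul]
        have h2 := two_eq_zero hF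
        match_scalars <;> grind
      calc [(QuotientGroup.mk U : PSU₆), QuotientGroup.mk W, QuotientGroup.mk P₁, QuotientGroup.mk P₂,
            QuotientGroup.mk P₃].prod = QuotientGroup.mk (U * W * P₁ * P₂ * P₃) := by
              simp [QuotientGroup.mk_mul, mul_assoc]
        _ = 1 := by rw [h1, QuotientGroup.mk_one]
    · intro p hp hpb hpc hsep
      obtain ⟨x, X, hX, rfl⟩ := hrep hp
      have hxu := hperp hX hU hpb
      have hxv := hperp hX hW hpc
      by_cases hin : ∃ s t : F, x = s • u + t • v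
      · obtain ⟨s, t, rfl⟩ := hin
        simp only [List.mem_cons, List.not_mem_nil, or_false]
        by_cases hs : s = 0
        · subst hs
          rw [zero_smul, zero_add] at hX
          have ht : t ≠ 0 := fun e => hX.1 (by rw [e, zero_smul])
          exact Or.inr (Or.inl (congrArg _ (hX.unique hF (hW.scale hF ht))))
        · by_cases ht : t = 0
          · subst ht
            rw [zero_smul, add_zero] at hX
            exact Or.inl (congrArg _ (hX.unique hF (hU.scale hF hs)))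
          · have hX' : IsTvAt (u + (s⁻¹ * t) • v) X := by
              have h := hX.scale hF (inv_ne_zero hs)
              rwa [smul_add, inv_smul_smul₀ hs, smul_smul] at h
            rcases omega_cases hF hw1 hw (mul_ne_zero (inv_ne_zero hs) ht) with e | e | e <;> rw [e] at hX'
            · exact Or.inr (Or.inr (Or.inl (congrArg _ (hX'.unique hF hP₁))))
            · exact Or.inr (Or.inr (Or.inr (Or.inl (congrArg _ (hX'.unique hF hP₂)))))
            · exact Or.inr (Or.inr (Or.inr (Or.inr (congrArg _ (hX'.unique hF hP₃)))))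
      · exfalso
        push Not at hin
        obtain ⟨y, hy0, hyy, hyu, hyv, hyx⟩ := exists_sep_three hF (li_triple hli hin) hU.2.1 hW.2.1 hX.2.1 huv
          (herm_zero_symm hF hxu) (herm_zero_symm hF hxv)
        obtain ⟨Y, hY⟩ := exists_tvAt hF hy0 hyy
        exact hyx (herm_zero_symm hF (hperp hX hY (hsep _ (hall hY) (cc hY hU hyu) (cc hY hW hyv))))

end CfsgLib.ThreeTrans.USix
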