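import Mathlib
import Cfsg.Agent.Lib.ThreeTrans.TypeStep
import Cfsg.Agent.Lib.ThreeTrans.Primitive
import Cfsg.Agent.Lib.ThreeTrans.UnitarySixLines
import Cfsg.Agent.S0280

/-! Groups of type M(22), M(23) and M(24): conjugacy of the transpositions, absence of twins, and
absence of short relations between commuting transpositions. -/

set_option autoImplicit false

namespace CfsgLib.ThreeTrans

open Matrix

universe u

/-- The consequences of the type used in the induction. -/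
structure Good (G : Type u) [Group G] (D : Set G) (k : ℕ) : Prop where
  rigid : Rigid D
  center : Subgroup.center G = ⊥
  dvd : 2 ^ 15 ∣ Nat.card G
  rel : ∀ j ≤ k, 2 ≤ j → NoRel D j

theorem noRel_two {G : Type*} [Group G] {D : Set G} (hD : Cfsg.IsThreeTranspositionSet D) : NoRel D 2 := by
  intro l hnd hlen hmem _ h
  match l, hlen with
  | [a, b], _ =>
    simp only [List.prod_cons, List.prod_nil, mul_one] at h
    simp only [List.nodup_cons, List.mem_singleton] at hnd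
    exact hnd.1 ((mul_eq_one_iff_eq' hD (hmem b (by simp))).1 h)

theorem noRel_three {Y : Type*} [Group Y] {E : Set Y} (h : LineClass E) : NoRel E 3 := by
  intro l hnd hlen hmem hcomm hp
  match l, hlen with
  | [a, b, c], _ =>
    simp only [List.nodup_cons, List.mem_cons, List.not_mem_nil, or_false, not_or] at hnd
    simp only [List.prod_cons, List.prod_nil, mul_one, ← mul_assoc] at hp
    exact h.no_three a (hmem a (by simp)) b (hmem b (by simp)) c (hmem c (by simp)) hnd.1.1 hnd.1.2 hnd.2.1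
      (hcomm a (by simp) b (by simp)) (hcomm a (by simp) c (by simp)) (hcomm b (by simp) c (by simp)) hp

theorem noRel_four {Y : Type*} [Group Y] {E : Set Y} (h : LineClass E) : NoRel E 4 := by
  intro l hnd hlen hmem hcomm hp
  match l, hlen with
  | [a, b, c, d], _ =>
    simp only [List.nodup_cons, List.mem_cons, List.not_mem_nil, or_false, not_or] at hnd
    simp only [List.prod_cons, List.prod_nil, mul_one, ← mul_assoc] at hp
    exact h.no_four a (hmem a (by simp)) b (hmem b (by simp)) c (hmem c (by simp)) d (hmem d (by simp))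
      hnd.1.1 hnd.1.2.1 hnd.1.2.2 hnd.2.1.1 hnd.2.1.2 hnd.2.2.1
      (hcomm a (by simp) b (by simp)) (hcomm a (by simp) c (by simp)) (hcomm a (by simp) d (by simp))
      (hcomm b (by simp) c (by simp)) (hcomm b (by simp) d (by simp)) (hcomm c (by simp) d (by simp)) hp

theorem LineClass.rigid {Y : Type*} [Group Y] {E : Set Y} (h : LineClass E) : Rigid E :=
  ⟨h.class_eq, h.nonabelian, h.twins⟩

theorem card_dvd_of_projRefl {X : Type*} [Group X] {n : ℕ} {μ c : ZMod 3}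
    (h : Cfsg.IsProjReflectionGroupModThree X n μ c) : Nat.card X ∣ Nat.card (GL (Fin n) (ZMod 3)) := by
  obtain ⟨Q, -, -, ⟨e⟩⟩ := h
  rw [Nat.card_congr e.toEquiv]
  exact ((Subgroup.card_quotient_dvd_card _).trans (Subgroup.card_subgroup_dvd_card _)).trans
    (Subgroup.card_subgroup_dvd_card _)

theorem not_dvd_card_GL_six : ¬ 2 ^ 15 ∣ Nat.card (GL (Fin 6) (ZMod 3)) := by
  haveI : Fact (Nat.Prime 3) := ⟨Nat.prime_three⟩
  rw [Matrix.card_GL_field]
  simp [Fin.prod_univ_succ, ZMod.card]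

theorem not_dvd_card_GL_seven : ¬ 2 ^ 15 ∣ Nat.card (GL (Fin 7) (ZMod 3)) := by
  haveI : Fact (Nat.Prime 3) := ⟨Nat.prime_three⟩
  rw [Matrix.card_GL_field]
  simp [Fin.prod_univ_succ, ZMod.card]

section PSUSix

variable {F : Type*} [Field F] [Fintype F] (hF : Fintype.card F = 2 ^ 2)
include hF

theorem psu_six_noncomm : ∃ a b : Cfsg.PSU 6 F 2, a * b ≠ b * a := by
  obtain ⟨v, hv0, hv⟩ := CfsgLib.ClassicalGroups.exists_isotropic_ne_zero (q := 2) (n := 6) hF (by norm_num)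
  obtain ⟨w, hw, hvw⟩ := CfsgLib.ClassicalGroups.exists_partner hF hv0 hv
  obtain ⟨A, hA⟩ := USix.exists_tvAt hF hv0 hv
  obtain ⟨B, hB⟩ := USix.exists_tvAt hF (v := w)
    (fun e => by rw [e, CfsgLib.ClassicalGroups.hermForm_zero_right hF] at hvw; exact zero_ne_one hvw) hw
  refine ⟨QuotientGroup.mk A, QuotientGroup.mk B, fun e => ?_⟩
  rw [(USix.commute_mk_iff hF hA hB).1 e] at hvw
  exact zero_ne_one hvw

theorem psu_six_center : Subgroup.center (Cfsg.PSU 6 F 2) = ⊥ := by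
  haveI := CfsgLib.ClassicalGroups.psu_isSimpleGroup (n := 6) hF (by norm_num) (by norm_num)
  refine (Subgroup.Normal.eq_bot_or_eq_top inferInstance).resolve_right fun h => ?_
  obtain ⟨a, b, hab⟩ := psu_six_noncomm hF
  exact hab ((Subgroup.mem_center_iff.1 (h ▸ Subgroup.mem_top b)) a)

theorem psu_six_dvd : 2 ^ 15 ∣ Nat.card (Cfsg.PSU 6 F 2) := by
  have h := Cfsg.Agent.S0280.result (q := 2) hF 6 (by norm_num)
  simp [Finset.prod_range_succ, Nat.even_iff] at h
  omega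

end PSUSix

section Types

variable {G : Type u} [Group G] [Finite G] {D : Set G}

/-- The data of a base point from a quotient isomorphism. -/
theorem isBase_of_equiv (hD : Cfsg.IsThreeTranspositionGroup D) {d : G} (hd : d ∈ D) {Y : Type*} [Group Y]
    (e : Hd D d ⧸ Subgroup.center (Hd D d) ≃* Y) :
    IsBase D d (e.toMonoidHom.comp (QuotientGroup.mk' (Subgroup.center (Hd D d)))) :=
  ⟨hD, hd, e.surjective.comp (QuotientGroup.mk'_surjective _), fun x => by
    show e (QuotientGroup.mk x) = 1 ↔ _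
    rw [MulEquiv.map_eq_one_iff, QuotientGroup.eq_one_iff]⟩

theorem isBase_mk (hD : Cfsg.IsThreeTranspositionGroup D) {d : G} (hd : d ∈ D) :
    IsBase D d (QuotientGroup.mk' (Subgroup.center (Hd D d))) :=
  ⟨hD, hd, QuotientGroup.mk'_surjective _, fun x => QuotientGroup.eq_one_iff x⟩

theorem dvd_card_of_base {d : G} {Y : Type*} [Group Y] {π : Hd D d →* Y} (hB : IsBase D d π) :
    Nat.card Y ∣ Nat.card G :=
  ((Subgroup.card_dvd_of_surjective π hB.surj)).trans (Subgroup.card_subgroup_dvd_card _)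

/-- The base point of a group of type M(22). -/
theorem base22 (hD : Cfsg.IsThreeTranspositionGroup D) (h : Cfsg.IsOfTypeM22 G D) :
    ∃ (d c : G) (F : Type) (_ : Field F) (_ : Fintype F) (π : Hd D d →* Cfsg.PSU 6 F 2),
      c ∈ D ∧ ¬ Commute d c ∧ IsBase D d π ∧ Fintype.card F = 2 ^ 2 ∧ LineClass (imgSet D d π) ∧
      Nat.card (↥(Subgroup.closure (Dd D d ∩ Dd D c)) ⧸
        Subgroup.center ↥(Subgroup.closure (Dd D d ∩ Dd D c))) ≠ Nat.card (Cfsg.PSU 6 F 2) := by
  obtain ⟨-, d, hd, c, hc, hdc, ⟨F, iF, iF', hF, ⟨e⟩⟩, c₃, -, hL⟩ := h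
  have hF' : Fintype.card F = 2 ^ 2 := hF
  have hB := isBase_of_equiv hD hd e
  refine ⟨d, c, F, iF, iF', _, hc, hdc, hB, hF', ?_, fun heq => not_dvd_card_GL_six ?_⟩
  · exact USix.lineClass hF' hB.img_isThreeTranspositionSet hB.img_conj (hB.exists_img_ne (psu_six_noncomm hF'))
  · exact ((psu_six_dvd hF').trans (dvd_of_eq heq.symm)).trans (card_dvd_of_projRefl hL)

theorem good22 (hD : Cfsg.IsThreeTranspositionGroup D) (h : Cfsg.IsOfTypeM22 G D) : Good G D 5 := by
  obtain ⟨d, c, F, _, _, π, hc, hdc, hB, hF, hE, hL⟩ := base22 hD h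
  have hcls := hB.transitive h.1 (psu_six_center hF) hE.rigid hc hdc hL
  have hNT := hB.noTwins hcls hE.rigid
  refine ⟨⟨hcls, ⟨d, hB.mem, c, hc, hdc⟩, hNT⟩, h.1, (psu_six_dvd hF).trans (dvd_card_of_base hB), fun j hj h2 => ?_⟩
  have h3 := hB.noRel_succ hcls hNT (noRel_two hE.set)
  have h4 := hB.noRel_succ hcls hNT (noRel_three hE)
  have h5 := hB.noRel_succ hcls hNT (noRel_four hE)
  interval_cases j
  exacts [noRel_two hD.1, h3, h4, h5]

omit [Finite G] in
theorem closure_ne_one (p : G → Prop) :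
    Subgroup.closure {y : G | (y ∈ D ∧ y ≠ 1) ∧ p y} = Subgroup.closure {y : G | y ∈ D ∧ p y} := by
  refine le_antisymm (Subgroup.closure_mono fun y hy => ⟨hy.1.1, hy.2⟩) ((Subgroup.closure_le _).2 fun y hy => ?_)
  by_cases h1 : y = 1
  · rw [h1]; exact one_mem _
  · exact Subgroup.subset_closure ⟨⟨hy.1, h1⟩, hy.2⟩

omit [Finite G] in
/-- Type M(22) does not see a trivial member. -/
theorem typeM22_ne_one (h : Cfsg.IsOfTypeM22 G D) : Cfsg.IsOfTypeM22 G {y | y ∈ D ∧ y ≠ 1} := by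
  obtain ⟨hZ, d, hd, c, hc, hdc, ⟨F, iF, iF', hF, hiso⟩, c₃, hc₃, hL⟩ := h
  refine ⟨hZ, d, ⟨hd, fun e => hdc (e ▸ Commute.one_left c)⟩, c, ⟨hc, fun e => hdc (e ▸ Commute.one_right d)⟩,
    hdc, ⟨F, iF, iF', hF, ?_⟩, c₃, hc₃, ?_⟩
  · have key : ∀ (H H' : Subgroup G), H = H' → Nonempty (H' ⧸ Subgroup.center H' ≃* Cfsg.PSU 6 F 2) →
        Nonempty (H ⧸ Subgroup.center H ≃* Cfsg.PSU 6 F 2) := by
      rintro H _ rfl hh; exact hh
    exact key _ _ (closure_ne_one _) hiso
  · have e : Subgroup.closure ({y : G | y ∈ {y | y ∈ D ∧ y ≠ 1} ∧ y ≠ d ∧ Commute d y} ∩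
        {y : G | y ∈ {y | y ∈ D ∧ y ≠ 1} ∧ y ≠ c ∧ Commute c y}) =
        Subgroup.closure ({y : G | y ∈ D ∧ y ≠ d ∧ Commute d y} ∩ {y : G | y ∈ D ∧ y ≠ c ∧ Commute c y}) := by
      refine le_antisymm (Subgroup.closure_mono fun y hy => ⟨⟨hy.1.1.1, hy.1.2⟩, ⟨hy.2.1.1, hy.2.2⟩⟩)
        ((Subgroup.closure_le _).2 fun y hy => ?_)
      by_cases h1 : y = 1
      · rw [h1]; exact one_mem _
      · exact Subgroup.subset_closure ⟨⟨⟨hy.1.1, h1⟩, hy.1.2⟩, ⟨⟨hy.2.1, h1⟩, hy.2.2⟩⟩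
    have key : ∀ (H H' : Subgroup G), H = H' →
        Cfsg.IsProjReflectionGroupModThree (H' ⧸ Subgroup.center H') 6 1 c₃ →
        Cfsg.IsProjReflectionGroupModThree (H ⧸ Subgroup.center H) 6 1 c₃ := by
      rintro H _ rfl hh; exact hh
    exact key _ _ e hL

omit [Finite G] in
theorem img_mk_eq (d : G) :
    imgSet D d (QuotientGroup.mk' (Subgroup.center (Hd D d))) =
      {y | y ∈ (QuotientGroup.mk : Hd D d → Hd D d ⧸ Subgroup.center (Hd D d)) ''
        {x : Hd D d | (x : G) ∈ {y : G | y ∈ D ∧ y ≠ d ∧ Commute d y}} ∧ y ≠ 1} :=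
  Set.ext fun _ => ⟨fun ⟨h1, x, hx, e⟩ => ⟨⟨x, hx, e⟩, h1⟩, fun ⟨⟨x, hx, e⟩, h1⟩ => ⟨h1, x, hx, e⟩⟩

theorem good23 (hD : Cfsg.IsThreeTranspositionGroup D) (h : Cfsg.IsOfTypeM23 G D) : Good G D 6 := by
  obtain ⟨hZ, d, hd, c, hc, hdc, h22, c₃, -, hL⟩ := h
  have hB := isBase_mk hD hd
  have hY := good22 hB.img_group (img_mk_eq (D := D) d ▸ typeM22_ne_one h22)
  have hcls := hB.transitive hZ hY.center hY.rigid hc hdc fun heq => not_dvd_card_GL_seven
    ((hY.dvd.trans (dvd_of_eq heq.symm)).trans (card_dvd_of_projRefl hL))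
  have hNT := hB.noTwins hcls hY.rigid
  refine ⟨⟨hcls, ⟨d, hd, c, hc, hdc⟩, hNT⟩, hZ, hY.dvd.trans (dvd_card_of_base hB), fun j hj h2 => ?_⟩
  have h3 := hB.noRel_succ hcls hNT (hY.rel 2 (by norm_num) le_rfl)
  have h4 := hB.noRel_succ hcls hNT (hY.rel 3 (by norm_num) (by norm_num))
  have h5 := hB.noRel_succ hcls hNT (hY.rel 4 (by norm_num) (by norm_num))
  have h6 := hB.noRel_succ hcls hNT (hY.rel 5 le_rfl (by norm_num))
  interval_cases j
  exacts [noRel_two hD.1, h3, h4, h5, h6]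

/-- Short relations in a group of type M(24), given conjugacy and the absence of twins. -/
theorem rel24 (hD : Cfsg.IsThreeTranspositionGroup D) (h : Cfsg.IsOfTypeM24 G D)
    (hcls : ∀ a ∈ D, ∀ b ∈ D, ∃ g : G, g * a * g⁻¹ = b) (hNT : NoTwins D) :
    ∀ j ≤ 6, 2 ≤ j → NoRel D j := by
  obtain ⟨-, d, hd, c, -, -, h23, -⟩ := h
  have hB := isBase_mk hD hd
  have himg : imgSet D d (QuotientGroup.mk' (Subgroup.center (Hd D d))) =
      (QuotientGroup.mk : Hd D d → Hd D d ⧸ Subgroup.center (Hd D d)) ''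
        {x : Hd D d | (x : G) ∈ {y : G | y ∈ D ∧ y ≠ d ∧ Commute d y}} :=
    Set.ext fun _ => ⟨fun ⟨_, x, hx, e⟩ => ⟨x, hx, e⟩, fun ⟨x, hx, e⟩ => e ▸ hB.img_mem hcls hNT hx⟩
  have hY := good23 hB.img_group (himg ▸ h23)
  intro j hj h2
  have h3 := hB.noRel_succ hcls hNT (hY.rel 2 (by norm_num) le_rfl)
  have h4 := hB.noRel_succ hcls hNT (hY.rel 3 (by norm_num) (by norm_num))
  have h5 := hB.noRel_succ hcls hNT (hY.rel 4 (by norm_num) (by norm_num))
  have h6 := hB.noRel_succ hcls hNT (hY.rel 5 (by norm_num) (by norm_num))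
  interval_cases j
  exacts [noRel_two hD.1, h3, h4, h5, h6]

/-- In a primitive group with two commuting members there are no twins. -/
theorem noTwins_of_primitive (hD : Cfsg.IsThreeTranspositionGroup D) (hprim : Cfsg.IsPrimitiveUnderConj D)
    (hw : ∃ a ∈ D, ∃ b ∈ D, a ≠ b ∧ Commute a b) : NoTwins D := by
  have hC := classTwo_of_primitive hD hprim
  obtain ⟨h2, -⟩ := hC.cores_of_primitive hprim hw
  exact fun a ha b hb h => (hC.vRel_eq_self h2 (⟨ha, hb, fun y hy => (h y hy).symm⟩ : VRel D a b)).symm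

end Types

end CfsgLib.ThreeTrans
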