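import Mathlib
import Cfsg.Agent.Lib.ThreeTrans.FischerTypes

/-! Six mutually commuting members with product one: in a group of type M(22) three distinct commuting members
lie in exactly one such configuration. -/

set_option autoImplicit false

namespace CfsgLib.ThreeTrans

variable {G : Type*} [Group G] {D : Set G}

/-- Conjugation moves the members commuting with one member to those commuting with its conjugate. -/
theorem conj_mem_Dd_conj (hD : ConjClosed D) (g : G) {a y : G} (hy : y ∈ Dd D a) :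
    g * y * g⁻¹ ∈ Dd D (g * a * g⁻¹) :=
  ⟨hD.conj g y hy.1, fun e => hy.2.1 (mul_left_cancel (mul_right_cancel e)), (commute_conj_iff g a y).2 hy.2.2⟩

/-- A list of members commuting with `a`, as elements of the subgroup they generate. -/
theorem exists_lift_list {a : G} (l : List G) (hl : ∀ x ∈ l, x ∈ Dd D a) :
    ∃ l' : List (Hd D a), l'.map (Hd D a).subtype = l := by
  induction l with
  | nil => exact ⟨[], rfl⟩
  | cons x t ih =>
    obtain ⟨t', ht'⟩ := ih fun y hy => hl y (List.mem_cons_of_mem _ hy)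
    exact ⟨⟨x, Subgroup.subset_closure (hl x (by simp))⟩ :: t', by rw [List.map_cons, ht']; rfl⟩

/-- Five members commuting with `a` in one line. -/
structure Line (D : Set G) (a b c e f g : G) : Prop where
  nodup : [b, c, e, f, g].Nodup
  mem : ∀ x ∈ [b, c, e, f, g], x ∈ Dd D a
  comm : ∀ x ∈ [b, c, e, f, g], ∀ y ∈ [b, c, e, f, g], Commute x y
  cen : ∀ y ∈ Dd D a, Commute (b * c * e * f * g) y
  sep : ∀ p ∈ Dd D a, Commute p b → Commute p c →
    (∀ y ∈ Dd D a, Commute y b → Commute y c → Commute p y) → p ∈ [b, c, e, f, g]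

namespace IsBase

variable {d : G} {Y : Type*} [Group Y] {π : Hd D d →* Y} (hB : IsBase D d π)
include hB

/-- Any member can serve as base point. -/
theorem exists_base (hcls : ∀ a ∈ D, ∀ b ∈ D, ∃ g : G, g * a * g⁻¹ = b) {a : G} (ha : a ∈ D) :
    ∃ π' : Hd D a →* Y, IsBase D a π' ∧ imgSet D a π' = imgSet D d π := by
  have hc := conjClosed_of_group hB.group
  obtain ⟨g, hg⟩ := hcls a ha d hB.mem
  have hmap : (Hd D a).map (MulAut.conj g).toMonoidHom = Hd D d := by
    rw [MonoidHom.map_closure]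
    congr 1
    ext y
    constructor
    · rintro ⟨x, hx, rfl⟩
      exact hg ▸ conj_mem_Dd_conj hc g hx
    · intro hy
      have h1 := conj_mem_Dd_conj hc g⁻¹ (hg.symm ▸ hy : y ∈ Dd D (g * a * g⁻¹))
      rw [show g⁻¹ * (g * a * g⁻¹) * g⁻¹⁻¹ = a by group] at h1
      exact ⟨_, h1, by simp [mul_assoc]⟩
  let e : Hd D a ≃* Hd D d := ((MulAut.conj g).subgroupMap (Hd D a)).trans (MulEquiv.subgroupCongr hmap)
  have he : ∀ x : Hd D a, ((e x : Hd D d) : G) = g * x * g⁻¹ := fun x => rfl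
  have hmem : ∀ x : Hd D a, (x : G) ∈ Dd D a ↔ ((e x : Hd D d) : G) ∈ Dd D d := by
    intro x
    rw [he]
    refine ⟨fun h => hg ▸ conj_mem_Dd_conj hc g h, fun h => ?_⟩
    have h1 := conj_mem_Dd_conj hc g⁻¹ (hg.symm ▸ h : g * x * g⁻¹ ∈ Dd D (g * a * g⁻¹))
    rwa [show g⁻¹ * (g * a * g⁻¹) * g⁻¹⁻¹ = a by group,
      show g⁻¹ * (g * (x : G) * g⁻¹) * g⁻¹⁻¹ = x by group] at h1
  refine ⟨π.comp e.toMonoidHom, ⟨hB.group, ha, hB.surj.comp e.surjective, fun x => ?_⟩, ?_⟩
  · show π (e x) = 1 ↔ _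
    rw [hB.ker, Subgroup.mem_center_iff, Subgroup.mem_center_iff]
    constructor
    · intro h w
      exact e.injective (by rw [map_mul, map_mul]; exact h (e w))
    · intro h w
      obtain ⟨w', rfl⟩ := e.surjective w
      rw [← map_mul, ← map_mul, h w']
  · ext y
    constructor
    · rintro ⟨hy, x, hx, rfl⟩
      exact ⟨hy, e x, (hmem x).1 hx, rfl⟩
    · rintro ⟨hy, x, hx, rfl⟩
      refine ⟨hy, e.symm x, ?_, by simp⟩
      rw [hmem, e.apply_symm_apply]
      exact hx

variable [Finite G] (hcls : ∀ a ∈ D, ∀ b ∈ D, ∃ g : G, g * a * g⁻¹ = b) (hNT : NoTwins D)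
  (hE : LineClass (imgSet D d π))
include hcls hNT hE

/-- The members commuting with the base point are conjugate under the subgroup they generate. -/
theorem orbit_eq {b y : G} (hb : b ∈ Dd D d) (hy : y ∈ Dd D d) : ∃ h ∈ Hd D d, h * b * h⁻¹ = y := by
  let b' : Hd D d := ⟨b, Subgroup.subset_closure hb⟩
  let y' : Hd D d := ⟨y, Subgroup.subset_closure hy⟩
  obtain ⟨k, hk⟩ := hE.class_eq (π b') (hB.img_mem hcls hNT (x := b') hb) (π y') (hB.img_mem hcls hNT (x := y') hy)
  obtain ⟨h, rfl⟩ := hB.surj k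
  refine ⟨h, h.2, congrArg Subtype.val (hB.img_injective hcls hNT (x := h * b' * h⁻¹) (y := y')
    (conj_mem_Dd (conjClosed_of_group hB.group) (commute_of_mem_Hd h.2) hb) hy ?_)⟩
  rw [map_mul, map_mul, map_inv, hk]

/-- Five commuting members with central product: what commutes with two of them commutes with all. -/
theorem five_lift {l : List G} (hnd : l.Nodup) (hlen : l.length = 5) (hmem : ∀ x ∈ l, x ∈ Dd D d)
    (hcomm : ∀ x ∈ l, ∀ y ∈ l, Commute x y) (hcen : ∀ y ∈ Dd D d, Commute l.prod y) :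
    ∀ b ∈ l, ∀ c ∈ l, b ≠ c → ∀ e ∈ l, ∀ y ∈ Dd D d, Commute y b → Commute y c → Commute y e := by
  obtain ⟨l', rfl⟩ := exists_lift_list l hmem
  have hm : ∀ x ∈ l', (x : G) ∈ Dd D d := fun x hx => hmem _ (List.mem_map_of_mem hx)
  have hnd' := List.Nodup.of_map _ hnd
  have hinj : ∀ x ∈ l', ∀ y ∈ l', π x = π y → x = y := fun x hx y hy =>
    hB.img_injective hcls hNT (hm x hx) (hm y hy)
  have h5 := hE.five (l'.map π) (hnd'.map_on hinj) (by simpa using hlen) (by
    intro z hz
    obtain ⟨x, hx, rfl⟩ := List.mem_map.1 hz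
    exact hB.img_mem hcls hNT (hm x hx)) (by
    intro z hz w hw
    obtain ⟨x, hx, rfl⟩ := List.mem_map.1 hz
    obtain ⟨y, hy, rfl⟩ := List.mem_map.1 hw
    exact (hB.commute_img (hm x hx) (hm y hy)).2 (hcomm _ (List.mem_map_of_mem hx) _ (List.mem_map_of_mem hy))) (by
    rw [← map_list_prod, hB.map_eq_one_iff']
    intro y hy
    have := hcen y hy
    rwa [← map_list_prod] at this)
  intro b hb c hc hbc e he y hy hyb hyc
  obtain ⟨b', hb', rfl⟩ := List.mem_map.1 hb
  obtain ⟨c', hc', rfl⟩ := List.mem_map.1 hc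
  obtain ⟨e', he', rfl⟩ := List.mem_map.1 he
  let y' : Hd D d := ⟨y, Subgroup.subset_closure hy⟩
  refine (hB.commute_img (x := y') hy (hm e' he')).1 (h5 _ (List.mem_map_of_mem hb') _ (List.mem_map_of_mem hc')
    (fun h => hbc (congrArg Subtype.val (hinj b' hb' c' hc' h))) _ (List.mem_map_of_mem he') _
    (hB.img_mem hcls hNT (x := y') hy) ((hB.commute_img (x := y') hy (hm b' hb')).2 hyb)
    ((hB.commute_img (x := y') hy (hm c' hc')).2 hyc))

/-- The line through two commuting members. -/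
theorem line_lift {b c : G} (hb : b ∈ Dd D d) (hc : c ∈ Dd D d) (hbc : b ≠ c) (cbc : Commute b c) :
    ∃ e f g : G, Line D d b c e f g := by
  let b' : Hd D d := ⟨b, Subgroup.subset_closure hb⟩
  let c' : Hd D d := ⟨c, Subgroup.subset_closure hc⟩
  have hne : π b' ≠ π c' := fun h =>
    hbc (congrArg Subtype.val (hB.img_injective hcls hNT (x := b') (y := c') hb hc h))
  obtain ⟨e₁, f₁, g₁, hnd, hmem, hcomm, hprod, hsep⟩ := hE.line _ (hB.img_mem hcls hNT (x := b') hb) _
    (hB.img_mem hcls hNT (x := c') hc) hne ((hB.commute_img (x := b') (y := c') hb hc).2 cbc)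
  obtain ⟨-, e, he, rfl⟩ := hmem e₁ (by simp)
  obtain ⟨-, f, hf, rfl⟩ := hmem f₁ (by simp)
  obtain ⟨-, g, hg, rfl⟩ := hmem g₁ (by simp)
  have hm : ∀ x ∈ [b', c', e, f, g], (x : G) ∈ Dd D d := by
    simp only [List.mem_cons, List.not_mem_nil, or_false]
    rintro x (rfl | rfl | rfl | rfl | rfl) <;> assumption
  have hmap : [b', c', e, f, g].map (Hd D d).subtype = [b, c, (e : G), (f : G), (g : G)] := rfl
  have hpi : [b', c', e, f, g].map π = [π b', π c', π e, π f, π g] := rfl
  refine ⟨e, f, g, ⟨?_, ?_, ?_, ?_, ?_⟩⟩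
  · rw [← hmap]
    exact (List.Nodup.of_map π (hpi ▸ hnd)).map Subtype.val_injective
  · intro x hx
    rw [← hmap] at hx
    obtain ⟨x', hx', rfl⟩ := List.mem_map.1 hx
    exact hm x' hx'
  · intro x hx y hy
    rw [← hmap] at hx hy
    obtain ⟨x', hx', rfl⟩ := List.mem_map.1 hx
    obtain ⟨y', hy', rfl⟩ := List.mem_map.1 hy
    exact (hB.commute_img (hm x' hx') (hm y' hy')).1
      (hcomm _ (hpi ▸ List.mem_map_of_mem hx') _ (hpi ▸ List.mem_map_of_mem hy'))
  · refine (hB.map_eq_one_iff' (b' * c' * e * f * g)).1 ?_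
    simpa [mul_assoc] using hprod
  · intro p hp hpb hpc hall
    let p' : Hd D d := ⟨p, Subgroup.subset_closure hp⟩
    have h1 := hsep (π p') (hB.img_mem hcls hNT (x := p') hp) ((hB.commute_img (x := p') (y := b') hp hb).2 hpb)
      ((hB.commute_img (x := p') (y := c') hp hc).2 hpc) (by
        rintro _ ⟨-, y, hy, rfl⟩ hyb hyc
        exact (hB.commute_img (x := p') hp hy).2 (hall y hy ((hB.commute_img (y := b') hy hb).1 hyb)
          ((hB.commute_img (y := c') hy hc).1 hyc)))
    rw [← hpi] at h1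
    obtain ⟨x, hx, hxp⟩ := List.mem_map.1 h1
    rw [← hmap]
    refine List.mem_map.2 ⟨x, hx, ?_⟩
    exact congrArg Subtype.val (hB.img_injective hcls hNT (x := x) (y := p') (hm x hx) hp hxp)

/-- Three distinct commuting members lie in six with product one. -/
theorem six_exists (hZ : Subgroup.center G = ⊥) (hconn : (Cfsg.commutingGraph D).Connected)
    {a b c : G} (ha : a ∈ D) (hb : b ∈ D) (hc : c ∈ D) (nab : a ≠ b) (nac : a ≠ c) (nbc : b ≠ c)
    (cab : Commute a b) (cac : Commute a c) (cbc : Commute b c) :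
    ∃ e f g : G, Line D a b c e f g ∧ a * b * c * e * f * g = 1 := by
  have hcc := conjClosed_of_group hB.group
  obtain ⟨πa, hBa, hEa⟩ := hB.exists_base hcls ha
  obtain ⟨πb, hBb, hEb⟩ := hB.exists_base hcls hb
  have hE_a : LineClass (imgSet D a πa) := hEa.symm ▸ hE
  have hE_b : LineClass (imgSet D b πb) := hEb.symm ▸ hE
  obtain ⟨e, f, g, hL⟩ := hBa.line_lift hcls hNT hE_a ⟨hb, Ne.symm nab, cab⟩ ⟨hc, Ne.symm nac, cac⟩ nbc cbc
  obtain ⟨p, q, r, hM⟩ := hBb.line_lift hcls hNT hE_b ⟨ha, nab, cab.symm⟩ ⟨hc, Ne.symm nbc, cbc⟩ nac cac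
  -- the line at `b` consists of the same members
  have hmem : ∀ x ∈ [p, q, r], x ∈ [e, f, g] := by
    intro x hx
    have hx' : x ∈ [a, c, p, q, r] := List.mem_cons_of_mem _ (List.mem_cons_of_mem _ hx)
    have hnd := hM.nodup
    simp only [List.nodup_cons, List.mem_cons, List.not_mem_nil, or_false, not_or] at hnd hx
    have hxa : x ≠ a := by
      rcases hx with rfl | rfl | rfl
      exacts [Ne.symm hnd.1.2.1, Ne.symm hnd.1.2.2.1, Ne.symm hnd.1.2.2.2]
    have hxc : x ≠ c := by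
      rcases hx with rfl | rfl | rfl
      exacts [Ne.symm hnd.2.1.1, Ne.symm hnd.2.1.2.1, Ne.symm hnd.2.1.2.2]
    have hxb := hM.mem x hx'
    have cxa : Commute x a := hM.comm x hx' a (by simp)
    have cxc : Commute x c := hM.comm x hx' c (by simp)
    have hcenl : ∀ y ∈ Dd D b, Commute [a, c, p, q, r].prod y := fun y hy => by
      simpa [mul_assoc] using hM.cen y hy
    have h5 := hBb.five_lift hcls hNT hE_b hM.nodup rfl hM.mem hM.comm hcenl a (by simp) c (by simp) nac x hx'
    have h1 := hL.sep x ⟨hxb.1, hxa, cxa.symm⟩ hxb.2.2.symm cxc (by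
      intro y hy hyb hyc
      by_cases hyb' : y = b
      · rw [hyb']; exact hxb.2.2.symm
      · exact (h5 y ⟨hy.1, hyb', hyb.symm⟩ hy.2.2.symm hyc).symm)
    simp only [List.mem_cons, List.not_mem_nil, or_false] at h1 ⊢
    rcases h1 with h1 | h1 | h1
    · exact absurd h1 hxb.2.1
    · exact absurd h1 hxc
    · exact h1
  have hndp : [p, q, r].Nodup := (List.nodup_cons.1 (List.nodup_cons.1 hM.nodup).2).2
  have hperm : [p, q, r].Perm [e, f, g] :=
    (List.subperm_of_subset hndp hmem).perm_of_length_le le_rfl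
  have hpqr : p * q * r = e * f * g := by
    have := hperm.prod_eq' (List.pairwise_iff_getElem.2 fun i j hi hj _ =>
      hM.comm _ (List.mem_cons_of_mem _ (List.mem_cons_of_mem _ (List.getElem_mem hi)))
        _ (List.mem_cons_of_mem _ (List.mem_cons_of_mem _ (List.getElem_mem hj))))
    simpa [mul_assoc] using this
  refine ⟨e, f, g, hL, ?_⟩
  set w := a * b * c * e * f * g with hw
  have hwa : ∀ y ∈ Dd D a, Commute w y := fun y hy => by
    have h := hy.2.2.mul_left (hL.cen y hy)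
    rwa [show a * (b * c * e * f * g) = w by simp only [hw, mul_assoc]] at h
  have hwb : ∀ y ∈ Dd D b, Commute w y := fun y hy => by
    have h := hy.2.2.mul_left (hM.cen y hy)
    rwa [show b * (a * c * p * q * r) = w by
      rw [hw, cab.eq, show a * c * p * q * r = a * c * (p * q * r) by simp only [mul_assoc], hpqr]
      simp only [mul_assoc]] at h
  have hwa' : Commute w a := hwb a ⟨ha, nab, cab.symm⟩
  have hwb' : Commute w b := hwa b ⟨hb, Ne.symm nab, cab⟩
  -- propagate along the commuting graph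
  let P : G → Prop := fun x => Commute w x ∧ ∀ y ∈ Dd D x, Commute w y
  have hstep : ∀ x ∈ D, P x → (∃ x' ∈ Dd D x, P x') → ∀ y ∈ Dd D x, P y := by
    rintro x hx ⟨-, hPx⟩ ⟨x', hx', hPx'⟩ y hy
    obtain ⟨πx, hBx, hEx⟩ := hB.exists_base hcls hx
    obtain ⟨h, hh, rfl⟩ := hBx.orbit_eq hcls hNT (hEx.symm ▸ hE) hx' hy
    have hhw : Commute w h := by
      have hle : Hd D x ≤ Subgroup.centralizer ({w} : Set G) := (Subgroup.closure_le _).2 fun z hz => by
        rw [SetLike.mem_coe, Subgroup.mem_centralizer_singleton_iff]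
        exact (hPx z hz).eq.symm
      exact (Subgroup.mem_centralizer_singleton_iff.1 (hle hh)).symm
    have hfix : h * w * h⁻¹ = w := by rw [← hhw.eq, mul_inv_cancel_right]
    refine ⟨hfix ▸ (commute_conj_iff h w x').2 hPx'.1, fun z hz => ?_⟩
    have h1 := conj_mem_Dd_conj hcc h⁻¹ hz
    rw [show h⁻¹ * (h * x' * h⁻¹) * h⁻¹⁻¹ = x' by group] at h1
    have h2 := (commute_conj_iff h w _).2 (hPx'.2 _ h1)
    rwa [hfix, show h * (h⁻¹ * z * h⁻¹⁻¹) * h⁻¹ = z by group] at h2
  have hall : ∀ x : D, P x ∧ ∃ x' ∈ Dd D x, P x' := by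
    intro x
    have hreach := hconn.preconnected ⟨a, ha⟩ x
    rw [SimpleGraph.reachable_iff_reflTransGen] at hreach
    induction hreach with
    | refl => exact ⟨⟨hwa', hwa⟩, b, ⟨hb, Ne.symm nab, cab⟩, hwb', hwb⟩
    | @tail u v _ huv ih =>
      obtain ⟨hne, huv⟩ := (SimpleGraph.fromRel_adj _ _ _).1 huv
      have hcm : Commute (u : G) v := huv.elim id Commute.symm
      have hne' : (v : G) ≠ u := fun h => hne (Subtype.ext h.symm)
      exact ⟨hstep u u.2 ih.1 ih.2 v ⟨v.2, hne', hcm⟩, u, ⟨u.2, Ne.symm hne', hcm.symm⟩, ih.1⟩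
  have hwc : w ∈ Subgroup.center G := mem_center_of_commute hB.group.2.2 fun y hy => (hall ⟨y, hy⟩).1.1
  rwa [hZ, Subgroup.mem_bot] at hwc

/-- The six are determined by three of them. -/
theorem six_unique {a b c e f g e' f' g' : G} (hL : Line D a b c e f g) (ha : a ∈ D)
    (hnd : [a, b, c, e', f', g'].Nodup) (hmem : ∀ x ∈ [a, b, c, e', f', g'], x ∈ D)
    (hcomm : ∀ x ∈ [a, b, c, e', f', g'], ∀ y ∈ [a, b, c, e', f', g'], Commute x y)
    (hprod : [a, b, c, e', f', g'].prod = 1) : [e', f', g'].Perm [e, f, g] := by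
  obtain ⟨πa, hBa, hEa⟩ := hB.exists_base hcls ha
  have hnd5 := (List.nodup_cons.1 hnd).2
  have hm5 : ∀ x ∈ [b, c, e', f', g'], x ∈ Dd D a := fun x hx =>
    ⟨hmem x (List.mem_cons_of_mem _ hx), fun h => (List.nodup_cons.1 hnd).1 (h ▸ hx),
      hcomm a (by simp) x (List.mem_cons_of_mem _ hx)⟩
  have h5 := hBa.five_lift hcls hNT (hEa.symm ▸ hE) hnd5 rfl hm5
    (fun x hx y hy => hcomm x (List.mem_cons_of_mem _ hx) y (List.mem_cons_of_mem _ hy)) (by
      intro y hy
      have h : [b, c, e', f', g'].prod = a := by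
        rw [List.prod_cons] at hprod
        rw [← inv_eq hB.group.1 ha]
        exact (inv_eq_of_mul_eq_one_right hprod).symm
      rw [h]; exact hy.2.2)
  have hbc : b ≠ c := fun h => (List.nodup_cons.1 hnd5).1 (h ▸ List.mem_cons_self ..)
  refine (List.subperm_of_subset (List.nodup_cons.1 (List.nodup_cons.1 hnd5).2).2 ?_).perm_of_length_le le_rfl
  intro x hx
  have hx5 : x ∈ [b, c, e', f', g'] := List.mem_cons_of_mem _ (List.mem_cons_of_mem _ hx)
  have h1 := hL.sep x (hm5 x hx5) (hcomm _ (List.mem_cons_of_mem _ hx5) b (by simp))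
    (hcomm _ (List.mem_cons_of_mem _ hx5) c (by simp))
    fun y hy hyb hyc => (h5 b (by simp) c (by simp) hbc x hx5 y hy hyb hyc).symm
  have hxb : x ≠ b := fun h => (List.nodup_cons.1 hnd5).1 (h ▸ List.mem_cons_of_mem _ hx)
  have hxc : x ≠ c := fun h => (List.nodup_cons.1 (List.nodup_cons.1 hnd5).2).1 (h ▸ hx)
  simp only [List.mem_cons, List.not_mem_nil, or_false] at h1 ⊢
  tauto

end IsBase

end CfsgLib.ThreeTrans
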