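import Mathlib
import Cfsg.Agent.S0303
import Cfsg.Agent.Helper57InvolPlusMinus
import Cfsg.Agent.Lib.Orth.CharTwo
import Cfsg.Agent.Lib.ThreeTrans.Tower.UnitaryPerp
import Cfsg.Agent.Lib.AutPSU.Card
import Cfsg.Agent.Lib.AutPSL.FieldGalois

/-! The isometry group of the six dimensional elliptic quadratic space over two elements is the automorphism
group of `PSU(4,2)`. -/

set_option autoImplicit false

namespace CfsgLib.ThreeTrans.MinusSix

open QuadraticMap CfsgLib.Orth

local notation "ι6" => (Fin 2 ⊕ Fin 2) ⊕ Fin 2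
local notation "Q6" => minusQ 2 (ZMod 2) 1 1

theorem aniso : ∀ z₁ z₂ : ZMod 2, z₁ ^ 2 + 1 * z₁ * z₂ + 1 * z₂ ^ 2 = 0 → z₁ = 0 ∧ z₂ = 0 := by decide

theorem card_mulAut_psu_four {F : Type} [Field F] [Fintype F] (hF : Fintype.card F = 2 ^ 2) :
    Nat.card (MulAut (Cfsg.PSU 4 F 2)) = 51840 := by
  have h4 := CfsgLib.ThreeTrans.USix.card_psu_four hF
  haveI : Fact (Nat.Prime 2) := ⟨Nat.prime_two⟩
  have h2' := CfsgLib.FieldGalois.card_ringAut (F := F) (p := 2) (f := 2) hF
  have h' := CfsgLib.AutPSU.card_mulAut (F := F) (q := 2) (m := 2) hF (by norm_num) (by norm_num)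
  change Nat.card (MulAut (Cfsg.PSU 4 F 2)) = _ at h'
  rw [h', show Nat.card (CfsgLib.AutPSU.PSUG (2 + 2) F 2) = 25920 from h4, h2']
  norm_num

/-- The basis vectors are sums of vectors of norm one. -/
theorem single_cases : ∀ i : ι6, Cfsg.quadFormMinus 2 (ZMod 2) 1 1 (Pi.single i 1) ≠ 0 ∨
    Cfsg.quadFormMinus 2 (ZMod 2) 1 1 (Pi.single i 1 + Pi.single (.inr 0) 1) ≠ 0 ∧
      Cfsg.quadFormMinus 2 (ZMod 2) 1 1 (Pi.single (.inr 0) 1) ≠ 0 := by decide

/-- The automorphism group of `PSU(4,2)` is the orthogonal group. -/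
theorem minusSix_equiv_mulAut {F : Type} [Field F] [Fintype F] (hF : Fintype.card F = 2 ^ 2) :
    Nonempty (Cfsg.isometryGroup (ZMod 2) (Cfsg.quadFormMinus 2 (ZMod 2) 1 1) ≃* MulAut (Cfsg.PSU 4 F 2)) := by
  classical
  rw [← minusQ_coe]
  have hQ : (Q6).polarBilin.Nondegenerate := CfsgLib.POmega.minusQ_nondegenerate_any aniso
  have hO : Nat.card (O Q6) = 51840 := by
    have h := CfsgLib.ClassicalGroups.card_isometry_minus aniso 2
    rw [← minusQ_coe] at h
    rw [show Nat.card (O Q6) = _ from h, ZMod.card]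
    decide
  set Ω := commutator (O Q6) with hΩdef
  haveI hn : Ω.Normal := inferInstanceAs (commutator (O Q6)).Normal
  have hi : Ω.index = 2 := index_commutator_char_two hQ
    (Cfsg.Agent.InvolForm57.minus_gen 2 aniso) (by simp)
  have hΩ : Nat.card Ω = 25920 := by
    have h := Ω.card_mul_index
    rw [hi, hO] at h
    omega
  obtain ⟨e⟩ := Cfsg.Agent.S0303.result (K := F) (q := 2) (ZMod.card 2) (by rw [hF]) (1 : ZMod 2) 1 aniso
  rw [← minusQ_coe] at e
  have hz : Subgroup.center Ω = ⊥ := by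
    have h := Subgroup.card_eq_card_quotient_mul_card_subgroup (Subgroup.center Ω)
    rw [hΩ, show Nat.card (Ω ⧸ Subgroup.center Ω) = 25920 from
      (Nat.card_congr e.toEquiv).trans (CfsgLib.ThreeTrans.USix.card_psu_four hF)] at h
    exact Subgroup.card_eq_one.1 (by omega)
  let eΩ : Ω ≃* Cfsg.PSU 4 F 2 :=
    ((QuotientGroup.quotientMulEquivOfEq hz).trans QuotientGroup.quotientBot).symm.trans e
  let φ : O Q6 →* MulAut Ω := MulAut.conjNormal
  have hinj : Function.Injective φ := by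
    refine (injective_iff_map_eq_one φ).2 fun g hg => ?_
    have hgc : ∀ x : Ω, g * x * g⁻¹ = x := fun x => by
      rw [← MulAut.conjNormal_apply, hg]; rfl
    -- commutators with the element commute with the derived group and lie in it
    have hcen : ∀ y : O Q6, g * y * g⁻¹ * y⁻¹ = 1 := by
      intro y
      have hm : g * y * g⁻¹ * y⁻¹ ∈ Ω := Subgroup.commutator_mem_commutator (Subgroup.mem_top g) (Subgroup.mem_top y)
      have hc : ∀ x : Ω, Commute (g * y * g⁻¹ * y⁻¹) (x : O Q6) := by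
        intro x
        have h1 : Commute g (x : O Q6) := mul_inv_eq_iff_eq_mul.1 (hgc x)
        have h2 : Commute (y * g⁻¹ * y⁻¹) (x : O Q6) := by
          have h := mul_inv_eq_iff_eq_mul.1 (hgc ⟨y⁻¹ * x * y⁻¹⁻¹, hn.conj_mem _ x.2 _⟩)
          have h' := (commute_conj_iff y g⁻¹ (y⁻¹ * x * y⁻¹⁻¹)).2 (Commute.inv_left h)
          rwa [show y * (y⁻¹ * (x : O Q6) * y⁻¹⁻¹) * y⁻¹ = x by group] at h'
        rw [show g * y * g⁻¹ * y⁻¹ = g * (y * g⁻¹ * y⁻¹) by group]
        exact h1.mul_left h2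
      have : (⟨_, hm⟩ : Ω) ∈ Subgroup.center Ω := Subgroup.mem_center_iff.2 fun x => Subtype.ext (hc x).eq.symm
      rw [hz, Subgroup.mem_bot] at this
      exact congrArg Subtype.val this
    have hfix : ∀ v, Q6 v ≠ 0 → app g v = v := by
      intro v hv
      have h := hcen (refl Q6 v)
      rw [mul_inv_eq_one, refl_conj] at h
      obtain ⟨x, hx⟩ : ∃ x, polar Q6 x v ≠ 0 := by
        by_contra hc
        push Not at hc
        exact hv (by rw [show v = 0 from hQ.2 v hc, map_zero])
      have e1 := congrArg (fun r => app r x) h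
      simp only [app_refl, sub_right_inj] at e1
      have hv0 : v ≠ 0 := fun e => hv (by rw [e, map_zero])
      have h01 : ∀ c : ZMod 2, c ≠ 0 → c = 1 := by decide
      have hR : (Q6 v)⁻¹ * polar Q6 x v = 1 := by
        rw [h01 _ hv, h01 _ hx, inv_one, one_mul]
      rw [hR, one_smul] at e1
      by_cases hc : (Q6 (app g v))⁻¹ * polar Q6 x (app g v) = 0
      · rw [hc, zero_smul] at e1; exact absurd e1.symm hv0
      · rwa [h01 _ hc, one_smul] at e1
    refine ext_app fun x => ?_
    rw [app_one, pi_eq_sum_univ' x]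
    simp only [map_sum, map_smul]
    refine Finset.sum_congr rfl fun i _ => ?_
    congr 1
    have hs := single_cases i
    rw [← minusQ_coe] at hs
    rcases hs with h | ⟨h, h'⟩
    · exact hfix _ h
    · have := hfix _ h
      rwa [map_add, hfix _ h', add_left_inj] at this
  haveI : Finite (MulAut Ω) := Finite.of_injective (fun f => (f : Ω → Ω)) DFunLike.coe_injective
  exact ⟨(MulEquiv.ofBijective φ ((Nat.bijective_iff_injective_and_card φ).2 ⟨hinj, by
    rw [hO, Nat.card_congr (MulAut.congr eΩ).toEquiv, card_mulAut_psu_four hF]⟩)).trans (MulAut.congr eΩ)⟩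

end CfsgLib.ThreeTrans.MinusSix
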