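import Mathlib
import Cfsg.Agent.Lib.Sporadic.RankThree

/-! Fischer's hypotheses (no solvable normal subgroup, perfect derived subgroup) give primitivity. -/

set_option autoImplicit false

namespace CfsgLib.ThreeTrans.FischerHyp

open CfsgLib.ThreeTrans
open scoped commutatorElement

variable {G : Type*} [Group G] {D : Set G}

theorem commutator_le_products (hD : Cfsg.IsThreeTranspositionClass D) :
    commutator G ≤ Subgroup.closure {z : G | ∃ x ∈ D, ∃ y ∈ D, z = x * y} := by
  have hc := conjClosed_of_class hD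
  set N := Subgroup.closure {z : G | ∃ x ∈ D, ∃ y ∈ D, z = x * y} with hN
  have hn : N.Normal := ⟨fun n hn g => by
    rw [hN] at hn ⊢
    induction hn using Subgroup.closure_induction with
    | mem z hz =>
      obtain ⟨x, hx, y, hy, rfl⟩ := hz
      exact Subgroup.subset_closure ⟨_, hc.conj g x hx, _, hc.conj g y hy, by group⟩
    | one => simp
    | mul a b _ _ iha ihb => simpa [mul_assoc] using mul_mem iha ihb
    | inv a _ ih => simpa [mul_assoc] using inv_mem ih⟩
  have hgen : Subgroup.closure (QuotientGroup.mk' N '' D) = ⊤ := by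
    rw [← MonoidHom.map_closure, hD.2.2,
      Subgroup.map_top_of_surjective _ (QuotientGroup.mk'_surjective N)]
  have hcc := Subgroup.isMulCommutative_closure (k := QuotientGroup.mk' N '' D) (by
    rintro _ ⟨x, hx, rfl⟩ _ ⟨y, hy, rfl⟩
    have : (x : G ⧸ N) = y := by
      rw [QuotientGroup.eq, inv_eq hc.set hx]
      exact Subgroup.subset_closure ⟨x, hx, y, hy, rfl⟩
    simp [this])
  rw [hgen] at hcc
  rw [commutator_def, Subgroup.commutator_le]
  intro g _ k _
  rw [← QuotientGroup.eq_one_iff, ← QuotientGroup.mk'_apply, map_commutatorElement,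
    commutatorElement_eq_one_iff_mul_comm]
  exact congrArg Subtype.val
    (hcc.is_comm.comm ⟨QuotientGroup.mk' N g, Subgroup.mem_top _⟩
      ⟨QuotientGroup.mk' N k, Subgroup.mem_top _⟩)

/-- A perfect derived subgroup dies in a quotient in which the image of the class is braided. -/
theorem map_commutator_eq_bot {Q : Type*} [Group Q] [Finite Q] (hD : Cfsg.IsThreeTranspositionClass D)
    (hperf : ⁅commutator G, commutator G⁆ = commutator G) (f : G →* Q)
    (hB : WidthOne.Braided (f '' D)) : (commutator G).map f = ⊥ := by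
  haveI := Fact.mk Nat.prime_three
  have hle : (commutator G).map f ≤ Subgroup.closure {z : Q | ∃ x ∈ f '' D, ∃ y ∈ f '' D, z = x * y} := by
    refine (Subgroup.map_mono (commutator_le_products hD)).trans ?_
    rw [MonoidHom.map_closure, Subgroup.closure_le]
    rintro _ ⟨_, ⟨x, hx, y, hy, rfl⟩, rfl⟩
    exact Subgroup.subset_closure ⟨f x, ⟨x, hx, rfl⟩, f y, ⟨y, hy, rfl⟩, map_mul f x y⟩
  have hP := (WidthOne.isPGroup_products hB).to_le hle
  haveI := hP.isNilpotent
  by_contra hne
  haveI : Nontrivial ((commutator G).map f) := (Subgroup.nontrivial_iff_ne_bot _).2 hne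
  haveI : Group.IsPerfect ((commutator G).map f) :=
    Subgroup.isPerfect_iff.2 (by rw [← Subgroup.map_commutator, hperf])
  exact Group.IsPerfect.not_isSolvable ((commutator G).map f) inferInstance

theorem setting [Finite G] (hsol : ∀ N : Subgroup G, N.Normal → Group.IsSolvable ↥N → N = ⊥)
    (hperf : ⁅commutator G, commutator G⁆ = commutator G)
    (hD : Cfsg.IsThreeTranspositionClass D) :
    ClassTwo D ∧ Cfsg.IsPrimitiveUnderConj D ∧ ∃ a ∈ D, ∃ b ∈ D, a ≠ b ∧ Commute a b := by
  have hc := conjClosed_of_class hD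
  have hs := hD.1
  obtain ⟨d, hd, hDd⟩ := hD.2.1
  have hnt : ¬ Group.IsSolvable G := by
    intro h
    have := hsol ⊤ inferInstance
      (Group.isSolvable_of_isSolvable_injective (f := Subgroup.subtype (⊤ : Subgroup G))
        Subtype.val_injective)
    exact ne_one hs hd (Subgroup.mem_bot.1 (this ▸ Subgroup.mem_top d))
  have h2' : ∃ a ∈ D, ∃ b ∈ D, a ≠ b := by
    by_contra! h
    apply hnt
    refine Group.isSolvable_of_comm fun x y => ?_
    have hcc := Subgroup.isMulCommutative_closure (k := D) fun u hu v hv => by rw [h u hu v hv]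
    rw [hD.2.2] at hcc
    exact congrArg Subtype.val (hcc.is_comm.comm ⟨x, Subgroup.mem_top _⟩ ⟨y, Subgroup.mem_top _⟩)
  have hC := classTwo_of hD h2'
  have hcore : ∀ p, p.Prime → Cfsg.pCore p G ≤ Subgroup.center G := fun p hp => by
    haveI := Fact.mk hp
    haveI := (CfsgLib.PCore.pCore_isPGroup (p := p) (G := G)).isNilpotent
    rw [hsol (Cfsg.pCore p G) inferInstance inferInstance]
    exact bot_le
  have h2 := hcore 2 Nat.prime_two
  have h3 := hcore 3 Nat.prime_three
  obtain ⟨L, hL⟩ := hC.exists_component h2 h3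
  haveI := hC.component_normal hL
  have hidx : L.index ≤ 2 := by
    refine hC.index_le_two hd fun b hb => ?_
    have hB : WidthOne.Braided (QuotientGroup.mk' L '' D) := by
      refine ⟨?_, ?_, ?_⟩
      · rintro _ ⟨x, hx, rfl⟩
        rw [← map_mul, mul_self hs hx, map_one]
      · rintro _ ⟨x, hx, rfl⟩ _ ⟨y, hy, rfl⟩
        by_cases hxy : Commute x y
        · have : QuotientGroup.mk' L x = QuotientGroup.mk' L y := by
            refine QuotientGroup.eq.2 (hC.mul_mem_of_comm_mem hL hx hy ?_)
            rw [hxy.eq]; simp [mul_assoc]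
          rw [this]
        · simp only [← map_mul]
          rw [braid hs hx hy hxy]
      · rintro _ ⟨x, hx, rfl⟩ _ ⟨y, hy, rfl⟩
        exact ⟨x * y * x, conj_mem_left hc hx hy, by simp⟩
    have h0 := map_commutator_eq_bot hD hperf (QuotientGroup.mk' L) hB
    obtain ⟨g, rfl⟩ := hC.class_eq d hd b hb
    have hm := Subgroup.mem_map_of_mem (QuotientGroup.mk' L)
      (Subgroup.commutator_mem_commutator (Subgroup.mem_top d⁻¹) (Subgroup.mem_top g))
    rw [← commutator_def, h0, Subgroup.mem_bot, QuotientGroup.mk'_apply,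
      QuotientGroup.eq_one_iff, commutatorElement_def] at hm
    simpa [mul_assoc] using hm
  refine ⟨hC, hC.primitive_of_index_le_two h2 h3 hL hidx, ?_⟩
  by_contra! hno
  apply hnt
  have hB : WidthOne.Braided (MonoidHom.id G '' D) := by
    rw [show (MonoidHom.id G '' D) = D from Set.image_id D]
    exact ⟨fun x hx => mul_self hs hx, fun x hx y hy => by
      rcases eq_or_ne x y with rfl | hne
      · rfl
      · exact braid hs hx hy (hno x hx y hy hne), fun x hx y hy => conj_mem_left hc hx hy⟩
  have h0 := map_commutator_eq_bot hD hperf (MonoidHom.id G) hB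
  rw [Subgroup.map_id] at h0
  exact Group.isSolvable_of_comm fun x y => by
    have := Subgroup.commutator_mem_commutator (Subgroup.mem_top x) (Subgroup.mem_top y)
    rwa [← commutator_def, h0, Subgroup.mem_bot, commutatorElement_eq_one_iff_mul_comm] at this

/-- The other members commuting with `x` form one class of the subgroup they generate. -/
theorem perp_class [Finite G] (hC : ClassTwo D) (hprim : Cfsg.IsPrimitiveUnderConj D)
    (hw : ∃ a ∈ D, ∃ b ∈ D, a ≠ b ∧ Commute a b) {x : G} (hx : x ∈ D) :
    ∀ y ∈ {y : G | y ∈ D ∧ y ≠ x ∧ Commute x y}, ∀ y' ∈ {y : G | y ∈ D ∧ y ≠ x ∧ Commute x y},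
      ∃ g ∈ Subgroup.closure {y : G | y ∈ D ∧ y ≠ x ∧ Commute x y}, g * y * g⁻¹ = y' := by
  obtain ⟨p, -, -, hP, hPP⟩ := CfsgLib.Sporadic.RankThree.exists_full_orbit hC hprim hw hx
  intro y hy y' hy'
  rw [hP] at hPP
  obtain ⟨h, hh, e⟩ := hPP hy
  obtain ⟨k, hk, e'⟩ := hPP hy'
  exact ⟨k * h⁻¹, mul_mem hk (inv_mem hh), by rw [e, e']; group⟩

end CfsgLib.ThreeTrans.FischerHyp
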