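import Cfsg.Agent.Lib.ThreeTrans.SymFive
import Cfsg.Agent.Lib.ThreeTrans.Cores

/-! Sets of 3-transpositions in which each member commutes with three others forming a class of `Perm (Fin 3)`. -/

namespace CfsgLib.ThreeTrans.LocalSymThree

open CfsgLib.ThreeTrans

variable {G : Type*} [Group G] {D : Set G}

/-- The other members commuting with `d`. -/
def nbr (D : Set G) (d : G) : Set G := {y | y ∈ D ∧ y ≠ d ∧ Commute d y}

theorem nbr_symm {d e : G} (hd : d ∈ D) (h : e ∈ nbr D d) : d ∈ nbr D e :=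
  ⟨hd, Ne.symm h.2.1, h.2.2.symm⟩

/-- The local hypothesis, in the form used. -/
structure Local (D : Set G) : Prop extends ConjClosed D where
  pair : ∀ d ∈ D, ∃ e ∈ nbr D d, ∃ f ∈ nbr D d, e ≠ f
  noncomm : ∀ d ∈ D, ∀ e ∈ nbr D d, ∀ f ∈ nbr D d, e ≠ f → ¬ Commute e f
  only : ∀ d ∈ D, ∀ e ∈ nbr D d, ∀ f ∈ nbr D d, e ≠ f → ∀ g ∈ nbr D d, g = e ∨ g = f ∨ g = e * f * e
  core : ∀ d ∈ D, Nat.card (Cfsg.pCore 3 ↥(Subgroup.centralizer ({d} : Set G))) = 3

theorem perm_three : ∀ σ τ : Equiv.Perm (Fin 3), σ * σ = 1 → τ * τ = 1 → σ ≠ 1 → τ ≠ 1 → σ ≠ τ →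
    σ * τ ≠ τ * σ ∧ ∀ υ : Equiv.Perm (Fin 3), υ * υ = 1 → υ ≠ 1 → υ = σ ∨ υ = τ ∨ υ = σ * τ * σ := by
  decide +kernel

theorem local_of (hD : Cfsg.IsThreeTranspositionSet D) (hconj : ∀ g : G, ∀ d ∈ D, g * d * g⁻¹ ∈ D)
    (hloc : ∀ d ∈ D, Nonempty (↥(Subgroup.closure (nbr D d)) ≃* Equiv.Perm (Fin 3)) ∧
      Nat.card (Cfsg.pCore 3 ↥(Subgroup.centralizer ({d} : Set G))) = 3) : Local D := by
  have key : ∀ d ∈ D, ∀ e ∈ nbr D d, ∀ f ∈ nbr D d, e ≠ f →
      ¬ Commute e f ∧ ∀ g ∈ nbr D d, g = e ∨ g = f ∨ g = e * f * e := by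
    intro d hd e he f hf hef
    obtain ⟨φ⟩ := (hloc d hd).1
    set K := Subgroup.closure (nbr D d)
    have mem : ∀ x ∈ nbr D d, x ∈ K := fun x hx => Subgroup.subset_closure hx
    have inv : ∀ x (hx : x ∈ nbr D d), φ ⟨x, mem x hx⟩ * φ ⟨x, mem x hx⟩ = 1 ∧ φ ⟨x, mem x hx⟩ ≠ 1 := by
      intro x hx
      refine ⟨?_, fun h => ne_one hD hx.1 ?_⟩
      · rw [← map_mul, ← map_one φ]
        exact congrArg φ (Subtype.ext (mul_self hD hx.1))
      · rw [← map_one φ] at h
        exact congrArg Subtype.val (φ.injective h)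
    obtain ⟨h1, h2⟩ := inv e he
    obtain ⟨h3, h4⟩ := inv f hf
    obtain ⟨h5, h6⟩ := perm_three _ _ h1 h3 h2 h4 fun h => hef (congrArg Subtype.val (φ.injective h))
    refine ⟨fun h => h5 ?_, fun g hg => ?_⟩
    · rw [← map_mul, ← map_mul]
      exact congrArg φ (Subtype.ext h.eq)
    · rw [← map_mul, ← map_mul] at h6
      rcases h6 _ (inv g hg).1 (inv g hg).2 with h | h | h
      · exact Or.inl (congrArg Subtype.val (φ.injective h))
      · exact Or.inr (Or.inl (congrArg Subtype.val (φ.injective h)))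
      · exact Or.inr (Or.inr (congrArg Subtype.val (φ.injective h)))
  refine ⟨⟨hD, hconj⟩, fun d hd => ?_, fun d hd e he f hf hef => (key d hd e he f hf hef).1,
    fun d hd e he f hf hef => (key d hd e he f hf hef).2, fun d hd => (hloc d hd).2⟩
  by_contra h
  push Not at h
  obtain ⟨φ⟩ := (hloc d hd).1
  have hcomm : ∀ x y : ↥(Subgroup.closure (nbr D d)), x * y = y * x := by
    have hle : Subgroup.closure (nbr D d) ≤ Subgroup.centralizer (Subgroup.closure (nbr D d) : Set G) := by
      rw [Subgroup.centralizer_closure, Subgroup.closure_le]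
      intro x hx
      rw [SetLike.mem_coe, Subgroup.mem_centralizer_iff]
      intro y hy
      rw [h x hx y hy]
    intro x y
    exact Subtype.ext ((Subgroup.mem_centralizer_iff.mp (hle y.2)) x x.2)
  have h1 := congrArg φ (hcomm (φ.symm (Equiv.swap 0 1)) (φ.symm (Equiv.swap 1 2)))
  simp only [map_mul, MulEquiv.apply_symm_apply] at h1
  exact absurd h1 (by decide)

section
variable (L : Local D)
include L

theorem mem_of_mem_nbr {d e f : G} (hd : d ∈ D) (he : e ∈ nbr D d) (hf : f ∈ nbr D d) (hef : e ≠ f) :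
    e * f * e ∈ nbr D d := by
  refine ⟨conj_mem_left L.toConjClosed he.1 hf.1, fun h => ?_, (he.2.2.mul_right hf.2.2).mul_right he.2.2⟩
  refine hf.2.1 ?_
  calc f = e * (e * f * e) * e := by
        simp only [mul_assoc, mul_self L.set he.1, mul_self_mul L.set he.1, mul_one]
    _ = e * d * e := by rw [h]
    _ = d := by rw [← he.2.2.eq, mul_assoc, mul_self L.set he.1, mul_one]

theorem nbr_eq {d x e f : G} (hd : d ∈ D) (hx : x ∈ D) (he : e ∈ nbr D d) (hf : f ∈ nbr D d)
    (he' : e ∈ nbr D x) (hf' : f ∈ nbr D x) (hef : e ≠ f) : nbr D d = nbr D x := by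
  ext g
  constructor
  · intro hg
    rcases L.only d hd e he f hf hef g hg with rfl | rfl | rfl
    exacts [he', hf', mem_of_mem_nbr L hx he' hf' hef]
  · intro hg
    rcases L.only x hx e he' f hf' hef g hg with rfl | rfl | rfl
    exacts [he, hf, mem_of_mem_nbr L hd he hf hef]

/-- A member centralising a product of two neighbours centralises both. -/
theorem commute_of_commute_mul {d e f w : G} (hd : d ∈ D) (he : e ∈ nbr D d) (hf : f ∈ nbr D d)
    (hef : e ≠ f) (hw : w ∈ D) (hc : Commute w (e * f)) : Commute w e := by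
  by_contra hne
  have hb := braid L.set he.1 hw fun h => hne h.symm
  have he2 := mul_self_mul L.set he.1
  have hw2 := mul_self_mul L.set hw
  have hne' := L.noncomm d hd e he f hf hef
  set ρ := e * f with hρ
  have hwρ : w * ρ * w = ρ := by rw [hc.eq, mul_assoc, mul_self L.set hw, mul_one]
  have heρ : e * ρ * e = ρ⁻¹ := by
    rw [hρ, mul_inv_rev, inv_eq L.set he.1, inv_eq L.set hf.1, ← mul_assoc, mul_self L.set he.1, one_mul]
  have heρ' : e * ρ⁻¹ * e = ρ := by rw [← heρ]; simp only [mul_assoc, mul_self L.set he.1, he2, mul_one]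
  have hwρ' : w * ρ⁻¹ * w = ρ⁻¹ := by
    have := congrArg (·⁻¹) hwρ
    simpa only [mul_inv_rev, inv_eq L.set hw, mul_assoc] using this
  have h1 : (e * w * e) * ρ * (e * w * e) = ρ := by
    rw [show (e * w * e) * ρ * (e * w * e) = e * (w * (e * ρ * e) * w) * e by simp only [mul_assoc],
      heρ, hwρ', heρ']
  have h2 : (w * e * w) * ρ * (w * e * w) = ρ⁻¹ := by
    rw [show (w * e * w) * ρ * (w * e * w) = w * (e * (w * ρ * w) * e) * w by simp only [mul_assoc],
      hwρ, heρ, hwρ']
  rw [hb, h2, hρ, mul_inv_rev, inv_eq L.set he.1, inv_eq L.set hf.1] at h1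
  exact hne' h1.symm

theorem commute_both_of_commute_mul {d e f w : G} (hd : d ∈ D) (he : e ∈ nbr D d) (hf : f ∈ nbr D d)
    (hef : e ≠ f) (hw : w ∈ D) (hc : Commute w (e * f)) : Commute w e ∧ Commute w f := by
  refine ⟨commute_of_commute_mul L hd he hf hef hw hc, commute_of_commute_mul L hd hf he hef.symm hw ?_⟩
  have := hc.inv_right
  rwa [mul_inv_rev, inv_eq L.set he.1, inv_eq L.set hf.1] at this

/-- A member outside two commuting ones gives a neighbour. -/
theorem far_mem_nbr {d e z : G} (hd : d ∈ D) (he : e ∈ nbr D d) (hz : z ∈ D) (hzd : ¬ Commute d z)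
    (hze : ¬ Commute e z) : d * e * z * (d * e) ∈ nbr D z := by
  have hab := braid L.set hd hz hzd
  have hbc := braid L.set hz he.1 fun h => hze h.symm
  set φ := SymFour.symFourHom (mul_self L.set hd) (mul_self L.set hz) (mul_self L.set he.1) hab hbc he.2.2
  have hinj : Function.Injective φ := SymFour.symFourHom_injective (mul_self L.set hd) (mul_self L.set hz)
    (mul_self L.set he.1) hab hbc he.2.2 (Ne.symm he.2.1) (fun h => hzd (h ▸ Commute.refl _))
  have g0 : φ (SymFour.genPerm 0) = d := SymFour.symFourHom_gen _ _ _ _ _ _ 0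
  have g1 : φ (SymFour.genPerm 1) = z := SymFour.symFourHom_gen _ _ _ _ _ _ 1
  have g2 : φ (SymFour.genPerm 2) = e := SymFour.symFourHom_gen _ _ _ _ _ _ 2
  have hmap : d * e * z * (d * e) = φ (SymFour.genPerm 0 * SymFour.genPerm 2 * SymFour.genPerm 1 *
      (SymFour.genPerm 0 * SymFour.genPerm 2)) := by
    simp only [map_mul, g0, g1, g2]
  refine ⟨?_, ?_, ?_⟩
  · have h := L.conj (d * e) z hz
    rwa [mul_inv_rev, inv_eq L.set hd, inv_eq L.set he.1, ← he.2.2.eq] at h
  · rw [hmap, ← g1]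
    exact fun h => absurd (hinj h) (by decide +kernel)
  · rw [hmap, ← g1]
    show φ _ * φ _ = φ _ * φ _
    rw [← map_mul, ← map_mul]
    exact congrArg φ (by decide +kernel)

theorem far_ne {d e f z : G} (hd : d ∈ D) (he : e ∈ nbr D d) (hf : f ∈ nbr D d) (hef : e ≠ f)
    (hz : z ∈ D) (hze : ¬ Commute e z) : d * e * z * (d * e) ≠ d * f * z * (d * f) := by
  intro h
  set y := d * z * d with hy
  have hyD : y ∈ D := conj_mem_left L.toConjClosed hd hz
  have conj : ∀ g ∈ nbr D d, d * g * z * (d * g) = g * y * g := by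
    intro g hg
    rw [hy, hg.2.2.eq, show g * (d * z * d) * g = g * d * z * (d * g) by simp only [mul_assoc], hg.2.2.eq]
  rw [conj e he, conj f hf] at h
  have hc : Commute y (e * f) := by
    show y * (e * f) = e * f * y
    calc y * (e * f) = e * (e * y * e) * f := by simp only [mul_assoc, mul_self_mul L.set he.1]
      _ = e * (f * y * f) * f := by rw [h]
      _ = e * f * y := by simp only [mul_assoc, mul_self L.set hf.1, mul_one]
  have h2 := (commute_both_of_commute_mul L hd he hf hef hyD hc).1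
  refine hze ?_
  have hdy : d * y * d = z := by
    rw [hy]; simp only [mul_assoc, mul_self L.set hd, mul_self_mul L.set hd, mul_one]
  rw [← hdy]
  exact (he.2.2.symm.mul_right h2.symm).mul_right he.2.2.symm

theorem nbr_third {d e f : G} (hd : d ∈ D) (he : e ∈ nbr D d) (hf : f ∈ nbr D d) (hef : e ≠ f) :
    e * f * e ≠ e ∧ e * f * e ≠ f := by
  constructor
  · intro h
    have h1 : f = e := by
      calc f = e * (e * f * e) * e := by
            simp only [mul_assoc, mul_self L.set he.1, mul_self_mul L.set he.1, mul_one]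
        _ = e := by rw [h, mul_self L.set he.1, one_mul]
    exact hef h1.symm
  · intro h
    refine L.noncomm d hd e he f hf hef ?_
    show e * f = f * e
    calc e * f = e * f * e * e := by simp only [mul_assoc, mul_self L.set he.1, mul_one]
      _ = f * e := by rw [h]

theorem exists_far_eq {d z : G} (hd : d ∈ D) (hz : z ∈ D) (hzd : ¬ Commute d z)
    (hzE : ∀ e ∈ nbr D d, ¬ Commute e z) {w : G} (hw : w ∈ nbr D z) :
    ∃ e ∈ nbr D d, w = d * e * z * (d * e) := by
  obtain ⟨e, he, f, hf, hef⟩ := L.pair d hd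
  have hg := mem_of_mem_nbr L hd he hf hef
  obtain ⟨hge, hgf⟩ := nbr_third L hd he hf hef
  have P : ∀ x ∈ nbr D d, d * x * z * (d * x) ∈ nbr D z := fun x hx =>
    far_mem_nbr L hd hx hz hzd (hzE x hx)
  have hpq := far_ne L hd he hf hef hz (hzE e he)
  have hrp := far_ne L hd hg he hge hz (hzE _ hg)
  have hrq := far_ne L hd hg hf hgf hz (hzE _ hg)
  have hr : d * (e * f * e) * z * (d * (e * f * e)) =
      d * e * z * (d * e) * (d * f * z * (d * f)) * (d * e * z * (d * e)) :=
    ((L.only z hz _ (P e he) _ (P f hf) hpq _ (P _ hg)).resolve_left hrp).resolve_left hrq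
  rcases L.only z hz _ (P e he) _ (P f hf) hpq w hw with h | h | h
  · exact ⟨e, he, h⟩
  · exact ⟨f, hf, h⟩
  · exact ⟨_, hg, h.trans hr.symm⟩

theorem mul_mul_mul_self {e f : G} (he : e ∈ D) (hf : f ∈ D) (h : ¬ Commute e f) :
    e * f * (e * f) = f * e := by
  calc e * f * (e * f) = e * f * e * f := by simp only [mul_assoc]
    _ = f * e * f * f := by rw [braid L.set he hf h]
    _ = f * e := by simp only [mul_assoc, mul_self L.set hf, mul_one]

theorem pair_mul {d e f a b : G} (hd : d ∈ D) (he : e ∈ nbr D d) (hf : f ∈ nbr D d) (hef : e ≠ f)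
    (ha : a ∈ nbr D d) (hb : b ∈ nbr D d) : a * b = 1 ∨ a * b = e * f ∨ a * b = f * e := by
  have hnc := L.noncomm d hd e he f hf hef
  have he2 := mul_self_mul L.set he.1
  have hee := mul_self L.set he.1
  have hff := mul_self L.set hf.1
  rcases L.only d hd e he f hf hef a ha with h | h | h <;>
    rcases L.only d hd e he f hf hef b hb with h' | h' | h' <;> rw [h, h']
  · exact Or.inl hee
  · exact Or.inr (Or.inl rfl)
  · exact Or.inr (Or.inr (by simp only [mul_assoc, he2]))
  · exact Or.inr (Or.inr rfl)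
  · exact Or.inl hff
  · refine Or.inr (Or.inl ?_)
    calc f * (e * f * e) = f * e * (f * e) := by simp only [mul_assoc]
      _ = e * f := mul_mul_mul_self L hf.1 he.1 fun h => hnc h.symm
  · exact Or.inr (Or.inl (by simp only [mul_assoc, hee, mul_one]))
  · refine Or.inr (Or.inr ?_)
    calc e * f * e * f = e * f * (e * f) := by simp only [mul_assoc]
      _ = f * e := mul_mul_mul_self L he.1 hf.1 hnc
  · exact Or.inl (by simp only [mul_assoc, he2, mul_self_mul L.set hf.1, hee])

theorem core_cases [Finite G] {d e f u : G} (hd : d ∈ D) (he : e ∈ nbr D d) (hf : f ∈ nbr D d)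
    (hef : e ≠ f) (hu : u ∈ Cfsg.pCore 3 G) (hud : Commute d u) : u = 1 ∨ u = e * f ∨ u = f * e := by
  classical
  have : Fact (Nat.Prime 3) := ⟨Nat.prime_three⟩
  set C := Subgroup.centralizer ({d} : Set G) with hC
  have hnc := L.noncomm d hd e he f hf hef
  have hmem : e * f ∈ C := by
    rw [hC, Subgroup.mem_centralizer_singleton_iff]
    exact (he.2.2.mul_right hf.2.2).symm.eq
  set r : C := ⟨e * f, hmem⟩ with hr
  have hord : orderOf r = 3 := by
    rw [← orderOf_submonoid (H := C.toSubmonoid)]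
    exact orderOf_mul_of_not_commute L.set he.1 hf.1 hnc
  have hK : Nat.card (Subgroup.zpowers r) = 3 := by rw [Nat.card_zpowers, hord]
  have hrinv : (r⁻¹ : C) = ⟨f * e, by
      rw [hC, Subgroup.mem_centralizer_singleton_iff]
      exact (hf.2.2.mul_right he.2.2).symm.eq⟩ :=
    Subtype.ext (show (e * f)⁻¹ = f * e by rw [mul_inv_rev, inv_eq L.set he.1, inv_eq L.set hf.1])
  have hnorm : (Subgroup.zpowers r).Normal := by
    refine ⟨fun x hx g => ?_⟩
    obtain ⟨n, rfl⟩ := Subgroup.mem_zpowers_iff.mp hx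
    rw [← conj_zpow]
    refine zpow_mem ?_ n
    have hgd : Commute (g : G) d := Subgroup.mem_centralizer_singleton_iff.mp g.2
    have cj : ∀ x ∈ nbr D d, (g : G) * x * (g : G)⁻¹ ∈ nbr D d := by
      intro x hx
      have hgd' : (g : G) * d * (g : G)⁻¹ = d := by rw [hgd.eq, mul_inv_cancel_right]
      refine ⟨L.conj _ x hx.1, fun h => hx.2.1 ?_, ?_⟩
      · exact mul_left_cancel (mul_right_cancel (h.trans hgd'.symm))
      · have := (Commute.conj_iff (g : G)).2 hx.2.2
        rwa [hgd'] at this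
    rcases pair_mul L hd he hf hef (cj e he) (cj f hf) with h | h | h
    · have : g * r * g⁻¹ = 1 := Subtype.ext (show (g : G) * (e * f) * (g : G)⁻¹ = 1 from
        (show (g : G) * (e * f) * (g : G)⁻¹ = (g : G) * e * (g : G)⁻¹ * ((g : G) * f * (g : G)⁻¹) by group).trans h)
      rw [this]; exact one_mem _
    · have : g * r * g⁻¹ = r := Subtype.ext (show (g : G) * (e * f) * (g : G)⁻¹ = e * f from
        (show (g : G) * (e * f) * (g : G)⁻¹ = (g : G) * e * (g : G)⁻¹ * ((g : G) * f * (g : G)⁻¹) by group).trans h)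
      rw [this]; exact Subgroup.mem_zpowers _
    · have : g * r * g⁻¹ = r⁻¹ := by
        rw [hrinv]
        exact Subtype.ext (show (g : G) * (e * f) * (g : G)⁻¹ = f * e from
        (show (g : G) * (e * f) * (g : G)⁻¹ = (g : G) * e * (g : G)⁻¹ * ((g : G) * f * (g : G)⁻¹) by group).trans h)
      rw [this]; exact inv_mem (Subgroup.mem_zpowers _)
  have hle : Subgroup.zpowers r ≤ Cfsg.pCore 3 C :=
    CfsgLib.PCore.le_pCore hnorm (IsPGroup.of_card (n := 1) (by rw [hK, pow_one]))
  have heq : Cfsg.pCore 3 C = Subgroup.zpowers r :=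
    (Subgroup.eq_of_le_of_card_ge hle (by rw [hK]; exact le_of_eq (L.core d hd))).symm
  have huC : u ∈ C := by rw [hC, Subgroup.mem_centralizer_singleton_iff]; exact hud.symm.eq
  have hin : (⟨u, huC⟩ : C) ∈ Cfsg.pCore 3 C := by
    have h1 : (Cfsg.pCore 3 G).subgroupOf C ≤ Cfsg.pCore 3 C := CfsgLib.PCore.pCore_subgroupOf_le C
    exact h1 hu
  rw [heq, mem_zpowers_iff_mem_range_orderOf, hord] at hin
  simp only [Finset.mem_image, Finset.mem_range] at hin
  obtain ⟨n, hn, hnu⟩ := hin
  have hu' := congrArg Subtype.val hnu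
  simp only [SubmonoidClass.coe_pow, hr] at hu'
  interval_cases n
  · exact Or.inl (by rw [← hu', pow_zero])
  · exact Or.inr (Or.inl (by rw [← hu', pow_one]))
  · exact Or.inr (Or.inr (by rw [← hu', pow_two, mul_mul_mul_self L he.1 hf.1 hnc]))

/-- Case A: no member lies far from a pair of points with a common neighbourhood. -/
theorem no_far_of_square [Finite G] {d x : G} (hd : d ∈ D) (hx : x ∈ D) (hdx : d ≠ x)
    (hE : nbr D d = nbr D x) {z : G} (hz : z ∈ D) (hzd : ¬ Commute d z) (hzx : ¬ Commute x z)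
    (hzE : ∀ e ∈ nbr D d, ¬ Commute e z) : False := by
  obtain ⟨e, he, f, hf, hef⟩ := L.pair d hd
  have hex : e ∈ nbr D x := hE ▸ he
  obtain ⟨h, hh, heq⟩ := exists_far_eq L hd hz hzd hzE (far_mem_nbr L hx hex hz hzx (hzE e he))
  have hhx : h ∈ nbr D x := hE ▸ hh
  have hdd := mul_self L.set hd
  have hxx := mul_self L.set hx
  have he2 := mul_self L.set he.1
  have hh2 := mul_self L.set hh.1
  have hxd : ¬ Commute x d := by
    intro hc
    have hxE : x ∈ nbr D d := ⟨hx, hdx.symm, hc.symm⟩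
    rw [hE] at hxE
    exact hxE.2.1 rfl
  set t := d * x with ht
  set r := h * e with hr
  have hsplit : (d * h) * (x * e) = t * r := by
    rw [ht, hr, mul_assoc d x, ← mul_assoc x h, hhx.2.2.eq]
    simp only [mul_assoc]
  have hγ : Commute z (t * r) := by
    rw [← hsplit]
    show z * ((d * h) * (x * e)) = (d * h) * (x * e) * z
    calc z * ((d * h) * (x * e)) = (d * h) * ((d * h) * z * (d * h)) * (x * e) := by
          have : d * h * (d * h) = 1 := by
            rw [show d * h * (d * h) = d * (h * d) * h by simp only [mul_assoc], ← hh.2.2.eq]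
            simp only [mul_assoc, mul_self_mul L.set hd, hh2]
          simp only [← mul_assoc] at this ⊢
          rw [this, one_mul]
      _ = (d * h) * ((x * e) * z * (x * e)) * (x * e) := by rw [heq]
      _ = (d * h) * (x * e) * z := by
          have : x * e * (x * e) = 1 := by
            rw [show x * e * (x * e) = x * (e * x) * e by simp only [mul_assoc], ← hex.2.2.eq]
            simp only [mul_assoc, mul_self_mul L.set hx, he2]
          rw [mul_assoc (d * h), mul_assoc ((x * e) * z), this, mul_one]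
          simp only [mul_assoc]
  by_cases hhe : h = e
  · rw [hr, hhe, he2, mul_one, ht] at hγ
    exact hzd (commute_both_of_commute_mul L he.1 (nbr_symm hd he) (nbr_symm hx hex) hdx hz hγ).1.symm
  have hW : t ∈ Cfsg.pCore 3 G := WRel.mul_mem_pCore L.toConjClosed ⟨hd, hx, hE⟩
  have hR : r ∈ Cfsg.pCore 3 G := by
    refine WRel.mul_mem_pCore L.toConjClosed ⟨hh.1, he.1, ?_⟩
    exact nbr_eq L hh.1 he.1 (nbr_symm hd hh) (nbr_symm hx hhx) (nbr_symm hd he) (nbr_symm hx hex) hdx
  have het : Commute e t := he.2.2.symm.mul_right hex.2.2.symm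
  have hdr : Commute d r := hh.2.2.mul_right he.2.2
  have hxr : Commute x r := hhx.2.2.mul_right hex.2.2
  have hrinv : r⁻¹ = e * h := by rw [hr, mul_inv_rev, inv_eq L.set he.1, inv_eq L.set hh.1]
  have here : e * r * e = r⁻¹ := by
    rw [hrinv, hr, mul_assoc, mul_assoc h e, he2, mul_one]
  have hcomm : Commute t r := hdr.mul_left hxr
  have hdtd : d * t * d = t⁻¹ := by
    rw [ht, mul_inv_rev, inv_eq L.set hd, inv_eq L.set hx, ← mul_assoc, hdd, one_mul]
  set γ := t * r with hγdef
  set γ' := t⁻¹ * r with hγ'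
  have hdγ : d * γ * d = γ' := by
    rw [hγdef, hγ', ← hdtd, mul_assoc (d * t), hdr.eq]
    simp only [mul_assoc]
  have heγ : e * γ * e = γ'⁻¹ := by
    rw [hγdef, hγ', mul_inv_rev, inv_inv, show e * (t * r) * e = e * t * (r * e) by simp only [mul_assoc],
      het.eq, show t * e * (r * e) = t * (e * r * e) by simp only [mul_assoc], here, hcomm.inv_right.eq]
  have hzd' := braid L.set hd hz hzd
  have hze' := braid L.set he.1 hz (hzE e he)
  have hzz := mul_self L.set hz
  have hzγ : z * γ * z = γ := by rw [hγ.eq, mul_assoc, hzz, mul_one]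
  have hzγi : z * γ⁻¹ * z = γ⁻¹ := by
    rw [hγ.inv_right.eq, mul_assoc, hzz, mul_one]
  set u := z * γ' * z with hu
  have hdu : d * u * d = u := by
    calc d * u * d = (d * z * d) * γ * (d * z * d) := by rw [hu, ← hdγ]; simp only [mul_assoc]
      _ = z * (d * (z * γ * z) * d) * z := by rw [hzd']; simp only [mul_assoc]
      _ = u := by rw [hzγ, hdγ, hu]
  have heγ' : e * γ⁻¹ * e = γ' := by
    rw [← inv_inv γ', ← heγ]
    simp only [mul_inv_rev, inv_eq L.set he.1, mul_assoc]
  have heu : e * u * e = u := by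
    calc e * u * e = (e * z * e) * γ⁻¹ * (e * z * e) := by rw [hu, ← heγ']; simp only [mul_assoc]
      _ = z * (e * (z * γ⁻¹ * z) * e) * z := by rw [hze']; simp only [mul_assoc]
      _ = u := by rw [hzγi, heγ', hu]
  have huN : u ∈ Cfsg.pCore 3 G := by
    have : (Cfsg.pCore 3 G).Normal := inferInstance
    have := this.conj_mem _ (mul_mem (inv_mem hW) hR) z
    rwa [inv_eq L.set hz] at this
  have hud : Commute d u := by
    show d * u = u * d
    calc d * u = d * u * d * d := by simp only [mul_assoc, hdd, mul_one]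
      _ = u * d := by rw [hdu]
  have hne2 := L.noncomm d hd h hh e he hhe
  have hu1 : u = 1 := by
    rcases core_cases L hd hh he hhe huN hud with h1 | h1 | h1
    · exact h1
    · exfalso
      rw [h1, ← hr, here, hrinv, hr] at heu
      exact hne2 heu.symm
    · exfalso
      rw [h1, ← mul_assoc e e h, he2, one_mul] at heu
      exact hne2 heu
  have hγ1 : γ' = 1 := by
    calc γ' = z * u * z := by rw [hu]; simp only [mul_assoc, mul_self_mul L.set hz, hzz, mul_one]
      _ = 1 := by rw [hu1, mul_one, hzz]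
  rw [hγ', inv_mul_eq_one] at hγ1
  rw [← hγ1] at here
  have h3 : t * t = 1 := by
    rw [mul_eq_one_iff_eq_inv, ← here, het.eq, mul_assoc, he2, mul_one]
  exact hxd (((sq_eq_one_iff L.set hd hx).1 (by rw [pow_two]; exact h3)).symm)

/-- Case A gives two commuting symmetric groups of degree three. -/
theorem square_of_common [Finite G] {d x : G} (hd : d ∈ D) (hx : x ∈ D) (hdx : d ≠ x)
    (hE : nbr D d = nbr D x) {e : G} (he : e ∈ nbr D d) :
    Subgroup.closure D = Subgroup.closure (nbr D e) ⊔ Subgroup.closure (nbr D d) ∧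
      ∀ a ∈ nbr D e, ∀ b ∈ nbr D d, Commute a b := by
  have hde : d ∈ nbr D e := nbr_symm hd he
  have hxe : x ∈ nbr D e := nbr_symm hx (hE ▸ he)
  have hT : ∀ h ∈ nbr D d, nbr D h = nbr D e := fun h hh =>
    nbr_eq L hh.1 he.1 (nbr_symm hd hh) (nbr_symm hx (hE ▸ hh)) hde hxe hdx
  refine ⟨le_antisymm ((Subgroup.closure_le _).2 fun z hz => ?_) ?_, fun a ha b hb => ?_⟩
  · have hleft : ∀ y ∈ nbr D e, y ∈ Subgroup.closure (nbr D e) ⊔ Subgroup.closure (nbr D d) :=
      fun y hy => Subgroup.mem_sup_left (Subgroup.subset_closure hy)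
    have hright : ∀ y ∈ nbr D d, y ∈ Subgroup.closure (nbr D e) ⊔ Subgroup.closure (nbr D d) :=
      fun y hy => Subgroup.mem_sup_right (Subgroup.subset_closure hy)
    rcases eq_or_ne z d with rfl | hzd
    · exact hleft _ hde
    rcases eq_or_ne z x with rfl | hzx
    · exact hleft _ hxe
    by_cases hcd : Commute d z
    · exact hright _ ⟨hz, hzd, hcd⟩
    by_cases hcx : Commute x z
    · exact hright _ (hE ▸ ⟨hz, hzx, hcx⟩)
    by_cases hex : ∃ h ∈ nbr D d, Commute h z
    · obtain ⟨h, hh, hhz⟩ := hex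
      rcases eq_or_ne z h with rfl | hne
      · exact hright _ hh
      · exact hleft _ (hT h hh ▸ ⟨hz, hne, hhz⟩)
    · push Not at hex
      exact (no_far_of_square L hd hx hdx hE hz hcd hcx hex).elim
  · exact sup_le (Subgroup.closure_mono fun y hy => hy.1) (Subgroup.closure_mono fun y hy => hy.1)
  · rw [← hT b hb] at ha
    exact ha.2.2.symm

/-- Case B: no member lies far from a point. -/
theorem no_far (hB : ∀ d ∈ D, ∀ x ∈ D, d ≠ x → ∀ e ∈ nbr D d, ∀ f ∈ nbr D d, e ≠ f → Commute x e →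
      Commute x f → False)
    {d z : G} (hd : d ∈ D) (hz : z ∈ D) (hzd : ¬ Commute d z) (hzE : ∀ e ∈ nbr D d, ¬ Commute e z) :
    False := by
  obtain ⟨e, he, f, hf, hef⟩ := L.pair d hd
  have hg := mem_of_mem_nbr L hd he hf hef
  obtain ⟨hge, hgf⟩ := nbr_third L hd he hf hef
  have P : ∀ x ∈ nbr D d, d * x * z * (d * x) ∈ nbr D z := fun x hx =>
    far_mem_nbr L hd hx hz hzd (hzE x hx)
  have hpq := far_ne L hd he hf hef hz (hzE e he)
  have hrp := far_ne L hd hg he hge hz (hzE _ hg)
  have hrq := far_ne L hd hg hf hgf hz (hzE _ hg)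
  have hr : d * (e * f * e) * z * (d * (e * f * e)) =
      d * e * z * (d * e) * (d * f * z * (d * f)) * (d * e * z * (d * e)) :=
    ((L.only z hz _ (P e he) _ (P f hf) hpq _ (P _ hg)).resolve_left hrp).resolve_left hrq
  have hdd := mul_self L.set hd
  have hd2 := mul_self_mul L.set hd
  have hee := mul_self L.set he.1
  have he2 := mul_self_mul L.set he.1
  have hff := mul_self L.set hf.1
  have hzz := mul_self L.set hz
  have hz2 := mul_self_mul L.set hz
  have cj : ∀ x ∈ nbr D d, d * x * z * (d * x) = d * (x * z * x) * d := fun x hx => by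
    rw [hx.2.2.eq]
    simp only [mul_assoc]
    rw [← mul_assoc d x, hx.2.2.eq, mul_assoc]
  rw [cj e he, cj f hf, cj _ hg] at hr
  have hr2 : e * f * e * z * (e * f * e) = e * z * e * (f * z * f) * (e * z * e) := by
    have := congrArg (fun y => d * y * d) hr
    simpa only [mul_assoc, hd2, hdd, mul_one] using this
  set ρ := e * f with hρ
  set b := z * ρ * z with hb
  have hinv : ρ⁻¹ = f * e := by rw [hρ, mul_inv_rev, inv_eq L.set he.1, inv_eq L.set hf.1]
  have key : b * ρ⁻¹ * z = ρ⁻¹ * z * ρ := by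
    have := congrArg (fun y => e * y * e) hr2
    simp only [hρ, mul_assoc, he2, hee, mul_one] at this
    rw [hb, hinv, hρ]
    simpa only [mul_assoc] using this.symm
  have hcomm : Commute b ρ := by
    have h1 : b * ρ⁻¹ = ρ⁻¹ * b := by
      rw [hb] at key ⊢
      calc z * ρ * z * ρ⁻¹ = z * ρ * z * ρ⁻¹ * z * z := by rw [mul_assoc _ z z, hzz, mul_one]
        _ = ρ⁻¹ * z * ρ * z := by rw [key]
        _ = ρ⁻¹ * (z * ρ * z) := by simp only [mul_assoc]
    have h2 : Commute b ρ⁻¹ := h1
    simpa using h2.inv_right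
  have huniq : ∀ w ∈ D, Commute w ρ → w = d := by
    intro w hw hc
    by_contra hwd
    obtain ⟨h1, h2⟩ := commute_both_of_commute_mul L hd he hf hef hw hc
    exact hB d hd w hw (Ne.symm hwd) e he f hf hef h1 h2
  have hdρ : Commute d ρ := he.2.2.mul_right hf.2.2
  have hbd : b * d * b⁻¹ = d := by
    refine huniq _ (L.conj b d hd) ?_
    have := (Commute.conj_iff b).2 hdρ
    rwa [hcomm.eq, mul_inv_cancel_right] at this
  have hdb : Commute d b := by
    show d * b = b * d
    conv_lhs => rw [← hbd]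
    rw [inv_mul_cancel_right]
  have hy : Commute (z * d * z) ρ := by
    have := (Commute.conj_iff z).2 hdb
    rw [inv_eq L.set hz, hb] at this
    simpa only [mul_assoc, hz2, hzz, mul_one] using this
  have hzdz := huniq _ (conj_mem_left L.toConjClosed hz hd) hy
  refine hzd ?_
  show d * z = z * d
  conv_lhs => rw [← hzdz]
  rw [mul_assoc, hzz, mul_one]

/-- Case B gives the symmetric group of degree five. -/
theorem symFive_of_noCommon
    (hB : ∀ d ∈ D, ∀ x ∈ D, d ≠ x → ∀ e ∈ nbr D d, ∀ f ∈ nbr D d, e ≠ f → Commute x e →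
      Commute x f → False)
    {a : G} (ha : a ∈ D) : Nonempty (↥(Subgroup.closure D) ≃* Equiv.Perm (Fin 5)) := by
  obtain ⟨c, hc, f, hf, hcf⟩ := L.pair a ha
  have haf : a ∈ nbr D f := nbr_symm ha hf
  obtain ⟨b, hb, hba⟩ : ∃ b ∈ nbr D f, b ≠ a := by
    obtain ⟨p, hp, q, hq, hpq⟩ := L.pair f hf.1
    by_cases h : p = a
    · exact ⟨q, hq, fun h' => hpq (h.trans h'.symm)⟩
    · exact ⟨p, hp, h⟩
  have hnab : ¬ Commute a b := L.noncomm f hf.1 a haf b hb hba.symm
  have hncf : ¬ Commute c f := L.noncomm a ha c hc f hf hcf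
  have hnbc : ¬ Commute b c := fun h => hB a ha b hb.1 hba.symm c hc f hf hcf h hb.2.2.symm
  obtain ⟨φ, hφ⟩ := SymFive.exists_hom (mul_self L.set ha) (mul_self L.set hb.1) (mul_self L.set hc.1)
    (mul_self L.set hf.1) (braid L.set ha hb.1 hnab) (braid L.set hb.1 hc.1 hnbc)
    (braid L.set hc.1 hf.1 hncf) hc.2.2 hf.2.2 hb.2.2.symm
  have hinj : Function.Injective φ := by
    refine SymFive.injective_of_gen φ ?_ ?_ <;> rw [hφ, hφ]
    · exact hba.symm
    · exact Ne.symm hc.2.1
  have hA : a ∈ φ.range := ⟨_, hφ 0⟩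
  have hBm : b ∈ φ.range := ⟨_, hφ 1⟩
  have hC : c ∈ φ.range := ⟨_, hφ 2⟩
  have hF : f ∈ φ.range := ⟨_, hφ 3⟩
  have hnbrA : ∀ y ∈ nbr D a, y ∈ φ.range := fun y hy => by
    rcases L.only a ha c hc f hf hcf y hy with rfl | rfl | rfl
    exacts [hC, hF, mul_mem (mul_mem hC hF) hC]
  have hnbrF : ∀ y ∈ nbr D f, y ∈ φ.range := fun y hy => by
    rcases L.only f hf.1 a haf b hb hba.symm y hy with rfl | rfl | rfl
    exacts [hA, hBm, mul_mem (mul_mem hA hBm) hA]
  have hsub : D ⊆ φ.range := by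
    intro z hz
    rcases eq_or_ne z a with rfl | hza
    · exact hA
    by_cases hca : Commute a z
    · exact hnbrA z ⟨hz, hza, hca⟩
    by_contra hnot
    obtain ⟨h, hh, hhz⟩ : ∃ h ∈ nbr D a, Commute h z := by
      by_contra hno
      push Not at hno
      exact no_far L hB ha hz hca hno
    obtain ⟨g, hg, hgh⟩ : ∃ g ∈ φ.range, g * h * g⁻¹ = f := by
      rcases L.only a ha c hc f hf hcf h hh with rfl | rfl | rfl
      · refine ⟨h * f, mul_mem hC hF, ?_⟩
        rw [mul_inv_rev, inv_eq L.set hc.1, inv_eq L.set hf.1]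
        calc h * f * h * (f * h) = h * f * h * f * h := by simp only [mul_assoc]
          _ = f * h * f * f * h := by rw [braid L.set hc.1 hf.1 hncf]
          _ = f := by simp only [mul_assoc, mul_self_mul L.set hf.1, mul_self L.set hc.1, mul_one]
      · exact ⟨1, one_mem _, by simp⟩
      · refine ⟨c, hC, ?_⟩
        rw [inv_eq L.set hc.1]
        simp only [mul_assoc, mul_self_mul L.set hc.1, mul_self L.set hc.1, mul_one]
    have hcz : Commute f (g * z * g⁻¹) := hgh ▸ (Commute.conj_iff g).2 hhz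
    refine hnot ?_
    have hgz : g * z * g⁻¹ ∈ φ.range := by
      rcases eq_or_ne (g * z * g⁻¹) f with e | e
      · rw [e]; exact hF
      · exact hnbrF _ ⟨L.conj g z hz, e, hcz⟩
    have := mul_mem (mul_mem (inv_mem hg) hgz) hg
    simpa [mul_assoc] using this
  have heq : φ.range = Subgroup.closure D := by
    refine le_antisymm ?_ ((Subgroup.closure_le _).2 hsub)
    rintro _ ⟨σ, rfl⟩
    have hσ : σ ∈ Submonoid.closure (Set.range SymFive.genFive) := by
      rw [SymFive.closure_gen]; exact Submonoid.mem_top _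
    induction hσ using Submonoid.closure_induction with
    | mem x hx =>
      obtain ⟨k, rfl⟩ := hx
      rw [hφ]
      refine Subgroup.subset_closure ?_
      fin_cases k
      exacts [ha, hb.1, hc.1, hf.1]
    | one => rw [map_one]; exact one_mem _
    | mul x y _ _ hx hy => rw [map_mul]; exact mul_mem hx hy
  exact ⟨((MonoidHom.ofInjective hinj).trans (MulEquiv.subgroupCongr heq)).symm⟩

end

theorem main [Finite G] (hD : Cfsg.IsThreeTranspositionSet D)
    (hconj : ∀ g : G, ∀ d ∈ D, g * d * g⁻¹ ∈ D) (hne : D.Nonempty)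
    (hloc : ∀ d ∈ D, Nonempty (↥(Subgroup.closure (nbr D d)) ≃* Equiv.Perm (Fin 3)) ∧
      Nat.card (Cfsg.pCore 3 ↥(Subgroup.centralizer ({d} : Set G))) = 3) :
    Nonempty (↥(Subgroup.closure D) ≃* Equiv.Perm (Fin 5)) ∨
      Nonempty (↥(Subgroup.closure D) ≃* Equiv.Perm (Fin 3) × Equiv.Perm (Fin 3)) := by
  have L := local_of hD hconj hloc
  by_cases hA : ∃ d ∈ D, ∃ x ∈ D, d ≠ x ∧ ∃ e ∈ nbr D d, ∃ f ∈ nbr D d, e ≠ f ∧
      Commute x e ∧ Commute x f
  · right
    obtain ⟨d, hd, x, hx, hdx, e, he, f, hf, hef, hxe, hxf⟩ := hA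
    have hne' : ∀ g ∈ nbr D d, ∀ g' ∈ nbr D d, g ≠ g' → Commute x g' → g ≠ x := by
      intro g hg g' hg' hgg hc h
      exact L.noncomm d hd g hg g' hg' hgg (h ▸ hc)
    have hE : nbr D d = nbr D x := nbr_eq L hd hx he hf ⟨he.1, hne' e he f hf hef hxf, hxe⟩
      ⟨hf.1, hne' f hf e he hef.symm hxe, hxf⟩ hef
    obtain ⟨hclo, hcomm⟩ := square_of_common L hd hx hdx hE he
    set A := Subgroup.closure (nbr D e)
    set B := Subgroup.closure (nbr D d)
    have hle : A ≤ Subgroup.centralizer (B : Set G) := by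
      rw [Subgroup.centralizer_closure, Subgroup.closure_le]
      intro a ha
      rw [SetLike.mem_coe, Subgroup.mem_centralizer_iff]
      intro b hb
      exact (hcomm a ha b hb).eq.symm
    have hc : ∀ (a : A) (b : B), Commute (A.subtype a) (B.subtype b) := fun a b =>
      ((Subgroup.mem_centralizer_iff.mp (hle a.2)) b b.2).symm
    obtain ⟨φA⟩ := (hloc e he.1).1
    obtain ⟨φB⟩ := (hloc d hd).1
    have hinf : ∀ y : G, y ∈ A → y ∈ B → y = 1 := by
      intro y hyA hyB
      have hz : ∀ σ : Equiv.Perm (Fin 3), φB ⟨y, hyB⟩ * σ = σ * φB ⟨y, hyB⟩ := by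
        intro σ
        obtain ⟨b, rfl⟩ := φB.surjective σ
        rw [← map_mul, ← map_mul]
        exact congrArg φB (Subtype.ext (hc ⟨y, hyA⟩ b).eq)
      have h1 : ∀ τ : Equiv.Perm (Fin 3), (∀ σ, τ * σ = σ * τ) → τ = 1 := by decide +kernel
      have h2 := h1 _ hz
      rw [← map_one φB] at h2
      exact congrArg Subtype.val (φB.injective h2)
    set μ := A.subtype.noncommCoprod B.subtype hc with hμ
    have hinj : Function.Injective μ := by
      rw [injective_iff_map_eq_one]
      rintro ⟨a, b⟩ h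
      change (a : G) * (b : G) = 1 at h
      have h1 : (a : G) = 1 := hinf _ a.2 (by
        rw [mul_eq_one_iff_eq_inv] at h; rw [h]; exact inv_mem b.2)
      rw [h1, one_mul] at h
      exact Prod.ext (Subtype.ext h1) (Subtype.ext h)
    have hrange : μ.range = Subgroup.closure D := by
      rw [hclo, hμ, MonoidHom.noncommCoprod_range, Subgroup.range_subtype, Subgroup.range_subtype]
    exact ⟨((MonoidHom.ofInjective hinj).trans (MulEquiv.subgroupCongr hrange)).symm.trans
      (MulEquiv.prodCongr φA φB)⟩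
  · left
    push Not at hA
    obtain ⟨a, ha⟩ := hne
    exact symFive_of_noCommon L (fun d hd x hx hdx e he f hf hef h1 h2 => hA d hd x hx hdx e he f hf hef h1 h2) ha

end CfsgLib.ThreeTrans.LocalSymThree
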