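import Mathlib
import Cfsg.Agent.Lib.Sporadic.RankThree
import Cfsg.Agent.Lib.ThreeTrans.LocalSymThree
import Cfsg.Agent.Lib.ThreeTrans.FischerHyp

/-!
Inner twins: two members `y`, `w` commuting with `x` which have the same commuting partners among
the members commuting with `x`. In a primitive 3-transposition group they occur only if no two
members other than `x` commuting with `x` commute with each other.

The proof is an induction on the order. If `v` commutes with `x` and `y` and some `w'` is a twin of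
`y` below `v` and no twin of `y` below `x`, then `w`, `w'` are twins below some `z` commuting with
`x`, `v` and `y`, and the images of `v`, `y`, `w'` in the quotient of `⟨D_x⟩` by its largest normal
3-subgroup are a smaller counterexample.
-/

set_option autoImplicit false

namespace CfsgLib.ThreeTrans.InnerTwins

open CfsgLib.ThreeTrans
open CfsgLib.Sporadic
open CfsgLib.ThreeTrans.LocalSymThree (nbr nbr_symm)

universe u

variable {G : Type u} [Group G] {D : Set G}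

/-- `y` and `w` are distinct twins below `x`. -/
def Tw (D : Set G) (x y w : G) : Prop := WRel (nbr D x) y w ∧ y ≠ w

theorem Tw.symm {x y w : G} (h : Tw D x y w) : Tw D x w y := ⟨h.1.symm, h.2.symm⟩

theorem Tw.trans {x y w u : G} (h : Tw D x y w) (k : Tw D x w u) (hne : y ≠ u) : Tw D x y u :=
  ⟨h.1.trans k.1, hne⟩

theorem Tw.not_commute {x y w : G} (h : Tw D x y w) : ¬ Commute y w := h.1.not_commute h.2

theorem Tw.inner {x y w e : G} (h : Tw D x y w) (he : e ∈ nbr D x) (hey : Commute e y)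
    (hne : e ≠ y) : Commute e w ∧ e ≠ w := by
  have hew : e ≠ w := fun k => h.not_commute (k ▸ hey.symm)
  exact ⟨((h.1.commute_iff he hne hew).1 hey.symm).symm, hew⟩

theorem lift_commute {H : Subgroup G} {a b : H} (h : Commute (a : G) b) : Commute a b := Subtype.ext h

theorem conj_eq_of_commute {g e : G} (h : Commute g e) : g * e * g⁻¹ = e := by
  rw [h.eq, mul_inv_cancel_right]

theorem nbr_conj (hc : ConjClosed D) (g x : G) :
    nbr D (g * x * g⁻¹) = (fun y => g * y * g⁻¹) '' nbr D x :=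
  conj_set_eq hc g (fun a y => y ≠ a ∧ Commute a y)
    (fun a b => by rw [commute_conj_iff]; simp) x

theorem conj_mem_nbr (hc : ConjClosed D) {x y g : G} (hg : Commute g x) (hy : y ∈ nbr D x) :
    g * y * g⁻¹ ∈ nbr D x := by
  have := Set.mem_image_of_mem (fun y => g * y * g⁻¹) hy
  rwa [← nbr_conj hc, conj_eq_of_commute hg] at this

theorem Tw.conj (hc : ConjClosed D) (g : G) {x y w : G} (h : Tw D x y w) :
    Tw D (g * x * g⁻¹) (g * y * g⁻¹) (g * w * g⁻¹) := by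
  have himg : ∀ a, {z : G | z ∈ nbr D (g * x * g⁻¹) ∧ z ≠ g * a * g⁻¹ ∧ Commute (g * a * g⁻¹) z} =
      (fun z => g * z * g⁻¹) '' {z : G | z ∈ nbr D x ∧ z ≠ a ∧ Commute a z} := by
    intro a
    ext z
    constructor
    · rintro ⟨hz, hza, hcz⟩
      rw [nbr_conj hc] at hz
      obtain ⟨z', hz', rfl⟩ := hz
      exact ⟨z', ⟨hz', fun k => hza (by rw [k]), (commute_conj_iff g a z').1 hcz⟩, rfl⟩
    · rintro ⟨z', ⟨hz', hza, hcz⟩, rfl⟩
      refine ⟨?_, fun k => hza (mul_left_cancel (mul_right_cancel k)), (commute_conj_iff g a z').2 hcz⟩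
      rw [nbr_conj hc]
      exact ⟨z', hz', rfl⟩
  refine ⟨⟨?_, ?_, ?_⟩, fun k => h.2 (mul_left_cancel (mul_right_cancel k))⟩
  · rw [nbr_conj hc]; exact ⟨y, h.1.1, rfl⟩
  · rw [nbr_conj hc]; exact ⟨w, h.1.2.1, rfl⟩
  · rw [himg, himg, h.1.2.2]

/-- A member commuting with the twins but not with their witness is another witness. -/
theorem Tw.shift (hc : ConjClosed D) {x y w m : G} (h : Tw D x y w) (hx : x ∈ D) (hm : m ∈ D)
    (hmx : ¬ Commute m x) (hmy : Commute m y) (hmw : Commute m w) : Tw D m y w := by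
  have e := RankThree.conj_braid hc.set hx hm fun k => hmx k.symm
  have h1 : x * m * x * (x * m)⁻¹ = m := e
  have h2 : x * m * y * (x * m)⁻¹ = y := conj_eq_of_commute (h.1.1.2.2.mul_left hmy)
  have h3 : x * m * w * (x * m)⁻¹ = w := conj_eq_of_commute (h.1.2.1.2.2.mul_left hmw)
  have := h.conj hc (x * m)
  rwa [h1, h2, h3] at this

/-- The standing hypotheses. -/
structure Setting (D : Set G) : Prop where
  hD : ClassTwo D
  prim : Cfsg.IsPrimitiveUnderConj D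
  pair : ∃ a ∈ D, ∃ b ∈ D, a ≠ b ∧ Commute a b

section
variable [Finite G] (S : Setting D)
include S

theorem Setting.pairConj_perp {a b a' b' : G} (ha : a ∈ D) (hb : b ∈ nbr D a) (ha' : a' ∈ D)
    (hb' : b' ∈ nbr D a') : ∃ g : G, g * a * g⁻¹ = a' ∧ g * b * g⁻¹ = b' := by
  obtain ⟨g, rfl⟩ := S.hD.class_eq a ha a' ha'
  have h1 : g * b * g⁻¹ ∈ nbr D (g * a * g⁻¹) := by
    rw [nbr_conj S.hD.closed]; exact ⟨b, hb, rfl⟩
  obtain ⟨k, hk, hkb⟩ := RankThree.perp_transitive S.hD S.prim S.pair ha' h1.1 hb'.1 h1.2.1 hb'.2.1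
    h1.2.2 hb'.2.2
  refine ⟨k * g, ?_, ?_⟩
  · rw [show k * g * a * (k * g)⁻¹ = k * (g * a * g⁻¹) * k⁻¹ by group, conj_eq_of_commute hk]
  · rw [← hkb]; group

theorem Setting.pairConj_far {a b a' b' : G} (ha : a ∈ D) (hb : b ∈ D) (ha' : a' ∈ D) (hb' : b' ∈ D)
    (h : ¬ Commute a b) (h' : ¬ Commute a' b') : ∃ g : G, g * a * g⁻¹ = a' ∧ g * b * g⁻¹ = b' := by
  obtain ⟨g, rfl⟩ := S.hD.class_eq a ha a' ha'
  obtain ⟨k, hk, hkb⟩ := RankThree.far_transitive S.hD S.prim S.pair ha' (S.hD.closed.conj g b hb) hb'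
    (fun k => h ((commute_conj_iff g a b).1 k)) h'
  refine ⟨k * g, ?_, ?_⟩
  · rw [show k * g * a * (k * g)⁻¹ = k * (g * a * g⁻¹) * k⁻¹ by group, conj_eq_of_commute hk]
  · rw [← hkb]; group

/-- Every non-commuting pair is a pair of twins below some member. -/
theorem Setting.exists_tw {x₀ y₀ w₀ a c : G} (hx₀ : x₀ ∈ D) (h : Tw D x₀ y₀ w₀) (ha : a ∈ D)
    (hc : c ∈ D) (hac : ¬ Commute a c) : ∃ z ∈ D, Tw D z a c := by
  obtain ⟨g, h1, h2⟩ := S.pairConj_far h.1.1.1 h.1.2.1.1 ha hc h.not_commute hac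
  refine ⟨g * x₀ * g⁻¹, S.hD.closed.conj g x₀ hx₀, ?_⟩
  have := h.conj S.hD.closed g
  rwa [h1, h2] at this

/-- The other members commuting with a member form a connected graph. -/
theorem Setting.perp_reach {x₀ y₀ w₀ v₀ : G} (hx₀ : x₀ ∈ D) (h : Tw D x₀ y₀ w₀)
    (hv₀ : v₀ ∈ nbr D x₀) (hne : v₀ ≠ y₀) (hvy : Commute v₀ y₀) {x y c : G} (hx : x ∈ D)
    (hy : y ∈ nbr D x) (hc : c ∈ nbr D x) :
    ∃ z ∈ nbr D x, Commute y z ∧ Commute z c := by
  by_cases hyc : Commute y c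
  · exact ⟨y, hy, Commute.refl y, hyc⟩
  obtain ⟨z, hz, hT⟩ := S.exists_tw hx₀ h hy.1 hc.1 hyc
  have hcase : Tw D x y c → ∃ z ∈ nbr D x, Commute y z ∧ Commute z c := fun hT => by
    obtain ⟨g, hg1, hg2⟩ := S.pairConj_perp hx₀ h.1.1 hx hy
    have hv : g * v₀ * g⁻¹ ∈ nbr D x := by
      rw [← hg1, nbr_conj S.hD.closed]; exact ⟨v₀, hv₀, rfl⟩
    have hcy : Commute (g * v₀ * g⁻¹) y := hg2 ▸ (commute_conj_iff g v₀ y₀).2 hvy
    have hne' : g * v₀ * g⁻¹ ≠ y := fun k => hne (by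
      rw [← hg2] at k
      exact mul_left_cancel (mul_right_cancel k))
    exact ⟨_, hv, hcy.symm, (hT.inner hv hcy hne').1⟩
  by_cases hzx : z = x
  · exact hcase (hzx ▸ hT)
  by_cases hcz : Commute x z
  · exact ⟨z, ⟨hz, hzx, hcz⟩, hT.1.1.2.2.symm, hT.1.2.1.2.2⟩
  · exact hcase (hT.shift S.hD.closed hz hx hcz hy.2.2 hc.2.2)

/-- The twins of a member below a commuting member, itself included. -/
theorem Setting.block_eq {x v y : G} (hx : x ∈ D) (hv : v ∈ D) (hyx : y ∈ nbr D x) (hyv : y ∈ nbr D v)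
    (h : {e | e = y ∨ Tw D v y e} ⊆ {e | e = y ∨ Tw D x y e}) :
    {e | e = y ∨ Tw D v y e} = {e | e = y ∨ Tw D x y e} := by
  obtain ⟨g, hg1, hg2⟩ := S.pairConj_perp hx hyx hv hyv
  refine Set.eq_of_subset_of_ncard_le h ?_ (Set.toFinite _)
  rw [← Set.ncard_image_of_injective {e | e = y ∨ Tw D x y e}
    (f := fun e => g * e * g⁻¹) (fun a b k => mul_left_cancel (mul_right_cancel k))]
  refine Set.ncard_le_ncard ?_ (Set.toFinite _)
  rintro _ ⟨e, he, rfl⟩
  rcases he with rfl | he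
  · exact Or.inl hg2
  · right
    have := he.conj S.hD.closed g
    rwa [hg1, hg2] at this

end

theorem wRel_coe_iff {H : Subgroup G} {E : Set G} (hE : E ⊆ H) (d w : H) :
    WRel {e : H | (e : G) ∈ E} d w ↔ WRel E (d : G) (w : G) := by
  have key : ∀ a : H, Subtype.val '' {y : H | y ∈ {e : H | (e : G) ∈ E} ∧ y ≠ a ∧ Commute a y} =
      {y : G | y ∈ E ∧ y ≠ (a : G) ∧ Commute (a : G) y} := by
    intro a
    ext z
    constructor
    · rintro ⟨z, ⟨h1, h2, h3⟩, rfl⟩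
      exact ⟨h1, fun k => h2 (Subtype.ext k), h3.map H.subtype⟩
    · rintro ⟨h1, h2, h3⟩
      exact ⟨⟨z, hE h1⟩, ⟨h1, fun k => h2 (congrArg Subtype.val k), Subtype.ext h3⟩, rfl⟩
  constructor
  · rintro ⟨h1, h2, h3⟩
    exact ⟨h1, h2, by rw [← key, ← key, h3]⟩
  · rintro ⟨h1, h2, h3⟩
    refine ⟨h1, h2, Set.image_injective.2 Subtype.val_injective ?_⟩
    rw [key, key, h3]

/-- The data of a descent: `w'` is a twin of `y` below `v` and not below `x`, and `z` commutes with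
`x`, `v`, `y`. -/
theorem descend [Finite G] (S : Setting D) {x v y w' z : G} (hx : x ∈ D) (hv : v ∈ nbr D x)
    (hy : y ∈ nbr D x) (hw' : w' ∈ nbr D x) (hz : z ∈ nbr D x) (hvy : Commute v y) (hne : v ≠ y)
    (hT : Tw D v y w') (hnT : ¬ Tw D x y w') (hzv : Commute z v) (hzy : Commute z y) (hzv' : z ≠ v)
    (hzy' : z ≠ y) (hconn : ∀ a ∈ nbr D x, ∀ c ∈ nbr D x, ∃ z ∈ nbr D x, Commute a z ∧ Commute z c)
    (IH : ∀ (K : Type u) [Group K] [Finite K] (C : Set K), Nat.card K < Nat.card G → Setting C →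
      ∀ a b c t : K, a ∈ C → Tw C a b c → t ∈ nbr C a → t ≠ b → Commute t b → False) : False := by
  classical
  haveI : Fact (Nat.Prime 3) := ⟨Nat.prime_three⟩
  have hc := S.hD.closed
  have hs := hc.set
  set E := nbr D x with hE
  set H := Subgroup.closure E with hH
  have hHx : ∀ g ∈ H, Commute g x := fun g hg => RankThree.commute_of_mem_closure_cD
    ((Subgroup.closure_mono fun e he => ⟨he.1, he.2.2⟩ : H ≤ Subgroup.closure (ClassTwo.cD D x)) hg)
  have hEH : E ⊆ (H : Set G) := Subgroup.subset_closure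
  set EH : Set H := {e | (e : G) ∈ E} with hEHdef
  have hcE : ConjClosed EH := by
    refine ⟨⟨fun e he => ?_, fun d hd e he => ?_⟩, fun g e he => ?_⟩
    · rw [← Subgroup.orderOf_coe]; exact hs.1 _ he.1
    · exact (hs.2 _ hd.1 _ he.1).imp (fun k => Subtype.ext k) (fun k => Subtype.ext k)
    · exact conj_mem_nbr hc (hHx g g.2) he
  have hC : ClassTwo EH := by
    refine ⟨hcE, Subgroup.closure_closure_coe_preimage, fun a ha b hb => ?_,
      ⟨⟨v, hEH hv⟩, hv, ⟨y, hEH hy⟩, hy, fun k => hne (congrArg Subtype.val k)⟩⟩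
    obtain ⟨g, hg, e⟩ := FischerHyp.perp_class S.hD S.prim S.pair hx _ ha _ hb
    exact ⟨⟨g, hg⟩, Subtype.ext e⟩
  set Q := Cfsg.pCore 3 H with hQ
  haveI hQn : Q.Normal := Cfsg.pCore_normal 3 H
  have hQp : IsPGroup 3 Q := CfsgLib.PCore.pCore_isPGroup
  set π := QuotientGroup.mk' Q with hπ
  have hsurj : Function.Surjective π := QuotientGroup.mk'_surjective Q
  set C : Set (H ⧸ Q) := π '' EH with hCdef
  have hsE := hcE.set
  have hker : ∀ {e f : H}, e ∈ EH → f ∈ EH → (π e = π f ↔ WRel EH e f) := by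
    intro e f he hf
    have h1 : π e = π f ↔ e * f ∈ Q := by
      rw [hπ, QuotientGroup.mk'_apply, QuotientGroup.mk'_apply, QuotientGroup.eq, inv_eq hsE he]
    rw [h1]
    exact ⟨fun k => wRel_of_mul_mem hcE he hf k, fun k => k.mul_mem_pCore hcE⟩
  have hdiff : ∀ {e f : H}, e ∈ EH → f ∈ EH → e ≠ f → Commute e f → π e ≠ π f :=
    fun he hf h hc' k => ((hker he hf).1 k).not_commute h hc'
  have hcomm : ∀ {e f : H}, e ∈ EH → f ∈ EH → Commute (π e) (π f) → π e ≠ π f → Commute e f := by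
    intro e f he hf hc' hne'
    by_contra h
    apply hne'
    have h3 := pow_three_of_not_commute hsE he hf h
    have h2 : π ((e * f) ^ 2) = 1 := by
      rw [map_pow, map_mul, hc'.mul_pow, ← map_pow, ← map_pow, pow_two, pow_two,
        mul_self hsE he, mul_self hsE hf, map_one, mul_one]
    have h1 : π (e * f) = 1 := by
      have : e * f = (e * f) ^ 2 * (e * f) ^ 2 := by
        rw [← pow_add, show 2 + 2 = 3 + 1 from rfl, pow_succ, h3, one_mul]
      rw [this, map_mul, h2, one_mul]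
    rw [map_mul, mul_eq_one_iff_eq_inv] at h1
    rw [h1, ← map_inv, inv_eq hsE hf]
  have hcC : ConjClosed C := by
    refine ⟨⟨?_, ?_⟩, ?_⟩
    · rintro _ ⟨e, he, rfl⟩
      apply orderOf_eq_prime
      · rw [← map_pow, pow_two, mul_self hsE he, map_one]
      · intro h
        rw [hπ, QuotientGroup.mk'_apply, QuotientGroup.eq_one_iff] at h
        exact ne_one hsE he (eq_one_of_mem_pGroup Nat.prime_three Nat.prime_two (by norm_num) hQp h
          (by rw [pow_two, mul_self hsE he]))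
    · rintro _ ⟨d, hd, rfl⟩ _ ⟨e, he, rfl⟩
      refine (hsE.2 d hd e he).imp (fun k => ?_) (fun k => ?_) <;>
        rw [← map_mul, ← map_pow, k, map_one]
    · rintro g _ ⟨e, he, rfl⟩
      obtain ⟨g, rfl⟩ := hsurj g
      exact ⟨g * e * g⁻¹, hcE.conj g e he, by simp⟩
  have hCC : ClassTwo C := by
    refine ⟨hcC, ?_, ?_, ?_⟩
    · rw [hCdef, ← MonoidHom.map_closure, hC.gen, Subgroup.map_top_of_surjective _ hsurj]
    · rintro _ ⟨a, ha, rfl⟩ _ ⟨b, hb, rfl⟩
      obtain ⟨g, rfl⟩ := hC.class_eq a ha b hb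
      exact ⟨π g, by simp⟩
    · exact ⟨π ⟨v, hEH hv⟩, ⟨_, hv, rfl⟩, π ⟨y, hEH hy⟩, ⟨_, hy, rfl⟩,
        hdiff (e := ⟨v, hEH hv⟩) (f := ⟨y, hEH hy⟩) hv hy (fun k => hne (congrArg Subtype.val k))
          (Subtype.ext hvy)⟩
  -- no twins in the quotient
  have hnoW : ∀ a b, WRel C a b → a = b := by
    rintro _ _ ⟨⟨e, he, rfl⟩, ⟨f, hf, rfl⟩, hset⟩
    refine (hker he hf).2 ⟨he, hf, Set.ext fun h => ?_⟩
    have key : ∀ {p q : H}, p ∈ EH → q ∈ EH →
        {y | y ∈ C ∧ y ≠ π p ∧ Commute (π p) y} = {y | y ∈ C ∧ y ≠ π q ∧ Commute (π q) y} →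
        h ∈ EH → h ≠ p → Commute p h → h ≠ q ∧ Commute q h := by
      intro p q hp hq hpq hh hne' hph
      have hm : π h ∈ {y | y ∈ C ∧ y ≠ π p ∧ Commute (π p) y} :=
        ⟨⟨h, hh, rfl⟩, hdiff hh hp hne' hph.symm, hph.map π⟩
      rw [hpq] at hm
      exact ⟨fun k => hm.2.1 (by rw [k]), hcomm hq hh hm.2.2 (Ne.symm hm.2.1)⟩
    exact ⟨fun ⟨h1, h2, h3⟩ => ⟨h1, key he hf hset h1 h2 h3⟩,
      fun ⟨h1, h2, h3⟩ => ⟨h1, key hf he hset.symm h1 h2 h3⟩⟩
  have h3 : Cfsg.pCore 3 (H ⧸ Q) ≤ Subgroup.center (H ⧸ Q) := by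
    by_contra h
    obtain ⟨a, ha, -⟩ := hCC.two
    obtain ⟨b, hb, hba⟩ := hCC.exists_wRel_ne h ha
    exact hba (hnoW _ _ hb).symm
  set v₁ : H := ⟨v, hEH hv⟩ with hv₁
  set y₁ : H := ⟨y, hEH hy⟩ with hy₁
  set w₁ : H := ⟨w', hEH hw'⟩ with hw₁
  set z₁ : H := ⟨z, hEH hz⟩ with hz₁
  have hxv : x ∈ nbr D v := nbr_symm hx hv
  have hvw : Commute v w' := hT.1.2.1.2.2
  have hyw : π y₁ ≠ π w₁ := fun k => hnT ⟨(wRel_coe_iff hEH y₁ w₁).1 ((hker hy hw').1 k), hT.2⟩
  have hvy₁ : π v₁ ≠ π y₁ := hdiff hv hy (fun k => hne (congrArg Subtype.val k)) (Subtype.ext hvy)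
  have hvw₁ : π v₁ ≠ π w₁ := hdiff hv hw'
    (fun k => hT.1.2.1.2.1 (congrArg Subtype.val k).symm) (Subtype.ext hvw)
  have h2 : Cfsg.pCore 2 (H ⧸ Q) ≤ Subgroup.center (H ⧸ Q) := by
    by_contra h
    obtain ⟨b, hb, hby⟩ := hCC.exists_vRel_ne h ⟨y₁, hy, rfl⟩
    obtain ⟨t, ht, rfl⟩ := hb.2.1
    have hvt : π t ≠ π v₁ := by
      intro k
      refine hT.not_commute (((hcomm hw' hy ?_ (Ne.symm hyw)).symm).map H.subtype)
      refine Commute.symm ((hb.2.2 (π w₁) ⟨w₁, hw', rfl⟩).1 ?_)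
      rw [k]
      exact (lift_commute (a := v₁) (b := w₁) hvw).map π
    have hty : Commute t y₁ := hcomm ht hy hb.commute.symm hby
    have htv : Commute t v₁ := hcomm ht hv
      ((hb.2.2 (π v₁) ⟨v₁, hv, rfl⟩).2 ((lift_commute (a := v₁) (b := y₁) hvy).map π).symm) hvt
    have htn : (t : G) ∈ nbr D v := ⟨ht.1, fun k => hvt (congrArg π (Subtype.ext k : t = v₁)),
      (htv.map H.subtype).symm⟩
    obtain ⟨htw, -⟩ := hT.inner htn (hty.map H.subtype) fun k => hby (congrArg π (Subtype.ext k : t = y₁))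
    refine hT.not_commute ((hcomm hy hw' ?_ hyw).map H.subtype)
    exact (hb.2.2 (π w₁) ⟨w₁, hw', rfl⟩).1 ((lift_commute (a := t) (b := w₁) htw).map π)
  obtain ⟨L, hL⟩ := hCC.exists_component h2 h3
  have hgraph : (Cfsg.commutingGraph C).Connected := by
    haveI : Nonempty C := ⟨⟨π y₁, y₁, hy, rfl⟩⟩
    refine SimpleGraph.Connected.mk ?_
    rintro ⟨_, a, ha, rfl⟩ ⟨_, b, hb, rfl⟩
    obtain ⟨m, hm, ham, hmb⟩ := hconn _ ha _ hb
    have step : ∀ {p q : H} (hp : p ∈ EH) (hq : q ∈ EH), Commute p q →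
        (Cfsg.commutingGraph C).Reachable ⟨π p, p, hp, rfl⟩ ⟨π q, q, hq, rfl⟩ := by
      intro p q hp hq hpq
      by_cases h : π p = π q
      · have e : (⟨π p, p, hp, rfl⟩ : C) = ⟨π q, q, hq, rfl⟩ := Subtype.ext h
        rw [e]
      · exact SimpleGraph.Adj.reachable ((SimpleGraph.fromRel_adj _ _ _).2
          ⟨fun e => h (congrArg Subtype.val e), Or.inl (hpq.map π)⟩)
    exact (step ha (q := ⟨m, hEH hm⟩) hm (Subtype.ext ham)).trans
      (step (p := ⟨m, hEH hm⟩) hm hb (Subtype.ext hmb))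
  have S' : Setting C := ⟨hCC, hCC.primitive_of_index_le_two h2 h3 hL
    (hCC.index_le_two_of_connected hL hgraph),
    ⟨π v₁, ⟨v₁, hv, rfl⟩, π y₁, ⟨y₁, hy, rfl⟩, hvy₁, (lift_commute (a := v₁) (b := y₁) hvy).map π⟩⟩
  have hcard : Nat.card (H ⧸ Q) < Nat.card G := by
    refine lt_of_le_of_lt (Nat.card_le_card_of_surjective π hsurj) (lt_of_le_of_ne
      (Nat.card_le_card_of_injective _ H.subtype_injective) fun k => ?_)
    have htop : H = ⊤ := Subgroup.eq_top_of_card_eq H k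
    obtain ⟨e, he, hxe⟩ := exists_not_commute S.hD.gen hc S.hD.class_eq S.hD.two hx
    exact hxe (hHx e (htop ▸ Subgroup.mem_top e)).symm
  have hT' : Tw C (π v₁) (π y₁) (π w₁) := by
    have key : ∀ {p q : H}, p ∈ EH → q ∈ EH → Tw D v (p : G) (q : G) → ∀ h : H, h ∈ EH →
        π h ≠ π v₁ → Commute (π v₁) (π h) → π h ≠ π p → Commute (π p) (π h) →
        π h ≠ π q ∧ Commute (π q) (π h) := by
      intro p q hp hq hpq h hh h1 h2 h3' h4
      have hvh : Commute v₁ h := hcomm hv hh h2 (Ne.symm h1)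
      have hph : Commute p h := hcomm hp hh h4 (Ne.symm h3')
      have hn : (h : G) ∈ nbr D v := ⟨hh.1, fun k => h1 (congrArg π (Subtype.ext k : h = v₁)),
        hvh.map H.subtype⟩
      obtain ⟨hq', hne'⟩ := hpq.inner hn (hph.symm.map H.subtype)
        fun k => h3' (congrArg π (Subtype.ext k : h = p))
      exact ⟨hdiff hh hq (fun k => hne' (by rw [k])) (Subtype.ext hq'),
        (lift_commute (a := h) (b := q) hq').symm.map π⟩
    refine ⟨⟨⟨⟨y₁, hy, rfl⟩, Ne.symm hvy₁, (lift_commute (a := v₁) (b := y₁) hvy).map π⟩,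
      ⟨⟨w₁, hw', rfl⟩, Ne.symm hvw₁, (lift_commute (a := v₁) (b := w₁) hvw).map π⟩,
      Set.ext fun b => ?_⟩, hyw⟩
    constructor
    · rintro ⟨⟨⟨h, hh, rfl⟩, h1, h2⟩, h3', h4⟩
      exact ⟨⟨⟨h, hh, rfl⟩, h1, h2⟩, key (p := y₁) (q := w₁) hy hw' hT h hh h1 h2 h3' h4⟩
    · rintro ⟨⟨⟨h, hh, rfl⟩, h1, h2⟩, h3', h4⟩
      exact ⟨⟨⟨h, hh, rfl⟩, h1, h2⟩, key (p := w₁) (q := y₁) hw' hy hT.symm h hh h1 h2 h3' h4⟩
  have hz' : π z₁ ∈ nbr C (π v₁) := ⟨⟨z₁, hz, rfl⟩,
    hdiff hz hv (fun k => hzv' (congrArg Subtype.val k)) (Subtype.ext hzv),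
    (lift_commute (a := z₁) (b := v₁) hzv).symm.map π⟩
  exact IH (H ⧸ Q) C hcard S' _ _ _ _ ⟨v₁, hv, rfl⟩ hT' hz'
    (hdiff hz hy (fun k => hzy' (congrArg Subtype.val k)) (Subtype.ext hzy))
    ((lift_commute (a := z₁) (b := y₁) hzy).map π)

theorem no_deep_aux : ∀ (n : ℕ) (G : Type u) [Group G] [Finite G] (D : Set G), Nat.card G = n →
    Setting D → ∀ x y w v : G, x ∈ D → Tw D x y w → v ∈ nbr D x → v ≠ y → Commute v y → False := by
  intro n
  induction n using Nat.strongRecOn with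
  | ind n IH =>
  intro G _ _ D hn S x₀ y₀ w₀ v₀ hx₀ hT₀ hv₀ hne₀ hvy₀
  have hc := S.hD.closed
  -- twins below `x` stay twins below a common neighbour
  have claim : ∀ x y w v : G, x ∈ D → Tw D x y w → v ∈ nbr D x → v ≠ y → Commute v y →
      Tw D v y w := by
    intro x y w v hx hT hv hne hvy
    by_contra hnot
    have hy : y ∈ nbr D x := hT.1.1
    have hyv : y ∈ nbr D v := ⟨hy.1, Ne.symm hne, hvy⟩
    have hxv : x ∈ nbr D v := nbr_symm hx hv
    obtain ⟨hvw, hvw'⟩ := hT.inner hv hvy hne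
    obtain ⟨w', hw', hnT⟩ : ∃ w', Tw D v y w' ∧ ¬ Tw D x y w' := by
      by_contra! hall
      have heq := S.block_eq hx hv.1 hy hyv (by
        rintro e (rfl | he)
        · exact Or.inl rfl
        · exact Or.inr (hall e he))
      have hw : w ∈ {e | e = y ∨ Tw D v y e} := heq ▸ Or.inr hT
      rcases hw with h | h
      · exact hT.2 h.symm
      · exact hnot h
    obtain ⟨hxw', hxw''⟩ := hw'.inner hxv hy.2.2 (fun k => hy.2.1 k.symm)
    have hw'x : w' ∈ nbr D x := ⟨hw'.1.2.1.1, Ne.symm hxw'', hxw'⟩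
    have hww : ¬ Commute w' w := by
      intro k
      have hne' : w' ≠ w := fun e => hnT (e ▸ hT)
      exact hw'.not_commute (hT.symm.inner hw'x k hne').1.symm
    obtain ⟨z, hz, hTz⟩ := S.exists_tw hx₀ hT₀ hw'.1.2.1.1 hT.1.2.1.1 hww
    have hzw : Commute z w := hTz.1.2.1.2.2
    have hzw' : Commute z w' := hTz.1.1.2.2
    have hfin : ¬ Tw D x w' w := fun k => hnT (hT.trans k.symm hw'.2)
    have hzx : z ≠ x := fun k => hfin (k ▸ hTz)
    have hxz : Commute x z := by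
      by_contra k
      exact hfin (hTz.shift hc hz hx k hxw' hT.1.2.1.2.2)
    have hzn : z ∈ nbr D x := ⟨hz, hzx, hxz⟩
    obtain ⟨hzy, hzy'⟩ := hT.symm.inner hzn hzw (Ne.symm hTz.1.2.1.2.1)
    have hnot' : ¬ Tw D v w' w := fun k => hnot (hw'.trans k hT.2)
    have hzv : z ≠ v := fun k => hnot' (k ▸ hTz)
    have hvz : Commute v z := by
      by_contra k
      exact hnot' (hTz.shift hc hz hv.1 k hw'.1.2.1.2.2 hvw)
    refine descend S hx hv hy hw'x hzn hvy hne hw' hnT hvz.symm hzy hzv hzy'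
      (fun a ha c hc' => S.perp_reach hx₀ hT₀ hv₀ hne₀ hvy₀ hx ha hc') ?_
    intro K _ _ C hlt SC a b c t ha h1 h2 h3 h4
    exact IH _ (hn ▸ hlt) K C rfl SC a b c t ha h1 h2 h3 h4
  -- all non-commuting pairs below a member are twins below it
  have all : ∀ x y c : G, x ∈ D → y ∈ nbr D x → c ∈ nbr D x → ¬ Commute y c → Tw D x y c := by
    intro x y c hx hy hc' hyc
    obtain ⟨z, hz, hTz⟩ := S.exists_tw hx₀ hT₀ hy.1 hc'.1 hyc
    by_cases hzx : z = x
    · exact hzx ▸ hTz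
    by_cases hxz : Commute x z
    · exact claim z y c x hz hTz ⟨hx, Ne.symm hzx, hxz.symm⟩ (Ne.symm hy.2.1) hy.2.2
    · exact hTz.shift hc hz hx hxz hy.2.2 hc'.2.2
  set B : Set G := {e | e ∈ nbr D x₀ ∧ (e = y₀ ∨ Tw D x₀ y₀ e)} with hB
  have hinv : ∀ h ∈ nbr D x₀, ∀ e ∈ B, h * e * h⁻¹ ∈ B := by
    intro h hh e he
    by_cases k : Commute h e
    · rw [conj_eq_of_commute k]; exact he
    have hm : h * e * h⁻¹ ∈ nbr D x₀ := conj_mem_nbr hc hh.2.2.symm he.1
    have hbr := braid hc.set hh.1 he.1.1 k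
    rw [inv_eq hc.set hh.1] at hm ⊢
    have hne : ¬ Commute e (h * e * h) := by
      intro k'
      apply k
      have e1 : e * (e * h * e) = (e * h * e) * e := by rw [← hbr]; exact k'.eq
      have e2 : h * e = e * h := by
        simpa [mul_assoc, mul_self hc.set he.1.1, mul_self_mul hc.set he.1.1] using e1
      exact e2
    have hT1 := all x₀ e (h * e * h) hx₀ he.1 hm hne
    refine ⟨hm, ?_⟩
    rcases he.2 with rfl | he2
    · exact Or.inr hT1
    · by_cases heq : h * e * h = y₀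
      · exact Or.inl heq
      · exact Or.inr (he2.trans hT1 (Ne.symm heq))
  obtain ⟨g, hg, hgv⟩ := FischerHyp.perp_class S.hD S.prim S.pair hx₀ y₀ hT₀.1.1 v₀ hv₀
  have hv : g * y₀ * g⁻¹ ∈ B := RankThree.closure_preserves hinv hg y₀ ⟨hT₀.1.1, Or.inl rfl⟩
  rw [hgv] at hv
  rcases hv.2 with h | h
  · exact hne₀ h
  · exact h.not_commute hvy₀.symm

/-- If twins exist below some member, no two further members commuting with a member commute. -/
theorem nbr_noncomm [Finite G] (S : Setting D) {x y w : G} (hx : x ∈ D) (hT : Tw D x y w) :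
    ∀ d ∈ D, ∀ e ∈ nbr D d, ∀ f ∈ nbr D d, e ≠ f → ¬ Commute e f := by
  intro d hd e he f hf hef hcm
  obtain ⟨g, hg1, hg2⟩ := S.pairConj_perp hx hT.1.1 hd he
  have hT' := hT.conj S.hD.closed g
  rw [hg1, hg2] at hT'
  exact no_deep_aux _ G D rfl S d e (g * w * g⁻¹) f hd hT' hf hef.symm hcm.symm

end CfsgLib.ThreeTrans.InnerTwins
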