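import Mathlib
import Cfsg.Agent.Lib.ThreeTrans.InnerTwins

/-!
A primitive 3-transposition group in which no two further members commuting with a member commute
is the symmetric group of degree five, if some member commutes with two others: the sizes `k` and
`μ` are powers of 3, and the trace of the adjacency matrix forces `k = 3`.
-/

set_option autoImplicit false

namespace CfsgLib.ThreeTrans.InnerTwins

open CfsgLib.ThreeTrans
open CfsgLib.Sporadic
open CfsgLib.ThreeTrans.LocalSymThree (nbr nbr_symm Local)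
open Matrix

universe u

theorem not_sq_three_pow_mul : ∀ (i u m : ℕ), u % 3 = 2 → m * m ≠ 3 ^ i * u := by
  intro i
  induction i using Nat.strongRecOn with
  | ind i IH =>
  intro u m hu h
  match i, IH, h with
  | 0, _, h =>
    have h1 := congrArg (· % 3) h
    simp only [pow_zero, one_mul, Nat.mul_mod m m] at h1
    have : m % 3 < 3 := Nat.mod_lt _ (by norm_num)
    rw [hu] at h1
    interval_cases m % 3 <;> omega
  | 1, _, h =>
    have h3 : 3 ∣ m := (Nat.prime_three.dvd_mul.1 (⟨u, by rw [h, pow_one]⟩ : 3 ∣ m * m)).elim id id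
    obtain ⟨t, rfl⟩ := h3
    rw [pow_one, mul_assoc] at h
    have := Nat.eq_of_mul_eq_mul_left (by norm_num) h
    rw [mul_left_comm] at this
    omega
  | i + 2, IH, h =>
    have h3 : 3 ∣ m := (Nat.prime_three.dvd_mul.1
      (⟨3 ^ (i + 1) * u, by rw [h, pow_succ]; ring⟩ : 3 ∣ m * m)).elim id id
    obtain ⟨t, rfl⟩ := h3
    refine IH i (by omega) u t hu (Nat.eq_of_mul_eq_mul_left (show 0 < 9 by norm_num) ?_)
    calc 9 * (t * t) = 3 * t * (3 * t) := by ring
      _ = 3 ^ (i + 2) * u := h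
      _ = 9 * (3 ^ i * u) := by ring

/-- No triangle free strongly regular graph of valency over two with `μ² + 4(k - μ)` a non-square. -/
theorem srg_irrational {V : Type*} [Fintype V] (Γ : SimpleGraph V) [DecidableRel Γ.Adj] {n k μ : ℕ}
    (h : Γ.IsSRGWith n k 0 μ) (hn : 0 < n) (hk : 2 < k) (hμ : 0 < μ) (hμk : μ ≤ k)
    (hsq : ∀ m : ℕ, m * m ≠ μ * μ + 4 * (k - μ)) : False := by
  classical
  set J : Matrix V V ℝ := Matrix.of fun _ _ => 1 with hJ
  set A : Matrix V V ℝ := Γ.adjMatrix ℝ with hA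
  have hcompl : Γᶜ.adjMatrix ℝ = J - 1 - A := by
    ext a b
    by_cases hab : a = b
    · subst hab; simp [hJ, hA]
    · by_cases hadj : Γ.Adj a b <;> simp [hJ, hA, hab, hadj]
  have hAA : A * A = (k : ℝ) • 1 + (μ : ℝ) • (J - 1 - A) := by
    rw [← pow_two, h.matrix_eq, hcompl, zero_smul, add_zero, Nat.cast_smul_eq_nsmul,
      Nat.cast_smul_eq_nsmul]
  have hAJ : A * J = (k : ℝ) • J := by
    ext a b
    simp [hJ, hA, h.regular a]
  have hJA : J * A = (k : ℝ) • J := by
    ext a b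
    simp [hJ, hA, h.regular b]
  have hJJ : J * J = (n : ℝ) • J := by
    ext a b
    simp [hJ, Matrix.mul_apply, h.card]
  obtain ⟨s, hs⟩ : ∃ s : ℝ, s = 2 * k + μ := ⟨_, rfl⟩
  obtain ⟨δ, hδ⟩ : ∃ δ : ℝ, δ = (μ : ℝ) * μ + 4 * ((k : ℝ) - μ) := ⟨_, rfl⟩
  set B : Matrix V V ℝ := (2 : ℝ) • A + (μ : ℝ) • 1 with hB
  have hBJ : B * J = s • J := by
    rw [hB, add_mul, smul_mul_assoc, smul_mul_assoc, hAJ, one_mul, hs]; module
  have hJB : J * B = s • J := by
    rw [hB, mul_add, mul_smul_comm, mul_smul_comm, hJA, mul_one, hs]; module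
  have hBB : B * B = δ • 1 + (4 * μ : ℝ) • J := by
    simp only [hB, add_mul, mul_add, smul_mul_assoc, mul_smul_comm, smul_add, smul_smul, hAA,
      one_mul, mul_one, smul_sub, hδ]
    module
  have hVne : Nonempty V := Fintype.card_pos_iff.1 (h.card ▸ hn)
  obtain ⟨a₀⟩ := hVne
  have hnum : s * s = δ + 4 * μ * n := by
    have e1 : B * B * J = (s * s) • J := by
      rw [mul_assoc, hBJ, mul_smul_comm, hBJ, smul_smul]
    rw [hBB, add_mul, smul_mul_assoc, one_mul, smul_mul_assoc, hJJ, smul_smul] at e1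
    have e2 := congrFun (congrFun e1 a₀) a₀
    simp [hJ] at e2
    linarith
  have hn' : (n : ℝ) ≠ 0 := Nat.cast_ne_zero.2 hn.ne'
  set M : Matrix V V ℝ := B - (s / n) • J with hM
  have hMJ : M * J = 0 := by
    rw [hM, sub_mul, hBJ, smul_mul_assoc, hJJ, smul_smul, div_mul_cancel₀ _ hn', sub_self]
  have hMM : M * M = δ • 1 - (δ / n) • J := by
    conv_lhs => arg 2; rw [hM]
    rw [mul_sub, mul_smul_comm, hMJ, smul_zero, sub_zero, hM, sub_mul, smul_mul_assoc, hBB, hJB,
      smul_smul, add_sub_assoc, ← sub_smul, sub_eq_add_neg (δ • (1 : Matrix V V ℝ)), ← neg_smul]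
    congr 2
    field_simp
    linarith
  have hMMM : M * (M * M) = δ • M := by
    rw [hMM, mul_sub, mul_smul_comm, mul_smul_comm, mul_one, hMJ, smul_zero, sub_zero]
  have hherm : M.IsHermitian := by
    refine Matrix.IsHermitian.ext fun a b => ?_
    simp [hM, hB, hJ, hA, Matrix.one_apply, SimpleGraph.adj_comm, eq_comm]
  have heig : ∀ i, hherm.eigenvalues i = 0 ∨ hherm.eigenvalues i = Real.sqrt δ ∨
      hherm.eigenvalues i = - Real.sqrt δ := by
    intro i
    set t := hherm.eigenvalues i with ht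
    set w : V → ℝ := ⇑(hherm.eigenvectorBasis i) with hw
    have hv : M *ᵥ w = t • w := hherm.mulVec_eigenvectorBasis i
    have hw0 : w ≠ 0 := (WithLp.ofLp_eq_zero 2).ne.2 (hherm.eigenvectorBasis.orthonormal.ne_zero i)
    have h3 : (t * (t * t)) • w = (δ * t) • w := by
      calc (t * (t * t)) • w = M *ᵥ (M *ᵥ (M *ᵥ w)) := by
            rw [hv, mulVec_smul, hv, smul_smul, mulVec_smul, hv, smul_smul]; congr 1; ring
        _ = (δ • M) *ᵥ w := by rw [mulVec_mulVec, mulVec_mulVec, mul_assoc, hMMM]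
        _ = (δ * t) • w := by rw [smul_mulVec, hv, smul_smul]
    have h4 := smul_left_injective ℝ hw0 h3
    rcases eq_or_ne t 0 with h0 | h0
    · exact Or.inl h0
    right
    have h5 : t * t = δ := mul_left_cancel₀ h0 (h4.trans (mul_comm _ _))
    have h6 : 0 ≤ δ := h5 ▸ mul_self_nonneg t
    exact mul_self_eq_mul_self_iff.1 (h5.trans (Real.mul_self_sqrt h6).symm)
  obtain ⟨z, hz⟩ : ∃ z : ℤ, ∑ i, hherm.eigenvalues i = (z : ℝ) * Real.sqrt δ := by
    choose f hf using fun i => (show ∃ z : ℤ, hherm.eigenvalues i = (z : ℝ) * Real.sqrt δ by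
      rcases heig i with h1 | h1 | h1
      · exact ⟨0, by simp [h1]⟩
      · exact ⟨1, by simp [h1]⟩
      · exact ⟨-1, by simp [h1]⟩)
    exact ⟨∑ i, f i, by rw [Int.cast_sum, Finset.sum_mul]; exact Finset.sum_congr rfl fun i _ => hf i⟩
  have htr : M.trace = (n : ℝ) * μ - s := by
    simp [hM, hB, hJ, hA, Matrix.trace_sub, Matrix.trace_add, Matrix.trace_smul, h.card,
      Matrix.trace, Matrix.diag]
    field_simp
  have htr' := hherm.trace_eq_sum_eigenvalues
  simp only [RCLike.ofReal_real_eq_id, id_eq] at htr'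
  rw [hz, htr] at htr'
  obtain ⟨d, hd⟩ : ∃ d : ℕ, d = μ * μ + 4 * (k - μ) := ⟨_, rfl⟩
  have hdδ : δ = (d : ℝ) := by
    rw [hδ, hd, Nat.cast_add, Nat.cast_mul, Nat.cast_mul, Nat.cast_sub hμk]; norm_num
  rcases eq_or_ne z 0 with rfl | hz0
  · have hp := SimpleGraph.IsSRGWith.param_eq Γ h hn
    have e : (n : ℝ) * μ = 2 * k + μ := by
      rw [Int.cast_zero, zero_mul, sub_eq_zero, hs] at htr'; exact htr'
    have e' : n * μ = 2 * k + μ := by exact_mod_cast e
    have hkn : k + 1 ≤ n := by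
      have := h.regular a₀
      rw [← h.card, ← this]
      exact Γ.degree_lt_card_verts a₀
    obtain ⟨l, rfl⟩ := Nat.exists_eq_add_of_le hkn
    simp only [Nat.sub_zero, Nat.add_sub_cancel_left,
      show k + 1 + l - k - 1 = l by omega] at hp
    have hk1 : k * (k - 1) + k = k * k := by
      obtain ⟨q, rfl⟩ := Nat.exists_eq_add_of_le (show 1 ≤ k by omega)
      simp; ring
    nlinarith [e', hp, hk1, hμ, hk]
  · have hzz : ((z * z * d : ℤ) : ℝ) = (((n : ℤ) * μ - (2 * k + μ)) * ((n : ℤ) * μ - (2 * k + μ)) : ℤ) := by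
      push_cast
      rw [← hs, htr', ← hdδ]
      have h6 : 0 ≤ δ := hdδ ▸ Nat.cast_nonneg d
      calc (z : ℝ) * z * δ = (z : ℝ) * z * (Real.sqrt δ * Real.sqrt δ) := by rw [Real.mul_self_sqrt h6]
        _ = _ := by ring
    have hzz' : z * z * (d : ℤ) = ((n : ℤ) * μ - (2 * k + μ)) * ((n : ℤ) * μ - (2 * k + μ)) := by
      exact_mod_cast hzz
    obtain ⟨r, hr⟩ : z ∣ ((n : ℤ) * μ - (2 * k + μ)) :=
      (Int.pow_dvd_pow_iff (two_ne_zero)).1 ⟨d, by rw [pow_two, pow_two, hzz']⟩
    rw [hr, show z * r * (z * r) = z * z * (r * r) by ring] at hzz'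
    have := mul_left_cancel₀ (mul_ne_zero hz0 hz0) hzz'
    refine hsq r.natAbs ?_
    rw [← hd, ← Int.natAbs_mul, ← this, Int.natAbs_natCast]

section
variable {G : Type u} [Group G] [Finite G] {D : Set G}

/-- A nonempty pairwise non-commuting set of members closed under its own conjugations. -/
theorem ncard_pow_three (hs : Cfsg.IsThreeTranspositionSet D) {U : Set G} (hU : U ⊆ D)
    (hnc : ∀ a ∈ U, ∀ b ∈ U, a ≠ b → ¬ Commute a b) (hcl : ∀ a ∈ U, ∀ b ∈ U, a * b * a ∈ U)
    (hne : U.Nonempty) : ∃ i : ℕ, U.ncard = 3 ^ i := by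
  classical
  haveI : Fact (Nat.Prime 3) := ⟨Nat.prime_three⟩
  have hB : WidthOne.Braided U :=
    { sq := fun a ha => mul_self hs (hU ha)
      braid := fun a ha b hb => by
        rcases eq_or_ne a b with rfl | hab
        · rfl
        · exact braid hs (hU ha) (hU hb) (hnc a ha b hb hab)
      closed := hcl }
  set N := Subgroup.closure {z : G | ∃ x ∈ U, ∃ y ∈ U, z = x * y} with hN
  have hP : IsPGroup 3 N := WidthOne.isPGroup_products hB
  obtain ⟨a, ha⟩ := hne
  letI : MulAction N G := MulAction.compHom G (ConjAct.toConjAct.toMonoidHom.comp N.subtype)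
  have hsmul : ∀ (g : N) (y : G), g • y = (g : G) * y * (g : G)⁻¹ := fun g y =>
    ConjAct.toConjAct_smul (g : G) y
  obtain ⟨i, hi⟩ := hP.card_orbit a
  refine ⟨i, hi ▸ ?_⟩
  rw [Nat.card_coe_set_eq]
  congr 1
  apply Set.Subset.antisymm
  · intro b hb
    rcases eq_or_ne b a with rfl | hba
    · exact MulAction.mem_orbit_self b
    refine ⟨⟨a * b, Subgroup.subset_closure ⟨a, ha, b, hb, rfl⟩⟩, ?_⟩
    show _ • a = b
    rw [hsmul]
    exact RankThree.conj_braid hs (hU ha) (hU hb) (hnc a ha b hb hba.symm)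
  · rintro _ ⟨⟨g, hg⟩, rfl⟩
    show _ • a ∈ U
    rw [hsmul]
    have hg' : g ∈ Subgroup.closure U := by
      refine (Subgroup.closure_le _).2 ?_ hg
      rintro _ ⟨x, hx, y, hy, rfl⟩
      exact mul_mem (Subgroup.subset_closure hx) (Subgroup.subset_closure hy)
    refine RankThree.closure_preserves (fun y hy w hw => ?_) hg' a ha
    rw [inv_eq hs (hU hy)]
    exact hcl y hy w hw

/-- The braided perp case. -/
theorem symFive (S : Setting D) (hZ : Subgroup.center G = ⊥)
    (hno : ∀ d ∈ D, ∀ e ∈ nbr D d, ∀ f ∈ nbr D d, e ≠ f → ¬ Commute e f)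
    (hpair : ∀ d ∈ D, ∃ e ∈ nbr D d, ∃ f ∈ nbr D d, e ≠ f) :
    Nonempty (G ≃* Equiv.Perm (Fin 5)) := by
  classical
  have hc := S.hD.closed
  have hs := hc.set
  obtain ⟨h2, h3⟩ := S.hD.cores_of_primitive S.prim S.pair
  have hcl : ∀ d, ∀ e ∈ nbr D d, ∀ f ∈ nbr D d, e * f * e ∈ nbr D d := fun d e he f hf => by
    have := conj_mem_nbr hc he.2.2.symm hf
    rwa [inv_eq hs he.1] at this
  have hcommon : ∀ a c, a ∈ D → c ∈ D → ¬ Commute a c → (nbr D a ∩ nbr D c).Nonempty := by
    intro a c ha hc' hac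
    obtain ⟨b, hb, hba, hab, hcb⟩ := RankThree.exists_common S.hD S.prim S.pair ha hc' hac
    exact ⟨b, ⟨hb, hba, hab⟩, hb, fun k => hac (k ▸ hab), hcb⟩
  obtain ⟨d₀, hd₀, -⟩ := S.hD.two
  obtain ⟨e₀, he₀, hde₀⟩ := exists_not_commute S.hD.gen hc S.hD.class_eq S.hD.two hd₀
  have hk : ∀ d ∈ D, (nbr D d).ncard = (nbr D d₀).ncard := by
    intro d hd
    obtain ⟨g, rfl⟩ := S.hD.class_eq d₀ hd₀ d hd
    rw [nbr_conj hc, Set.ncard_image_of_injective _ fun a b k => mul_left_cancel (mul_right_cancel k)]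
  have hμ : ∀ a c, a ∈ D → c ∈ D → ¬ Commute a c →
      (nbr D a ∩ nbr D c).ncard = (nbr D d₀ ∩ nbr D e₀).ncard := by
    intro a c ha hc' hac
    obtain ⟨g, rfl, rfl⟩ := S.pairConj_far hd₀ he₀ ha hc' hde₀ hac
    rw [nbr_conj hc, nbr_conj hc, ← Set.image_inter fun a b k => mul_left_cancel (mul_right_cancel k),
      Set.ncard_image_of_injective _ fun a b k => mul_left_cancel (mul_right_cancel k)]
  obtain ⟨e, he, f, hf, hef⟩ := hpair d₀ hd₀
  obtain ⟨j, hj⟩ := ncard_pow_three hs (fun y hy => hy.1) (hno d₀ hd₀) (hcl d₀) ⟨e, he⟩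
  obtain ⟨i, hi⟩ := ncard_pow_three hs (U := nbr D d₀ ∩ nbr D e₀) (fun y hy => hy.1.1)
    (fun a ha b hb => hno d₀ hd₀ a ha.1 b hb.1)
    (fun a ha b hb => ⟨hcl d₀ a ha.1 b hb.1, hcl e₀ a ha.2 b hb.2⟩) (hcommon d₀ e₀ hd₀ he₀ hde₀)
  have hj1 : 1 ≤ j := by
    by_contra! h
    obtain rfl : j = 0 := by omega
    exact hef ((Set.ncard_le_one_iff (Set.toFinite _)).1 (by rw [hj]; norm_num) he hf)
  have hij : i < j := by
    have hle : 3 ^ i ≤ 3 ^ j := hi ▸ hj ▸ Set.ncard_le_ncard Set.inter_subset_left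
    rcases (Nat.pow_le_pow_iff_right (by norm_num)).1 hle |>.lt_or_eq with h | h
    · exact h
    exfalso
    have e1 : nbr D d₀ ∩ nbr D e₀ = nbr D d₀ :=
      Set.eq_of_subset_of_ncard_le Set.inter_subset_left (by rw [hi, hj, h])
    have e2 : nbr D d₀ ∩ nbr D e₀ = nbr D e₀ :=
      Set.eq_of_subset_of_ncard_le Set.inter_subset_right (by rw [hi, hk e₀ he₀, hj, h])
    exact hde₀ (S.hD.wRel_eq_self h3 ⟨hd₀, he₀, e1.symm.trans e2⟩ ▸ Commute.refl d₀)
  -- the strongly regular graph
  letI : Fintype D := Fintype.ofFinite D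
  set Γ := Cfsg.commutingGraph D with hΓ
  have hadj : ∀ a b : D, Γ.Adj a b ↔ (b : G) ∈ nbr D a := by
    intro a b
    rw [hΓ]
    refine (SimpleGraph.fromRel_adj _ _ _).trans ?_
    exact ⟨fun ⟨h1, h2⟩ => ⟨b.2, fun k => h1 (Subtype.ext k.symm), h2.elim id Commute.symm⟩,
      fun ⟨_, h1, h2⟩ => ⟨fun k => h1 (congrArg Subtype.val k).symm, Or.inl h2⟩⟩
  have himg : ∀ U : Set G, U ⊆ D → ((Subtype.val : D → G) ⁻¹' U).ncard = U.ncard := fun U hU =>
    Set.ncard_preimage_of_injective_subset_range Subtype.val_injective (by simpa using hU)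
  have hnset : ∀ a : D, Γ.neighborSet a = (Subtype.val : D → G) ⁻¹' nbr D a := fun a =>
    Set.ext fun b => hadj a b
  have hcn : ∀ a b : D, Fintype.card (Γ.commonNeighbors a b) = (nbr D a ∩ nbr D b).ncard := by
    intro a b
    rw [← himg _ (fun y hy => hy.1.1), ← Nat.card_eq_fintype_card, Nat.card_coe_set_eq,
      SimpleGraph.commonNeighbors_eq, hnset, hnset]
    rfl
  have hsrg : Γ.IsSRGWith (Fintype.card D) (3 ^ j) 0 (3 ^ i) := by
    refine ⟨rfl, fun a => ?_, fun a b hab => ?_, fun a b hne hab => ?_⟩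
    · rw [← SimpleGraph.card_neighborSet_eq_degree, ← Nat.card_eq_fintype_card, Nat.card_coe_set_eq,
        hnset, himg _ (fun y hy => hy.1), hk a a.2, hj]
    · rw [hcn, Set.ncard_eq_zero]
      refine Set.eq_empty_iff_forall_notMem.2 fun z ⟨h1, h2⟩ => ?_
      have hb := (hadj a b).1 hab
      exact hno a a.2 _ hb z h1 (fun k => h2.2.1 k.symm) h2.2.2
    · rw [hcn, hμ a b a.2 b.2 fun k => hab ((hadj a b).2 ⟨b.2, fun k' => hne (Subtype.ext k'.symm), k⟩),
        hi]
  have hj2 : j = 1 := by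
    by_contra hne
    obtain ⟨j', rfl⟩ := Nat.exists_eq_add_of_le (show 2 ≤ j by omega)
    have hn : 0 < Fintype.card D := Fintype.card_pos_iff.2 ⟨⟨d₀, hd₀⟩⟩
    have hle : 3 ^ i ≤ 3 ^ (2 + j') := Nat.pow_le_pow_right (by norm_num) hij.le
    refine srg_irrational Γ hsrg hn ?_ (pow_pos (by norm_num) i) hle fun m hm => ?_
    · calc 2 < 3 ^ 1 := by norm_num
        _ ≤ _ := Nat.pow_le_pow_right (by norm_num) (by omega)
    rcases Nat.eq_zero_or_pos i with rfl | hi0
    · refine not_sq_three_pow_mul 1 (4 * 3 ^ (1 + j') - 1) m ?_ ?_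
      · have : 1 ≤ 3 ^ j' := Nat.one_le_pow _ _ (by norm_num)
        rw [pow_add, pow_one]
        omega
      · have : 1 ≤ 3 ^ j' := Nat.one_le_pow _ _ (by norm_num)
        rw [pow_zero, show 3 ^ (2 + j') = 9 * 3 ^ j' by rw [pow_add]; norm_num] at hm
        rw [pow_add, pow_one]
        omega
    · obtain ⟨d, hd⟩ := Nat.exists_eq_add_of_le hij.le
      have hd1 : 1 ≤ d := by omega
      obtain ⟨d', rfl⟩ := Nat.exists_eq_add_of_le hd1
      obtain ⟨i', rfl⟩ := Nat.exists_eq_add_of_le (show 1 ≤ i by omega)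
      refine not_sq_three_pow_mul (1 + i') (3 ^ (1 + i') + 4 * 3 ^ (1 + d') - 4) m ?_ ?_
      · have h1 : 1 ≤ 3 ^ i' := Nat.one_le_pow _ _ (by norm_num)
        have h2 : 1 ≤ 3 ^ d' := Nat.one_le_pow _ _ (by norm_num)
        rw [pow_add, pow_add, pow_one]
        omega
      · rw [hm, hd, pow_add _ (1 + i') (1 + d')]
        have h2 : 1 ≤ 3 ^ (1 + d') := Nat.one_le_pow _ _ (by norm_num)
        obtain ⟨c, hc'⟩ := Nat.exists_eq_add_of_le h2
        rw [hc', mul_add, mul_one, Nat.add_sub_cancel_left,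
          show 3 ^ (1 + i') + 4 * (1 + c) - 4 = 3 ^ (1 + i') + 4 * c by omega]
        ring
  subst hj2
  obtain rfl : i = 0 := by omega
  rw [pow_one] at hj
  rw [pow_zero] at hi
  -- three members commute with a member
  have honly : ∀ d ∈ D, ∀ e ∈ nbr D d, ∀ f ∈ nbr D d, e ≠ f → ∀ g ∈ nbr D d,
      g = e ∨ g = f ∨ g = e * f * e := by
    intro d hd e he f hf hef g hg
    by_contra! h
    have h1 : e * f * e ≠ e := fun k => hef (by
      have := congrArg (fun t => e * t * e) k
      simpa [mul_assoc, mul_self hs he.1, mul_self_mul hs he.1] using this.symm)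
    have h2 : e * f * e ≠ f := fun k => hno d hd e he f hf hef (by
      have := congrArg (fun t => t * e) k
      simp only [mul_assoc, mul_self hs he.1, mul_one] at this
      exact this)
    have hsub : ({e, f, e * f * e, g} : Set G) ⊆ nbr D d := by
      rintro y (rfl | rfl | rfl | rfl)
      exacts [he, hf, hcl d e he f hf, hg]
    have := Set.ncard_le_ncard hsub (Set.toFinite _)
    rw [hk d hd, hj, Set.ncard_insert_of_notMem (by simp [hef, h1.symm, h.1.symm]),
      Set.ncard_insert_of_notMem (by simp [h2.symm, h.2.1.symm]),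
      Set.ncard_pair h.2.2.symm] at this
    omega
  have hB : ∀ d ∈ D, ∀ x ∈ D, d ≠ x → ∀ e ∈ nbr D d, ∀ f ∈ nbr D d, e ≠ f → Commute x e →
      Commute x f → False := by
    intro d hd x hx hdx e he f hf hef hxe hxf
    have hdx' : ¬ Commute d x := by
      intro k
      have hxd : x ∈ nbr D d := ⟨hx, hdx.symm, k⟩
      by_cases hex : x = e
      · exact hno d hd x hxd f hf (hex ▸ hef) hxf
      · exact hno d hd x hxd e he hex hxe
    have h1 : e ∈ nbr D d ∩ nbr D x := ⟨he, he.1, fun k => hdx' (k ▸ he.2.2), hxe⟩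
    have h2 : f ∈ nbr D d ∩ nbr D x := ⟨hf, hf.1, fun k => hdx' (k ▸ hf.2.2), hxf⟩
    exact hef ((Set.ncard_le_one_iff (Set.toFinite _)).1 (by rw [hμ d x hd hx hdx', hi]) h1 h2)
  have hcore : ∀ d ∈ D, Nat.card (Cfsg.pCore 3 ↥(Subgroup.centralizer ({d} : Set G))) = 3 := by
    intro d hd
    haveI : Fact (Nat.Prime 3) := ⟨Nat.prime_three⟩
    set C := Subgroup.centralizer ({d} : Set G) with hC
    have hCd : ∀ g : C, Commute (g : G) d := fun g => Subgroup.mem_centralizer_singleton_iff.1 g.2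
    set O := Cfsg.pCore 3 C
    have hO : IsPGroup 3 O := CfsgLib.PCore.pCore_isPGroup
    obtain ⟨e, he, f, hf, hef⟩ := hpair d hd
    -- an element of odd order fixing a point of a set of three fixes all of it
    have hfix : ∀ (g : G) (p : ℕ), g ^ (3 ^ p) = 1 → ∀ (d : G), d ∈ D → Commute g d →
        ∀ a ∈ nbr D d, ∀ b ∈ nbr D d, Commute g a → Commute g b := by
      intro g p hg d hd hgd a ha b hb hga
      rcases eq_or_ne a b with rfl | hab
      · exact hga
      have h0 : ∀ {r : G}, r ∈ nbr D d → r ≠ a → g * r * g⁻¹ = b ∨ g * r * g⁻¹ = a * b * a := by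
        intro r hr hra
        rcases honly d hd a ha b hb hab _ (conj_mem_nbr hc hgd hr) with k | k | k
        · exact absurd (mul_left_cancel (mul_right_cancel
            (k.trans (conj_eq_of_commute hga).symm))) hra
        · exact Or.inl k
        · exact Or.inr k
      have hsq : Commute (g ^ 2) b := by
        rcases h0 hb hab.symm with k | k
        · exact (show Commute g b from mul_inv_eq_iff_eq_mul.1 k).pow_left 2
        · have haba : a * b * a ≠ a := fun k' => hab (by
            have := congrArg (fun t => a * t * a) k'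
            simpa [mul_assoc, mul_self hs ha.1, mul_self_mul hs ha.1] using this.symm)
          rcases h0 (hcl d a ha b hb) haba with k' | k'
          · refine mul_inv_eq_iff_eq_mul.1 ?_
            rw [pow_two, show g * g * b * (g * g)⁻¹ = g * (g * b * g⁻¹) * g⁻¹ by group, k, k']
          · exact (show Commute g b from mul_inv_eq_iff_eq_mul.1
              (by rw [k]; exact (mul_left_cancel (mul_right_cancel (k'.trans k.symm)) : a * b * a = b))).pow_left 2
      obtain ⟨q, hq⟩ : ∃ q, 3 ^ p = 2 * q + 1 := ⟨3 ^ p / 2, by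
        have : 3 ^ p % 2 = 1 := Nat.odd_iff.1 (Odd.pow (by decide))
        omega⟩
      have hgq : g = (g ^ 2) ^ (q + 1) := by
        rw [← pow_mul, show 2 * (q + 1) = 3 ^ p + 1 by omega, pow_succ, hg, one_mul]
      rw [hgq]
      exact hsq.pow_left _
    have hinj : ∀ g : C, g ∈ O → Commute (g : G) e → g = 1 := by
      intro g hg hge
      obtain ⟨p, hp⟩ := hO ⟨g, hg⟩
      have hp' : (g : G) ^ (3 ^ p) = 1 := by
        have := congrArg (fun t : O => ((t : C) : G)) hp
        simpa using this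
      have hall : ∀ a ∈ D, Commute (g : G) a := by
        intro a ha
        by_cases hda : Commute d a
        · rcases eq_or_ne a d with rfl | had
          · exact hCd g
          · exact hfix g p hp' d hd (hCd g) e he a ⟨ha, had, hda⟩ hge
        · obtain ⟨q, hq, hq'⟩ := hcommon d a hd ha hda
          have hgq := hfix g p hp' d hd (hCd g) e he q hq hge
          exact hfix g p hp' q hq.1 hgq d (nbr_symm hd hq) a (nbr_symm ha hq') (hCd g)
      have hcen := mem_center_of_commute S.hD.gen hall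
      rw [hZ, Subgroup.mem_bot] at hcen
      exact Subtype.ext hcen
    have hle : Nat.card O ≤ 3 := by
      have h1 : Function.Injective fun g : O => (⟨((g : C) : G) * e * ((g : C) : G)⁻¹,
          conj_mem_nbr hc (hCd g) he⟩ : nbr D d) := by
        intro g k hgk
        have hgk' := congrArg Subtype.val hgk
        simp only at hgk'
        have h2 := hinj ((k : C)⁻¹ * g) (mul_mem (inv_mem k.2) g.2) (mul_inv_eq_iff_eq_mul.1 (by
          push_cast
          rw [show ((k : C) : G)⁻¹ * (g : C) * e * (((k : C) : G)⁻¹ * (g : C))⁻¹ =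
            ((k : C) : G)⁻¹ * (((g : C) : G) * e * ((g : C) : G)⁻¹) * (k : C) by group, hgk']
          group))
        exact Subtype.ext (inv_mul_eq_one.1 h2).symm
      have := Nat.card_le_card_of_injective _ h1
      rwa [Nat.card_coe_set_eq, hk d hd, hj] at this
    set N := Subgroup.closure {z : G | ∃ a ∈ nbr D d, ∃ b ∈ nbr D d, z = a * b} with hN
    have hNp : IsPGroup 3 N := WidthOne.isPGroup_products
      { sq := fun a ha => mul_self hs ha.1
        braid := fun a ha b hb => by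
          rcases eq_or_ne a b with rfl | hab
          · rfl
          · exact braid hs ha.1 hb.1 (hno d hd a ha b hb hab)
        closed := hcl d }
    have hNn : (N.subgroupOf C).Normal := ⟨fun z hz g => by
      rw [Subgroup.mem_subgroupOf] at hz ⊢
      have : N ≤ N.comap (MulAut.conj (g : G)).toMonoidHom := by
        rw [hN, Subgroup.closure_le]
        rintro _ ⟨a, ha, b, hb, rfl⟩
        rw [SetLike.mem_coe, Subgroup.mem_comap]
        show (g : G) * (a * b) * (g : G)⁻¹ ∈ _
        exact Subgroup.subset_closure ⟨_, conj_mem_nbr hc (hCd g) ha, _,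
          conj_mem_nbr hc (hCd g) hb, by group⟩
      exact this hz⟩
    have hρ : e * f ∈ C := Subgroup.mem_centralizer_singleton_iff.2
      ((he.2.2.symm.mul_left hf.2.2.symm).eq)
    have hρO : (⟨e * f, hρ⟩ : C) ∈ O := CfsgLib.PCore.le_pCore hNn
      (CfsgLib.PCore.isPGroup_comap_of_injective hNp C.subtype C.subtype_injective)
      (Subgroup.subset_closure ⟨e, he, f, hf, rfl⟩ : e * f ∈ N)
    obtain ⟨t, ht⟩ := hO.exists_card_eq
    have ht1 : t ≠ 0 := by
      rintro rfl
      have : O = ⊥ := Subgroup.card_eq_one.1 (by rw [ht, pow_zero])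
      rw [this, Subgroup.mem_bot] at hρO
      exact hef ((mul_eq_one_iff_eq' hs hf.1).1 (congrArg Subtype.val hρO))
    rw [ht] at hle ⊢
    have : t = 1 := by
      by_contra ht2
      have : 3 ^ 2 ≤ 3 ^ t := Nat.pow_le_pow_right (by norm_num) (by omega)
      omega
    rw [this, pow_one]
  obtain ⟨φ⟩ := LocalSymThree.symFive_of_noCommon ⟨hc, hpair, hno, honly, hcore⟩ hB hd₀
  exact ⟨(Subgroup.topEquiv.symm.trans (MulEquiv.subgroupCongr S.hD.gen.symm)).trans φ⟩

end

end CfsgLib.ThreeTrans.InnerTwins
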