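import Mathlib
import Cfsg.Agent.Lib.ThreeTrans.Component

/-! The odd core of a group generated by a class of 3-transpositions is central unless the largest
normal 3-subgroup is not. -/

set_option autoImplicit false

namespace CfsgLib.ThreeTrans.ClassTwo

open CfsgLib.Components

variable {G : Type*} [Group G] [Finite G] {D : Set G} (hD : ClassTwo D)
include hD

/-- A component is not contained in the odd core. -/
theorem not_le_oddCore {L : Subgroup G} (hL : Cfsg.IsComponent L) : ¬ L ≤ Cfsg.oddCore G := by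
  intro hle
  have : Fact (Nat.Prime 2) := ⟨Nat.prime_two⟩
  have : Fact (Nat.Prime 3) := ⟨Nat.prime_three⟩
  have hs := hD.closed.set
  have := hD.component_normal hL
  obtain ⟨d, hd, -⟩ := hD.two
  set A := {x | ∃ g ∈ L, x = g * d * g⁻¹} with hA
  have hAD : A ⊆ D := by
    rintro _ ⟨g, -, rfl⟩
    exact hD.closed.conj g d hd
  have hd2 : d * d = 1 := mul_self hs hd
  have hodd : ∀ z ∈ L, z * z = 1 → z = 1 := by
    intro z hz h2
    have h2' : z ^ 2 = 1 := by rw [pow_two, h2]
    have h1 : orderOf z ∣ Nat.card (Cfsg.oddCore G) := by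
      rw [← Subgroup.orderOf_mk z (hle hz)]
      exact orderOf_dvd_natCard _
    exact orderOf_eq_one_iff.1 (Nat.eq_one_of_dvd_coprimes CfsgLib.PCore.pPrimeCore_coprime h1
      (orderOf_dvd_of_pow_eq_one h2'))
  have hnc : ∀ x ∈ A, ∀ y ∈ A, Commute x y → x = y := by
    rintro _ ⟨g, hg, rfl⟩ _ ⟨k, hk, rfl⟩ hxy
    have hm : g * d * g⁻¹ * (k * d * k⁻¹) ∈ L := by
      have h1 := mul_mem hg (mul_mem ((inferInstance : L.Normal).conj_mem _ (mul_mem (inv_mem hg) hk) d)
        (inv_mem hk))
      have : g * (d * (g⁻¹ * k) * d⁻¹ * k⁻¹) = g * d * g⁻¹ * (k * d * k⁻¹) := by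
        rw [inv_eq hs hd]; group
      rwa [this] at h1
    have h := hodd _ hm ?_
    · exact (mul_eq_one_iff_eq' hs (hAD ⟨k, hk, rfl⟩)).1 h
    · rw [← pow_two, sq_eq_one_iff hs (hAD ⟨g, hg, rfl⟩) (hAD ⟨k, hk, rfl⟩)]
      exact hxy
  have hconj : ∀ g ∈ L, ∀ x ∈ A, g * x * g⁻¹ ∈ A := by
    rintro g hg _ ⟨k, hk, rfl⟩
    exact ⟨g * k, mul_mem hg hk, by group⟩
  have hB : WidthOne.Braided A :=
    { sq := fun x hx => mul_self hs (hAD hx)
      braid := fun x hx y hy => by
        by_cases h : Commute x y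
        · rw [hnc x hx y hy h]
        · exact braid hs (hAD hx) (hAD hy) h
      closed := by
        rintro _ ⟨g, hg, rfl⟩ _ ⟨k, hk, rfl⟩
        refine ⟨g * (d * (g⁻¹ * k) * d⁻¹), mul_mem hg ((inferInstance : L.Normal).conj_mem _
          (mul_mem (inv_mem hg) hk) d), ?_⟩
        rw [inv_eq hs hd]
        simp only [mul_inv_rev, inv_inv, inv_eq hs hd, mul_assoc, mul_self_mul hs hd, mul_inv_cancel_left, inv_mul_cancel_left] }
  set P := Subgroup.closure {z : G | ∃ x ∈ A, ∃ y ∈ A, z = x * y} with hP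
  have hPp : IsPGroup 3 P := WidthOne.isPGroup_products hB
  have := hPp.isNilpotent
  refine hD.centralized_of_solvable hL.2 hd (B := P) inferInstance ?_ ?_
  · intro g hg z hz
    induction hz using Subgroup.closure_induction with
    | mem z hz =>
      obtain ⟨x, hx, y, hy, rfl⟩ := hz
      exact Subgroup.subset_closure ⟨_, hconj g hg x hx, _, hconj g hg y hy, by group⟩
    | one => simp
    | mul a b _ _ iha ihb => simpa [mul_assoc] using mul_mem iha ihb
    | inv a _ ih => simpa [mul_assoc] using inv_mem ih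
  · exact fun g hg => Subgroup.subset_closure ⟨_, ⟨g, hg, rfl⟩, d, ⟨1, one_mem _, by simp⟩, rfl⟩

theorem oddCore_le_center (h3 : Cfsg.pCore 3 G ≤ Subgroup.center G) :
    Cfsg.oddCore G ≤ Subgroup.center G := by
  classical
  have : Fact (Nat.Prime 2) := ⟨Nat.prime_two⟩
  have : Fact (Nat.Prime 3) := ⟨Nat.prime_three⟩
  have hs := hD.closed.set
  set O := Cfsg.oddCore G with hO
  have hOn : O.Normal := Cfsg.pPrimeCore_normal 2 G
  have hlayer : Cfsg.layer G ≤ Subgroup.centralizer (O : Set G) := by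
    refine sSup_le fun L hL => le_centralizer_of_commutator_eq_bot ?_
    exact (le_or_commutator_eq_bot hL hOn.isSubnormal).resolve_left (hD.not_le_oddCore hL)
  have hfit : Cfsg.fittingSubgroup G ≤ Subgroup.centralizer (O : Set G) := by
    rw [CfsgLib.Fitting.fitting_eq_iSup_pCore]
    refine iSup_le fun ⟨p, hp⟩ => ?_
    replace hp : p.Prime := Nat.prime_of_mem_primeFactors hp
    rcases eq_or_ne p 2 with rfl | hp2
    · exact CfsgLib.PCore.pCore_le_centralizer_pPrimeCore
    refine le_trans ?_ (Subgroup.center_le_centralizer _)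
    rcases eq_or_ne p 3 with rfl | hp3
    · exact h3
    · exact pCore_le_center_of_three_lt hD.closed hD.gen hp (show 3 < p by have h2 : 2 ≤ p := hp.two_le; omega)
  have hsub : Cfsg.generalizedFittingSubgroup G ≤ Subgroup.centralizer (O : Set G) := by
    rw [Cfsg.generalizedFittingSubgroup]
    exact sup_le hlayer hfit
  have hOF : O ≤ Cfsg.generalizedFittingSubgroup G :=
    fun g hg => centralizer_generalizedFitting_le (Subgroup.le_centralizer_iff.1 hsub hg)
  have hcomm : ∀ a ∈ O, ∀ b ∈ O, a * b = b * a :=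
    fun a ha b hb => (Subgroup.mem_centralizer_iff.1 (hsub (hOF hb)) a ha)
  set Ω : Subgroup G :=
    { carrier := {a | a ∈ O ∧ a ^ 3 = 1}
      mul_mem' := fun {a b} ha hb => ⟨mul_mem ha.1 hb.1, by
        rw [(show Commute a b from hcomm a ha.1 b hb.1).mul_pow, ha.2, hb.2, one_mul]⟩
      one_mem' := ⟨one_mem _, one_pow _⟩
      inv_mem' := fun {a} ha => ⟨inv_mem ha.1, by rw [inv_pow, ha.2, inv_one]⟩ } with hΩ
  have hΩn : Ω.Normal := ⟨fun a ha g => ⟨hOn.conj_mem a ha.1 g, by rw [conj_pow, ha.2]; group⟩⟩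
  have hΩp : IsPGroup 3 Ω := fun a => ⟨1, Subtype.ext (by simpa using a.2.2)⟩
  intro g hg
  refine mem_center_of_commute hD.gen fun d hd => ?_
  have hn := hD.closed.conj g d hd
  set t := g * d * g⁻¹ * d with ht
  have htO : t ∈ O := by
    have := mul_mem hg (hOn.conj_mem g⁻¹ (inv_mem hg) d)
    rw [inv_eq hs hd] at this
    simpa [ht, mul_assoc] using this
  have hodd : ∀ z ∈ O, z * z = 1 → z = 1 := by
    intro z hz h2
    have h2' : z ^ 2 = 1 := by rw [pow_two, h2]
    have h1 : orderOf z ∣ Nat.card O := by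
      rw [← Subgroup.orderOf_mk z hz]
      exact orderOf_dvd_natCard _
    exact orderOf_eq_one_iff.1 (Nat.eq_one_of_dvd_coprimes CfsgLib.PCore.pPrimeCore_coprime h1
      (orderOf_dvd_of_pow_eq_one h2'))
  have h1 : t = 1 := by
    rcases hs.2 _ hn d hd with h | h
    · exact hodd t htO (by rw [← pow_two]; exact h)
    · have hc : t ∈ Subgroup.center G :=
        h3 (CfsgLib.PCore.le_pCore hΩn hΩp (show t ∈ Ω from ⟨htO, h⟩))
      refine hodd t htO ?_
      have e := Subgroup.mem_center_iff.1 hc d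
      have e3 : t⁻¹ = d * t * d := by
        rw [ht, mul_inv_rev, inv_eq hs hd, inv_eq hs hn]
        simp [mul_assoc, mul_self hs hd]
      rw [e, mul_assoc, mul_self hs hd, mul_one] at e3
      rw [← mul_eq_one_iff_eq_inv.2 e3.symm]
  have h2 := (mul_eq_one_iff_eq' hs hd).1 h1
  exact mul_inv_eq_iff_eq_mul.1 h2

end CfsgLib.ThreeTrans.ClassTwo
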