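import Mathlib
import Cfsg.Prelude.Def_FischerSpaces
import Cfsg.Agent.Lib.Orth.ClassRefl
import Cfsg.Agent.Lib.ThreeTrans.Primitive

/-! The reflection classes of orthogonal spaces over the field with three elements. -/

namespace CfsgLib.ThreeTrans.ReflClass

open QuadraticMap CfsgLib.Orth

variable {n : ℕ} {Q : QuadraticForm (ZMod 3) (Fin n → ZMod 3)} {c : ZMod 3}

local notation "V" => Fin n → ZMod 3

theorem two_ne : (2 : ZMod 3) ≠ 0 := by decide

theorem scalar_cases : ∀ s : ZMod 3, s = 0 ∨ s = 1 ∨ s = -1 := by decide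

theorem eq_or_neg_of_smul {u v : V} {s : ZMod 3} (hv : Q v ≠ 0) (h : v = s • u) : v = u ∨ v = -u := by
  rcases scalar_cases s with rfl | rfl | rfl
  · exact absurd (by rw [h, zero_smul, QuadraticMap.map_zero]) hv
  · exact Or.inl (by rw [h, one_smul])
  · exact Or.inr (by rw [h, neg_smul, one_smul])

theorem smul_of_double {u v : V} {k : ZMod 3} (h : v - k • u = -v) : v = (-k) • u := by
  funext i
  have key : ∀ a b k : ZMod 3, b - k * a = -b → b = -k * a := by decide
  exact key _ _ _ (congrFun h i)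

theorem refl_eq_iff {u v : V} (hv : Q v ≠ 0) : refl Q u = refl Q v ↔ v = u ∨ v = -u := by
  constructor
  · intro h
    have h1 := app_refl_self (Q := Q) hv
    rw [← h, app_refl] at h1
    exact eq_or_neg_of_smul hv (smul_of_double h1)
  · rintro (rfl | rfl)
    · rfl
    · rw [refl_neg]

theorem commute_iff {u v : V} (hu : Q u ≠ 0) (hv : Q v ≠ 0) :
    Commute (refl Q u) (refl Q v) ↔ polar Q u v = 0 ∨ v = u ∨ v = -u := by
  constructor
  · intro h
    have h1 := refl_conj (refl Q u) v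
    rw [h.eq, mul_assoc, mul_inv_cancel, mul_one, refl_eq_iff (by rwa [Q_app]), app_refl] at h1
    rcases h1 with h1 | h1
    · left
      rw [sub_eq_self, smul_eq_zero] at h1
      rcases h1 with h1 | h1
      · rw [polar_comm]
        exact (mul_eq_zero.1 h1).resolve_left (inv_ne_zero hu)
      · exact absurd (by rw [h1, QuadraticMap.map_zero]) hu
    · right
      exact eq_or_neg_of_smul hv (smul_of_double h1)
  · rintro (h | rfl | rfl)
    · have h1 := refl_conj (refl Q u) v
      rw [app_refl_of_ortho (by rwa [polar_comm]), mul_inv_eq_iff_eq_mul] at h1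
      exact h1
    · exact Commute.refl _
    · rw [refl_neg]

theorem refl_mem {v : V} (hv : Q v = c) : refl Q v ∈ Cfsg.reflectionsOfNorm (⇑Q) c :=
  ⟨v, hv, coe_refl Q v⟩

theorem eq_refl_of_mem {g : O Q} (hg : g ∈ Cfsg.reflectionsOfNorm (⇑Q) c) :
    ∃ v, Q v = c ∧ g = refl Q v := by
  obtain ⟨v, hv, h⟩ := hg
  exact ⟨v, hv, Subtype.ext (Units.ext (h.trans (coe_refl Q v).symm))⟩

/-- The reflections of norm `c` inside the subgroup they generate. -/
def cls (Q : QuadraticForm (ZMod 3) (Fin n → ZMod 3)) (c : ZMod 3) :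
    Set ↥(Cfsg.reflectionSubgroup (⇑Q) c) :=
  {g | (g : ↥(Cfsg.isometryGroup (ZMod 3) (⇑Q))) ∈ Cfsg.reflectionsOfNorm (⇑Q) c}

/-- A reflection of norm `c` as a member of the class. -/
noncomputable def rc (v : Fin n → ZMod 3) (hv : Q v = c) : ↥(Cfsg.reflectionSubgroup (⇑Q) c) :=
  ⟨refl Q v, Subgroup.subset_closure (refl_mem hv)⟩

theorem rc_mem {v : V} (hv : Q v = c) : rc v hv ∈ cls Q c := refl_mem hv

theorem exists_rc {g : ↥(Cfsg.reflectionSubgroup (⇑Q) c)} (hg : g ∈ cls Q c) :
    ∃ v, ∃ hv : Q v = c, g = rc v hv := by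
  obtain ⟨v, hv, h⟩ := eq_refl_of_mem (Q := Q) (show (g : O Q) ∈ _ from hg)
  exact ⟨v, hv, Subtype.ext h⟩

theorem rc_eq_iff (hc : c ≠ 0) {u v : V} (hu : Q u = c) (hv : Q v = c) :
    rc u hu = rc v hv ↔ v = u ∨ v = -u := by
  rw [← refl_eq_iff (by rwa [hv])]
  exact Subtype.ext_iff

theorem rc_commute_iff (hc : c ≠ 0) {u v : V} (hu : Q u = c) (hv : Q v = c) :
    Commute (rc u hu) (rc v hv) ↔ polar Q u v = 0 ∨ v = u ∨ v = -u := by
  rw [← commute_iff (by rwa [hu]) (by rwa [hv])]
  exact Subtype.ext_iff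

theorem reflectionSubgroup_eq :
    Cfsg.reflectionSubgroup (⇑Q) c =
      Subgroup.closure {g : O Q | ∃ (v : V) (t : ZMod 3), t ≠ 0 ∧ Q v = c * t ^ 2 ∧ g = refl Q v} := by
  refine congrArg Subgroup.closure (Set.ext fun g => ⟨fun hg => ?_, ?_⟩)
  · obtain ⟨v, hv, rfl⟩ := eq_refl_of_mem hg
    exact ⟨v, 1, one_ne_zero, by simp [hv], rfl⟩
  · rintro ⟨v, t, ht, hv, rfl⟩
    have key : ∀ t : ZMod 3, t ≠ 0 → t ^ 2 = 1 := by decide
    exact refl_mem (by rw [hv, key t ht, mul_one])

variable (hQ : (QuadraticMap.polarBilin Q).Nondegenerate) (hn : 5 ≤ n) (hc : c ≠ 0)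
include hQ hn hc

theorem index_eq_two : (Cfsg.reflectionSubgroup (⇑Q) c).index = 2 := by
  rw [reflectionSubgroup_eq]
  exact classRefl_index hQ two_ne (by simp; omega) (Or.inl (by simpa using hn)) hc

theorem exists_perp {u : V} (hu : Q u ≠ 0) (a : ZMod 3) : ∃ w, polar Q u w = 0 ∧ Q w = a := by
  have hu0 : u ≠ 0 := fun h => hu (by rw [h, QuadraticMap.map_zero])
  obtain ⟨y, hy, hyQ⟩ : ∃ y, polar Q u y = 0 ∧ Q y ≠ 0 := by
    by_contra! hall
    have := two_finrank_le hQ
      (W := LinearMap.BilinForm.orthogonal Q.polarBilin (Submodule.span (ZMod 3) {u}))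
      fun x hx => hall x
        (LinearMap.BilinForm.mem_orthogonal_iff.1 hx u (Submodule.mem_span_singleton_self u))
    rw [LinearMap.BilinForm.finrank_orthogonal hQ, Module.finrank_fintype_fun_eq_card,
      finrank_span_singleton hu0, Fintype.card_fin] at this
    omega
  obtain ⟨w, hw, -, hwQ⟩ := exists_ortho_value hQ two_ne (by simpa using hn) hu0 hyQ hy a
  exact ⟨w, hw, hwQ⟩

theorem exists_conj {u v : V} (hu : Q u = c) (hv : Q v = c) :
    ∃ g : ↥(Cfsg.reflectionSubgroup (⇑Q) c), g * rc u hu * g⁻¹ = rc v hv := by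
  obtain ⟨g, hg⟩ := conj_of_eq_value two_ne (show Q u ≠ 0 by rwa [hu]) (hu.trans hv.symm)
  by_cases hgR : g ∈ Cfsg.reflectionSubgroup (⇑Q) c
  · exact ⟨⟨g, hgR⟩, Subtype.ext hg⟩
  obtain ⟨w, huw, hw⟩ := exists_perp hQ hn hc (show Q u ≠ 0 by rwa [hu]) (-c)
  have hwR : refl Q w ∉ Cfsg.reflectionSubgroup (⇑Q) c := by
    intro h
    have hle : Cfsg.reflectionSubgroup (⇑Q) c ≤ (chi Q (-c)).ker := by
      refine (Subgroup.closure_le _).2 fun x hx => ?_
      obtain ⟨z, hz, rfl⟩ := eq_refl_of_mem hx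
      rw [SetLike.mem_coe, MonoidHom.mem_ker, chi_refl two_ne (by rwa [hz]) (neg_ne_zero.2 hc), if_neg]
      rintro ⟨r, hr⟩
      rw [hz] at hr
      have key : ∀ c r : ZMod 3, c ≠ 0 → -c * c ≠ r * r := by decide
      exact key c r hc hr
    have := MonoidHom.mem_ker.1 (hle h)
    rw [chi_refl two_ne (by rw [hw]; exact neg_ne_zero.2 hc) (neg_ne_zero.2 hc), hw,
      if_pos (IsSquare.mul_self _)] at this
    exact absurd this (by decide)
  have hcomm : Commute (refl Q w) (refl Q u) :=
    (commute_iff (by rw [hw]; exact neg_ne_zero.2 hc) (by rwa [hu])).2 (Or.inl (by rwa [polar_comm]))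
  refine ⟨⟨g * refl Q w, (Subgroup.mul_mem_iff_of_index_two (index_eq_two hQ hn hc)).2
    (iff_of_false hgR hwR)⟩, Subtype.ext ?_⟩
  show g * refl Q w * refl Q u * (g * refl Q w)⁻¹ = refl Q v
  rw [mul_inv_rev, ← hg, mul_assoc g, hcomm.eq]
  group

omit hQ hn in
theorem isThreeTranspositionSet : Cfsg.IsThreeTranspositionSet (cls Q c) := by
  constructor
  · intro d hd
    obtain ⟨v, hv, rfl⟩ := exists_rc hd
    refine orderOf_eq_prime (by rw [pow_two]; exact Subtype.ext (refl_mul_self v)) fun h => ?_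
    have h1 := app_refl_self (Q := Q) (show Q v ≠ 0 by rwa [hv])
    rw [show refl Q v = 1 from congrArg Subtype.val h, app_one] at h1
    have h2 : v = 0 := funext fun i => by
      have key : ∀ a : ZMod 3, a = -a → a = 0 := by decide
      exact key _ (congrFun h1 i)
    rw [h2, QuadraticMap.map_zero] at hv
    exact hc hv.symm
  · intro d hd e he
    obtain ⟨u, hu, rfl⟩ := exists_rc hd
    obtain ⟨v, hv, rfl⟩ := exists_rc he
    have hinv : ∀ w, (refl Q w)⁻¹ = refl Q w := refl_inv
    have a : refl Q u * refl Q v * refl Q u = refl Q (v - ((Q u)⁻¹ * polar Q v u) • u) := by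
      have := refl_conj (refl Q u) v
      rwa [hinv, app_refl] at this
    have b : refl Q v * refl Q u * refl Q v = refl Q (u - ((Q v)⁻¹ * polar Q u v) • v) := by
      have := refl_conj (refl Q v) u
      rwa [hinv, app_refl] at this
    rw [polar_comm, hu] at a
    rw [hv] at b
    rcases scalar_cases (c⁻¹ * polar Q u v) with h | h | h
    · left
      rw [h, zero_smul, sub_zero] at a
      apply Subtype.ext
      show (refl Q u * refl Q v) ^ 2 = 1
      rw [pow_two, ← mul_assoc, a, refl_mul_self]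
    all_goals
      right
      rw [h] at a b
      have heq : refl Q u * refl Q v * refl Q u = refl Q v * refl Q u * refl Q v := by
        rw [a, b]
        first
          | (rw [one_smul, one_smul, ← refl_neg, neg_sub])
          | (congr 1; module)
      apply Subtype.ext
      show (refl Q u * refl Q v) ^ 3 = 1
      calc (refl Q u * refl Q v) ^ 3
          = (refl Q u * refl Q v * refl Q u) * (refl Q v * refl Q u * refl Q v) := by
            simp [pow_succ, mul_assoc]
        _ = 1 := by rw [← heq, a, refl_mul_self]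

theorem isThreeTranspositionClass : Cfsg.IsThreeTranspositionClass (cls Q c) := by
  refine ⟨isThreeTranspositionSet hc, ?_, Subgroup.closure_closure_coe_preimage⟩
  obtain ⟨v, hv⟩ := exists_value_ne hQ two_ne (by simp; omega) hc
  refine ⟨rc v hv, rc_mem hv, Set.ext fun x => ⟨fun hx => ?_, fun hx => ?_⟩⟩
  · obtain ⟨w, hw, rfl⟩ := exists_rc hx
    exact isConj_iff.2 (exists_conj hQ hn hc hv hw)
  · obtain ⟨g, rfl⟩ := isConj_iff.1 (show IsConj _ x from hx)
    show (g : O Q) * refl Q v * (g : O Q)⁻¹ ∈ Cfsg.reflectionsOfNorm (⇑Q) c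
    rw [refl_conj]
    exact refl_mem (by rw [Q_app, hv])

theorem exists_commuting_pair : ∃ a ∈ cls Q c, ∃ b ∈ cls Q c, a ≠ b ∧ Commute a b := by
  obtain ⟨u, hu⟩ := exists_value_ne hQ two_ne (by simp; omega) hc
  obtain ⟨w, huw, hw⟩ := exists_perp hQ hn hc (show Q u ≠ 0 by rwa [hu]) c
  refine ⟨rc u hu, rc_mem hu, rc w hw, rc_mem hw, fun h => ?_,
    (rc_commute_iff hc hu hw).2 (Or.inl huw)⟩
  rcases (rc_eq_iff hc hu hw).1 h with rfl | rfl
  · rw [polar_self', hu] at huw
    exact hc ((mul_eq_zero.1 huw).resolve_left two_ne)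
  · rw [polar_neg_right, polar_self', hu, neg_eq_zero] at huw
    exact hc ((mul_eq_zero.1 huw).resolve_left two_ne)

theorem classTwo : ClassTwo (cls Q c) := by
  obtain ⟨a, ha, b, hb, hne, -⟩ := exists_commuting_pair hQ hn hc
  exact classTwo_of (isThreeTranspositionClass hQ hn hc) ⟨a, ha, b, hb, hne⟩

omit hQ hn hc in
theorem singular_three : ∀ a b d e f g : ZMod 3, ∃ x y z : ZMod 3,
    ¬ (x = 0 ∧ y = 0 ∧ z = 0) ∧
      x * x * a + y * y * b + z * z * d + x * y * e + x * z * f + y * z * g = 0 := by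
  decide +kernel

theorem exists_singular_perp {u w : V} :
    ∃ y, y ≠ 0 ∧ polar Q u y = 0 ∧ polar Q w y = 0 ∧ Q y = 0 := by
  set W := LinearMap.BilinForm.orthogonal Q.polarBilin
    (Submodule.span (ZMod 3) {u} ⊔ Submodule.span (ZMod 3) {w})
  have hsp : ∀ x : V, Module.finrank (ZMod 3) (Submodule.span (ZMod 3) {x}) ≤ 1 := fun x => by
    rcases eq_or_ne x 0 with rfl | hx
    · rw [Submodule.span_zero_singleton, finrank_bot]
      exact Nat.zero_le _
    · rw [finrank_span_singleton hx]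
  have hW : 3 ≤ Module.finrank (ZMod 3) W := by
    rw [LinearMap.BilinForm.finrank_orthogonal hQ, Module.finrank_fintype_fun_eq_card, Fintype.card_fin]
    have := Submodule.finrank_add_le_finrank_add_finrank
      (Submodule.span (ZMod 3) {u}) (Submodule.span (ZMod 3) {w})
    have := hsp u
    have := hsp w
    omega
  obtain ⟨e, he⟩ := exists_linearIndependent_of_le_finrank hW
  obtain ⟨x, y, z, hne, h0⟩ := singular_three (Q (e 0 : V)) (Q (e 1 : V)) (Q (e 2 : V))
    (polar Q (e 0 : V) (e 1 : V)) (polar Q (e 0 : V) (e 2 : V)) (polar Q (e 1 : V) (e 2 : V))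
  set s : W := x • e 0 + y • e 1 + z • e 2
  have hs := s.2
  rw [LinearMap.BilinForm.mem_orthogonal_iff] at hs
  refine ⟨(s : V), fun h => hne ?_, hs u (Submodule.mem_sup_left (Submodule.mem_span_singleton_self u)),
    hs w (Submodule.mem_sup_right (Submodule.mem_span_singleton_self w)), ?_⟩
  · have h' : ∑ i : Fin 3, ![x, y, z] i • e i = 0 := by
      rw [Fin.sum_univ_three]
      exact Subtype.ext h
    have := Fintype.linearIndependent_iff.1 he ![x, y, z] h'
    exact ⟨this 0, this 1, this 2⟩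
  · simp only [s, Submodule.coe_add, Submodule.coe_smul, QuadraticMap.map_add ⇑Q,
      QuadraticMap.map_smul, polar_add_left, polar_smul_left, polar_smul_right, smul_eq_mul]
    linear_combination h0

omit hn in
/-- a vector of norm `c` orthogonal to `u` and not to `w` -/
theorem exists_separating {u w : V} (hu : Q u = c) (hw : Q w = c) (huw : polar Q u w ≠ 0)
    (h1 : w ≠ u) (h2 : w ≠ -u) : ∃ x, Q x = c ∧ polar Q u x = 0 ∧ polar Q w x ≠ 0 := by
  set p := polar Q u w
  set k := -p * c with hk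
  set b := w - k • u with hb
  have key1 : ∀ c p : ZMod 3, c ≠ 0 → p + -(-p * c) * (2 * c) = 0 := by decide
  have key2 : ∀ c p : ZMod 3, c ≠ 0 → p ≠ 0 → c + (-p * c) * (-p * c) * c - (-p * c) * p = 0 := by decide
  have hub : polar Q u b = 0 := by
    rw [hb, polar_sub_right, polar_smul_right, polar_self', hu, smul_eq_mul, hk, sub_eq_add_neg,
      ← neg_mul]
    exact key1 c p hc
  have hQb : Q b = 0 := by
    rw [hb, sub_eq_add_neg, ← neg_smul, QuadraticMap.map_add ⇑Q, QuadraticMap.map_smul,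
      polar_smul_right, polar_comm, hu, hw, smul_eq_mul, smul_eq_mul, neg_mul_neg, ← key2 c p hc huw,
      hk]
    ring
  have hbnot : b ∉ Submodule.span (ZMod 3) {u} := by
    intro h
    obtain ⟨s, hs⟩ := Submodule.mem_span_singleton.1 h
    have hwu : w = (k + s) • u := by rw [add_smul, hs, hb]; abel
    rcases eq_or_neg_of_smul (Q := Q) (by rwa [hw]) hwu with h' | h'
    · exact h1 h'
    · exact h2 h'
  obtain ⟨a, hua, hba⟩ := exists_polar_eq_zero_one hQ hbnot
  refine ⟨a + (c - Q a) • b, ?_, ?_, ?_⟩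
  · rw [QuadraticMap.map_add ⇑Q, QuadraticMap.map_smul, polar_smul_right, polar_comm, hba, hQb,
      smul_eq_mul, smul_eq_mul]
    ring
  · rw [polar_add_right, polar_smul_right, hua, hub, smul_zero, add_zero]
  · have hww : w = b + k • u := by rw [hb]; abel
    rw [hww, polar_add_left, polar_smul_left, polar_add_right, polar_add_right, polar_smul_right,
      polar_smul_right, hba, hua, hub, polar_self', hQb]
    simp

theorem cores_central : Cfsg.pCore 2 ↥(Cfsg.reflectionSubgroup (⇑Q) c) ≤ Subgroup.center _ ∧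
    Cfsg.pCore 3 ↥(Cfsg.reflectionSubgroup (⇑Q) c) ≤ Subgroup.center _ := by
  have hD := classTwo hQ hn hc
  obtain ⟨a, ha, -⟩ := hD.two
  constructor <;> by_contra h
  · obtain ⟨v, hv, hne⟩ := hD.exists_vRel_ne h ha
    obtain ⟨u, hu, rfl⟩ := exists_rc ha
    obtain ⟨w, hw, rfl⟩ := exists_rc hv.2.1
    have hne' : ¬ (w = u ∨ w = -u) := fun h => hne ((rc_eq_iff hc hu hw).2 h).symm
    have huw : polar Q u w = 0 :=
      ((rc_commute_iff hc hu hw).1 hv.commute).resolve_right hne'
    obtain ⟨y, hy0, huy, hwy, hy⟩ := exists_singular_perp hQ hn hc (u := u) (w := w)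
    have hx : Q (w + y) = c := by rw [QuadraticMap.map_add ⇑Q, hw, hy, hwy]; simp
    have hcomm := (hv.2.2 _ (rc_mem hx)).2 ((rc_commute_iff hc hu hx).2
      (Or.inl (by rw [polar_add_right, huw, huy, add_zero])))
    rcases (rc_commute_iff hc hw hx).1 hcomm with h' | h' | h'
    · rw [polar_add_right, polar_self', hwy, hw, add_zero] at h'
      exact hc ((mul_eq_zero.1 h').resolve_left two_ne)
    · exact hy0 (by simpa using h')
    · have hyw : y = w := funext fun i => by
        have key : ∀ a b : ZMod 3, a + b = -a → b = a := by decide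
        exact key _ _ (congrFun h' i)
      rw [hyw, hw] at hy
      exact hc hy
  · obtain ⟨v, hv, hne⟩ := hD.exists_wRel_ne h ha
    obtain ⟨u, hu, rfl⟩ := exists_rc ha
    obtain ⟨w, hw, rfl⟩ := exists_rc hv.2.1
    have hnc := hv.not_commute fun h => hne h.symm
    rw [rc_commute_iff hc hu hw, not_or, not_or] at hnc
    obtain ⟨x, hx, hux, hwx⟩ := exists_separating hQ hc hu hw hnc.1 hnc.2.1 hnc.2.2
    have hcu : Commute (rc u hu) (rc x hx) := (rc_commute_iff hc hu hx).2 (Or.inl hux)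
    have hxu : rc x hx ≠ rc u hu := by
      intro h'
      rcases (rc_eq_iff hc hx hu).1 h' with e | e
      · rw [← e, polar_self', hu] at hux
        exact hc ((mul_eq_zero.1 hux).resolve_left two_ne)
      · rw [e, polar_neg_left, polar_self', hx, neg_eq_zero] at hux
        exact hc ((mul_eq_zero.1 hux).resolve_left two_ne)
    have hxw : rc x hx ≠ rc w hw := by
      intro h'
      rcases (rc_eq_iff hc hx hw).1 h' with e | e
      · rw [← e] at hux; exact hnc.1 hux
      · rw [e] at hnc; exact hnc.1 (by rw [polar_neg_right, hux, neg_zero])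
    rcases (rc_commute_iff hc hw hx).1 ((hv.commute_iff (rc_mem hx) hxu hxw).1 hcu) with e | e | e
    · exact hwx e
    · exact hxw ((rc_eq_iff hc hx hw).2 (Or.inl e.symm))
    · exact hxw ((rc_eq_iff hc hx hw).2 (Or.inr (by rw [e, neg_neg])))

theorem connected : (Cfsg.commutingGraph (cls Q c)).Connected := by
  have hD := classTwo hQ hn hc
  obtain ⟨a, ha, -⟩ := hD.two
  haveI : Nonempty (cls Q c) := ⟨⟨a, ha⟩⟩
  have step : ∀ p q : cls Q c, Commute (p : ↥(Cfsg.reflectionSubgroup (⇑Q) c)) q →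
      (Cfsg.commutingGraph (cls Q c)).Reachable p q := fun p q h => by
    rcases eq_or_ne p q with rfl | hne
    · exact SimpleGraph.Reachable.refl _
    · exact SimpleGraph.Adj.reachable ((SimpleGraph.fromRel_adj _ _ _).2 ⟨hne, Or.inl h⟩)
  refine ⟨fun p q => ?_⟩
  obtain ⟨p, hp⟩ := p
  obtain ⟨q, hq⟩ := q
  obtain ⟨u, hu, rfl⟩ := exists_rc hp
  obtain ⟨w, hw, rfl⟩ := exists_rc hq
  by_cases hcom : Commute (rc u hu) (rc w hw)
  · exact step _ _ hcom
  rw [rc_commute_iff hc hu hw, not_or, not_or] at hcom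
  set k := (polar Q u w) * (2 * c)⁻¹ with hk
  set b := w - k • u with hb
  have hub : polar Q u b = 0 := by
    rw [hb, polar_sub_right, polar_smul_right, polar_self', hu, smul_eq_mul, hk,
      inv_mul_cancel_right₀ (mul_ne_zero two_ne hc), sub_self]
  have hb0 : b ≠ 0 := by
    intro h0
    rcases eq_or_neg_of_smul (Q := Q) (by rwa [hw]) (sub_eq_zero.1 h0) with h' | h'
    · exact hcom.2.1 h'
    · exact hcom.2.2 h'
  obtain ⟨x, hbx, hux, hx⟩ := exists_ortho_value hQ two_ne (by simpa using hn) hb0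
    (show Q u ≠ 0 by rwa [hu]) (by rwa [polar_comm]) c
  have hwx : polar Q w x = 0 := by
    rw [show w = b + k • u by rw [hb]; abel, polar_add_left, polar_smul_left, hbx, hux, smul_zero,
      add_zero]
  exact (step ⟨_, hp⟩ ⟨rc x hx, rc_mem hx⟩ ((rc_commute_iff hc hu hx).2 (Or.inl hux))).trans
    (step _ ⟨_, hq⟩ ((rc_commute_iff hc hw hx).2 (Or.inl hwx)).symm)

theorem structure_thm :
    Cfsg.IsQuasisimple (commutator ↥(Cfsg.reflectionSubgroup (⇑Q) c)) ∧
      (commutator ↥(Cfsg.reflectionSubgroup (⇑Q) c)).index ≤ 2 ∧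
      Cfsg.generalizedFittingSubgroup ↥(Cfsg.reflectionSubgroup (⇑Q) c) =
        Subgroup.center ↥(Cfsg.reflectionSubgroup (⇑Q) c) ⊔ commutator ↥(Cfsg.reflectionSubgroup (⇑Q) c) ∧
      Cfsg.IsPrimitiveUnderConj (cls Q c) := by
  have hD := classTwo hQ hn hc
  obtain ⟨h2, h3⟩ := cores_central hQ hn hc
  obtain ⟨L, hL⟩ := hD.exists_component h2 h3
  haveI := hD.component_normal hL
  have hi := hD.index_le_two_of_connected hL (connected hQ hn hc)
  have hLe : commutator ↥(Cfsg.reflectionSubgroup (⇑Q) c) = L := hD.commutator_eq_component hL hi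
  rw [hLe]
  refine ⟨hL.2, hi, ?_, hD.primitive_of_index_le_two h2 h3 hL hi⟩
  rw [Cfsg.generalizedFittingSubgroup, hD.layer_eq hL, hD.fitting_eq_center h2 h3, sup_comm]

end CfsgLib.ThreeTrans.ReflClass
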