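import Cfsg.Agent.Lib.Orth.CharTwo
import Cfsg.Prelude.Def_FischerSpaces

/-!
The orthogonal transvections over the field with two elements form a generating class of
3-transpositions (dimension other than four).
-/

set_option autoImplicit false
set_option linter.unusedSectionVars false

namespace CfsgLib.ThreeTrans.TransvecTwo

open Matrix QuadraticMap CfsgLib.Orth

variable {ι : Type} [Fintype ι] [DecidableEq ι] {Q : QuadraticForm (ZMod 2) (ι → ZMod 2)}

theorem eq_one_of_ne {a : ZMod 2} (h : a ≠ 0) : a = 1 := by revert a; decide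

theorem app_refl_add {v : ι → ZMod 2} (hv : Q v ≠ 0) (x : ι → ZMod 2) :
    app (refl Q v) x = x + polar Q x v • v := by
  rw [app_refl, eq_one_of_ne hv, inv_one, one_mul, sub_eq_add_neg, ← neg_smul, CharTwo.neg_eq]

/-- the matrix of `g - 1` is minus the difference map -/
theorem range_sub_one (g : O Q) :
    LinearMap.range (((g : Matrix.GeneralLinearGroup ι (ZMod 2)) : Matrix ι ι (ZMod 2)) - 1).mulVecLin
      = movS g := by
  ext y
  rw [LinearMap.mem_range, mem_movS]
  refine exists_congr fun a => ?_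
  have : (-1 : ZMod 2) = 1 := by decide
  rw [Matrix.mulVecLin_apply, Matrix.sub_mulVec, Matrix.one_mulVec, ← app_apply,
    show app g a - a = a - app g a from funext fun i => by
      simp only [Pi.sub_apply, CharTwo.sub_eq_add, add_comm]]

/-- the rank one isometries are exactly the transvections -/
theorem rank_one_iff (hQ : Q.polarBilin.Nondegenerate) (g : O Q) :
    (((g : Matrix.GeneralLinearGroup ι (ZMod 2)) : Matrix ι ι (ZMod 2)) - 1).rank = 1
      ↔ ∃ v, Q v ≠ 0 ∧ g = refl Q v := by
  rw [Matrix.rank, range_sub_one]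
  constructor
  · intro h
    obtain ⟨v, hv0, hv⟩ := finrank_eq_one_iff'.mp h
    have hd : ∀ x, x - app g x = 0 ∨ x - app g x = (v : ι → ZMod 2) := fun x => by
      obtain ⟨c, hc⟩ := hv ⟨x - app g x, mem_movS.2 ⟨x, rfl⟩⟩
      have hc' : c • (v : ι → ZMod 2) = x - app g x := congrArg Subtype.val hc
      rcases eq_or_ne c 0 with rfl | hc0
      · exact Or.inl (by rw [← hc', zero_smul])
      · exact Or.inr (by rw [← hc', eq_one_of_ne hc0, one_smul])
    have hfix : ∀ x, app g x = x ↔ polar Q x (v : ι → ZMod 2) = 0 := fun x => by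
      refine ⟨fun hx => polar_fix_mov (mem_fixS.2 hx) v.2, fun hx => ?_⟩
      have : x ∈ fixS g := by
        rw [fixS_eq hQ, LinearMap.BilinForm.mem_orthogonal_iff]
        intro n hn
        obtain ⟨c, hc⟩ := hv ⟨n, hn⟩
        have hc' : c • (v : ι → ZMod 2) = n := congrArg Subtype.val hc
        change polar Q n x = 0
        rw [← hc', polar_smul_left, polar_comm, hx, smul_zero]
      exact mem_fixS.1 this
    obtain ⟨a, ha⟩ := mem_movS.1 v.2
    have hQv : Q (v : ι → ZMod 2) ≠ 0 := by
      intro hzero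
      have h1 := Q_mov g a
      rw [ha, hzero] at h1
      rw [(hfix a).2 h1.symm, sub_self] at ha
      exact hv0 (Subtype.ext ha.symm)
    refine ⟨v, hQv, ext_app fun x => ?_⟩
    rw [app_refl_add hQv]
    by_cases hx : polar Q x (v : ι → ZMod 2) = 0
    · rw [(hfix x).2 hx, hx, zero_smul, add_zero]
    · rcases hd x with h0 | h0
      · exact absurd ((hfix x).1 (sub_eq_zero.1 h0).symm) hx
      · rw [eq_one_of_ne hx, one_smul, ← h0]
        funext i
        simp only [Pi.add_apply, Pi.sub_apply]
        linear_combination -(CharTwo.add_self_eq_zero (x i)) + CharTwo.add_self_eq_zero (app g x i)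
  · rintro ⟨v, hv, rfl⟩
    have hv0 : v ≠ 0 := fun h => hv (by rw [h, QuadraticMap.map_zero])
    have : movS (refl Q v) = Submodule.span (ZMod 2) {v} := by
      refine le_antisymm (fun y hy => ?_) ?_
      · obtain ⟨a, rfl⟩ := mem_movS.1 hy
        rw [app_refl, sub_sub_cancel]
        exact Submodule.smul_mem _ _ (Submodule.mem_span_singleton_self v)
      · rw [Submodule.span_singleton_le_iff_mem, mem_movS]
        obtain ⟨a, ha⟩ := exists_polar_eq_one hQ hv0
        exact ⟨a, by rw [app_refl, sub_sub_cancel, polar_comm, ha, mul_one, eq_one_of_ne hv, inv_one,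
          one_smul]⟩
    rw [this, finrank_span_singleton hv0]

theorem refl_ne_one (hQ : Q.polarBilin.Nondegenerate) {v : ι → ZMod 2} (hv : Q v ≠ 0) :
    refl Q v ≠ 1 := by
  intro h
  obtain ⟨a, ha⟩ := exists_polar_eq_one hQ (v := v) fun h0 => hv (by rw [h0, QuadraticMap.map_zero])
  have h1 := app_refl_add hv a
  rw [h, app_one, polar_comm, ha, one_smul, left_eq_add] at h1
  exact hv (by rw [h1, QuadraticMap.map_zero])

/-- two transvections commute or satisfy the braid relation -/
theorem pow_two_or_three {u v : ι → ZMod 2} (hu : Q u ≠ 0) (hv : Q v ≠ 0) :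
    (refl Q u * refl Q v) ^ 2 = 1 ∨ (refl Q u * refl Q v) ^ 3 = 1 := by
  have key : ∀ {a b : ι → ZMod 2}, Q a ≠ 0 → refl Q a * refl Q b * refl Q a = refl Q (app (refl Q a) b) :=
    fun {a b} _ => by
      have := refl_conj (refl Q a) b
      rwa [refl_inv] at this
  by_cases h : polar Q u v = 0
  · left
    have h1 : refl Q u * refl Q v * refl Q u = refl Q v := by
      rw [key hu, app_refl_of_ortho (by rw [polar_comm]; exact h)]
    rw [pow_two, ← mul_assoc, h1, refl_mul_self]
  · right
    have h1 : refl Q u * refl Q v * refl Q u = refl Q v * refl Q u * refl Q v := by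
      rw [key hu, key hv, app_refl_add hu, app_refl_add hv, polar_comm (f := ⇑Q) v u, eq_one_of_ne h,
        one_smul, one_smul, add_comm]
    calc (refl Q u * refl Q v) ^ 3
        = (refl Q u * refl Q v * refl Q u) * (refl Q v * refl Q u * refl Q v) := by
          simp only [pow_succ, pow_zero, one_mul, mul_assoc]
      _ = (refl Q u * refl Q v * refl Q u) * (refl Q u * refl Q v * refl Q u) := by rw [h1]
      _ = 1 := by
        rw [mul_assoc (refl Q u * refl Q v), ← mul_assoc (refl Q u), ← mul_assoc (refl Q u),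
          refl_mul_self, one_mul, ← mul_assoc, mul_assoc (refl Q u) (refl Q v) (refl Q v),
          refl_mul_self, mul_one, refl_mul_self]

theorem isClass (hQ : Q.polarBilin.Nondegenerate) (hn : Fintype.card ι ≠ 4)
    (h1 : 1 ≤ Fintype.card ι) :
    Cfsg.IsThreeTranspositionClass
      {g : ↥(Cfsg.isometryGroup (ZMod 2) ⇑Q) |
        (((g : Matrix.GeneralLinearGroup ι (ZMod 2)) : Matrix ι ι (ZMod 2)) - 1).rank = 1} := by
  refine ⟨⟨fun d hd => ?_, fun d hd e he => ?_⟩, ?_, ?_⟩
  · obtain ⟨v, hv, rfl⟩ := (rank_one_iff hQ d).1 hd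
    exact orderOf_eq_prime (by rw [pow_two, refl_mul_self]) (refl_ne_one hQ hv)
  · obtain ⟨u, hu, rfl⟩ := (rank_one_iff hQ d).1 hd
    obtain ⟨v, hv, rfl⟩ := (rank_one_iff hQ e).1 he
    exact pow_two_or_three hu hv
  · obtain ⟨u, hu⟩ := exists_anisotropic hQ h1
    refine ⟨refl Q u, (rank_one_iff hQ _).2 ⟨u, hu, rfl⟩, Set.ext fun g => ?_⟩
    rw [Set.mem_ofPred_eq, rank_one_iff hQ, conjugatesOf, Set.mem_ofPred_eq, isConj_iff]
    constructor
    · rintro ⟨v, hv, rfl⟩
      exact conj_char_two hQ hu hv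
    · rintro ⟨c, rfl⟩
      exact ⟨app c u, by rwa [Q_app], refl_conj c u⟩
  · rw [eq_top_iff, ← reflClosure_eq_top hQ (Or.inr hn)]
    refine (Subgroup.closure_le _).2 ?_
    rintro _ ⟨v, rfl⟩
    rcases eq_or_ne (Q v) 0 with hv | hv
    · rw [refl_eq_one hv]; exact one_mem _
    · exact Subgroup.subset_closure ((rank_one_iff hQ _).2 ⟨v, hv, rfl⟩)

end CfsgLib.ThreeTrans.TransvecTwo
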