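import Mathlib
import Cfsg.Agent.Lib.ThreeTrans.ReflClass
import Cfsg.Agent.Lib.POmega.Forms
import Cfsg.Agent.Lib.Struct76.OrthSylow.Main

/-! The projective reflection group of a seven dimensional space over three elements, of discriminant the
negative of the norm, is the simple orthogonal group. -/

set_option autoImplicit false

namespace CfsgLib.ThreeTrans.ReflSeven

open QuadraticMap CfsgLib.Orth CfsgLib.OmegaSylow76


variable {n : ℕ}

theorem sq_disc : ∀ c : ZMod 3, c ≠ 0 → IsSquare ((2 * c) ^ 7 * -c) := by decide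

/-- A form equivalent to a multiple of the sum of squares: minus one is a product of reflections of that norm. -/
theorem neg_one_mem {Q : QuadraticForm (ZMod 3) (Fin n → (ZMod 3))} {c : (ZMod 3)} (hc : c ≠ 0) (g : (Fin n → (ZMod 3)) ≃ₗ[(ZMod 3)] (Fin n → (ZMod 3)))
    (hg : ∀ v, Q (g v) = ∑ i, c * v i ^ 2) :
    ∃ z ∈ Cfsg.reflectionSubgroup (⇑Q) c, ∀ x, app z x = -x := by
  classical
  let w : Fin n → Fin n → (ZMod 3) := fun i => g (Pi.single i 1)
  have hw : ∀ i, Q (w i) = c := fun i => by
    rw [hg, Finset.sum_eq_single i] <;> simp +contextual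
  have hperp : ∀ i j, i ≠ j → polar Q (w j) (w i) = 0 := fun i j hij => by
    simp only [w, QuadraticMap.polar, ← map_add, hg, ← Finset.sum_sub_distrib]
    refine Finset.sum_eq_zero fun k _ => ?_
    by_cases hk : k = i
    · subst hk; simp [hij]
    · by_cases hk' : k = j
      · subst hk'; simp [hk]
      · simp [hk, hk']
  have key : ∀ l : List (Fin n), l.Nodup →
      ∀ j, app ((l.map fun i => refl Q (w i)).prod) (w j) = if j ∈ l then -(w j) else w j := by
    intro l
    induction l with
    | nil => intro _ j; simp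
    | cons a t ih =>
      intro hnd j
      rw [List.nodup_cons] at hnd
      rw [List.map_cons, List.prod_cons, app_mul, ih hnd.2]
      by_cases hja : j = a
      · subst hja
        rw [if_neg hnd.1, app_refl_self (by rwa [hw]), if_pos (by simp)]
      · by_cases hjt : j ∈ t
        · rw [if_pos hjt, map_neg, app_refl_of_ortho (hperp a j (Ne.symm hja)), if_pos (by simp [hjt])]
        · rw [if_neg hjt, app_refl_of_ortho (hperp a j (Ne.symm hja)), if_neg (by simp [hja, hjt])]
  refine ⟨((Finset.univ.toList : List (Fin n)).map fun i => refl Q (w i)).prod,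
    Subgroup.list_prod_mem _ fun r hr => ?_, fun x => ?_⟩
  · obtain ⟨i, -, rfl⟩ := List.mem_map.1 hr
    exact Subgroup.subset_closure (ReflClass.refl_mem (hw i))
  · obtain ⟨v, rfl⟩ := g.surjective x
    rw [pi_eq_sum_univ' v]
    simp only [map_sum, map_smul, ← Finset.sum_neg_distrib]
    refine Finset.sum_congr rfl fun i _ => ?_
    show v i • app _ (w i) = -(v i • w i)
    rw [key _ (Finset.nodup_toList _) i, if_pos (by simp), smul_neg]

/-- Opposite forms have the same isometry group. -/
theorem isometryGroup_neg {ι : Type} [Fintype ι] [DecidableEq ι] (Q : QuadraticForm (ZMod 3) (ι → (ZMod 3))) :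
    Cfsg.isometryGroup (ZMod 3) ⇑(-Q) = Cfsg.isometryGroup (ZMod 3) ⇑Q := by
  refine Subgroup.ext fun g => ⟨fun hg u v => ?_, fun hg u v => ?_⟩
  · have := hg u v
    simpa using this
  · have := hg u v
    simpa using this

/-- An isomorphism of groups carries commutator subgroups to each other. -/
noncomputable def commutatorEquiv {A B : Type*} [Group A] [Group B] (f : A ≃* B) : commutator A ≃* commutator B :=
  (f.subgroupMap _).trans (MulEquiv.subgroupCongr (by
    rw [commutator_def, Subgroup.map_commutator, Subgroup.map_top_of_surjective _ f.surjective]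
    rfl))

/-- All non-degenerate forms in dimension seven give one orthogonal group. -/
theorem commutator_equiv (Q : QuadraticForm (ZMod 3) (Fin 7 → (ZMod 3))) (hQ : (QuadraticMap.polarBilin Q).Nondegenerate) :
    Nonempty (commutator (O Q) ≃* Cfsg.POmega (ZMod 3) (Cfsg.quadFormOdd 3 (ZMod 3))) := by
  classical
  have h2 : (2 : (ZMod 3)) ≠ 0 := ReflClass.two_ne
  have h0 := CfsgLib.POmega.oddQ_nondegenerate h2 3
  have hz : Subgroup.center (commutator (O (CfsgLib.POmega.oddQ 3 (ZMod 3)))) = ⊥ := Subgroup.card_eq_one.1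
    (CfsgLib.POmega.center_eq_bot h0 (by simp) (Or.inr (CfsgLib.POmega.neg_one_notMem h2 (by decide))))
  have e1 : Cfsg.POmega (ZMod 3) (Cfsg.quadFormOdd 3 (ZMod 3)) ≃* commutator (O (CfsgLib.POmega.oddQ 3 (ZMod 3))) := by
    rw [← CfsgLib.POmega.oddQ_coe]
    exact (QuotientGroup.quotientMulEquivOfEq hz).trans QuotientGroup.quotientBot
  let e : (Unit ⊕ (Fin 3 ⊕ Fin 3)) ≃ Fin 7 := Fintype.equivFinOfCardEq rfl
  have hn' : (-Q).polarBilin.Nondegenerate := by
    have key : ∀ x, (∀ y, polar (⇑(-Q)) x y = 0) → x = 0 := fun x hx => hQ.1 x fun y => by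
      have := hx y
      simp [QuadraticMap.polar] at this ⊢
      linear_combination -this
    exact ⟨key, fun y hy => key y fun x => by rw [polar_comm]; exact hy x⟩
  have hd : ∀ a b : (ZMod 3), a ≠ 0 → b ≠ 0 → IsSquare (a * b) ∨ IsSquare (a * -b) := by decide
  have hne0 : disc (CfsgLib.POmega.oddQ 3 (ZMod 3)) e ≠ 0 :=
    CfsgLib.QuadFin.gram_det_ne_zero _ (reindex_nondegenerate _ h0 _)
  have hneQ : disc Q (Equiv.refl (Fin 7)) ≠ 0 :=
    CfsgLib.QuadFin.gram_det_ne_zero _ (reindex_nondegenerate _ hQ _)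
  have hneg : disc (-Q) (Equiv.refl (Fin 7)) = -disc Q (Equiv.refl (Fin 7)) := by
    simp only [disc]
    rw [show (⇑(reindex (-Q) (Equiv.refl (Fin 7))) : (Fin 7 → (ZMod 3)) → (ZMod 3)) =
      fun v => (-1 : (ZMod 3)) * reindex Q (Equiv.refl (Fin 7)) v from funext fun v => by simp [reindex],
      CfsgLib.QuadFin.gram_det_smul, Fintype.card_fin]
    ring
  rcases hd _ _ hne0 hneQ with h | h
  · obtain ⟨g, hg⟩ := exists_iso_of_disc h2 hQ h0 (Equiv.refl _) e h
    exact ⟨(commutatorEquiv (isoO g hg)).symm.trans e1.symm⟩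
  · obtain ⟨g, hg⟩ := exists_iso_of_disc h2 hn' h0 (Equiv.refl _) e (by rw [hneg]; exact h)
    exact ⟨((commutatorEquiv (MulEquiv.subgroupCongr (isometryGroup_neg Q))).symm.trans
      (commutatorEquiv (isoO g hg)).symm).trans e1.symm⟩

/-- The projective reflection group in dimension seven of discriminant minus the norm. -/
theorem projRefl_equiv_pomega {X : Type*} [Group X] {c : (ZMod 3)} (hc : c ≠ 0)
    (h : Cfsg.IsProjReflectionGroupModThree X 7 (-c) c) :
    Nonempty (X ≃* Cfsg.POmega (ZMod 3) (Cfsg.quadFormOdd 3 (ZMod 3))) := by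
  classical
  obtain ⟨Q, hQ, hμ, ⟨e⟩⟩ := h
  have h2 : (2 : (ZMod 3)) ≠ 0 := ReflClass.two_ne
  set R := Cfsg.reflectionSubgroup (⇑Q) c with hR
  have hi : R.index = 2 := ReflClass.index_eq_two hQ (by norm_num) hc
  haveI : R.Normal := Subgroup.normal_of_index_eq_two hi
  haveI hcyc : IsMulCommutative (O Q ⧸ R) := by
    have : IsCyclic (O Q ⧸ R) := isCyclic_of_prime_card (p := 2) (by rw [← hi]; rfl)
    exact IsCyclic.isMulCommutative
  have hle : commutator (O Q) ≤ R := Subgroup.Normal.quotient_commutative_iff_commutator_le.1 inferInstance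
  have hi4 : (commutator (O Q)).index = 4 := CfsgLib.Orth.index_commutator hQ h2 (d := 2) (by decide) (by simp)
  have hcard : Nat.card R = 2 * Nat.card (commutator (O Q)) := by
    have a := R.card_mul_index
    have b := (commutator (O Q)).card_mul_index
    rw [hi] at a
    rw [hi4] at b
    simp only [O] at a b ⊢
    omega
  obtain ⟨ec⟩ := commutator_equiv Q hQ
  haveI hS : IsSimpleGroup (commutator (O Q)) := by
    haveI : IsSimpleGroup (Cfsg.POmega (ZMod 3) (Cfsg.quadFormOdd 3 (ZMod 3))) := by
      rw [← CfsgLib.POmega.oddQ_coe]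
      exact CfsgLib.POmega.isSimple (CfsgLib.POmega.oddQ_nondegenerate h2 3) (by simp)
    exact ec.isSimpleGroup
  -- minus one
  have hsq : IsSquare ((CfsgLib.QuadFin.gram fun v : Fin 7 → (ZMod 3) => ∑ i, c * v i ^ 2).det * (CfsgLib.QuadFin.gram ⇑Q).det) := by
    rw [show (CfsgLib.QuadFin.gram ⇑Q).det = -c from hμ, CfsgLib.QuadFin.gram_diag, Matrix.det_diagonal,
      Finset.prod_const, Finset.card_univ, Fintype.card_fin]
    exact sq_disc c hc
  let Qd : QuadraticForm (ZMod 3) (Fin 7 → (ZMod 3)) := QuadraticMap.weightedSumSquares (ZMod 3) fun _ => c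
  have hQd : ⇑Qd = fun v : Fin 7 → (ZMod 3) => ∑ i, c * v i ^ 2 := funext fun v => by
    simp [Qd, QuadraticMap.weightedSumSquares_apply, pow_two]
  have hQdn : Qd.polarBilin.Nondegenerate := by
    refine (LinearMap.BilinForm.nondegenerate_iff_det_ne_zero (Pi.basisFun (ZMod 3) (Fin 7))).2 ?_
    rw [← CfsgLib.QuadFin.gram_eq_toMatrix, hQd, CfsgLib.QuadFin.gram_diag, Matrix.det_diagonal]
    exact Finset.prod_ne_zero_iff.2 fun _ _ => mul_ne_zero h2 hc
  obtain ⟨g, hg⟩ := (CfsgLib.QuadFin.equiv_iff_isSquare h2 Qd Q hQdn hQ).2 (by rw [hQd]; exact hsq)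
  obtain ⟨z, hzR, hz⟩ := neg_one_mem hc g fun v => by rw [hg, hQd]
  let Z := Subgroup.center R
  have hzZ : (⟨z, hzR⟩ : R) ∈ Z := Subgroup.mem_center_iff.2 fun r => Subtype.ext (ext_app fun x => by
    simp [hz])
  have hz1 : (⟨z, hzR⟩ : R) ≠ 1 := fun h => by
    have := congrArg (fun r : R => app (r : O Q) (Pi.single 0 1)) h
    simp only [hz, OneMemClass.coe_one, app_one] at this
    exact absurd (congrFun this 0) (by simp; decide)
  let f : commutator (O Q) →* R ⧸ Z := (QuotientGroup.mk' Z).comp (Subgroup.inclusion hle)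
  have hinj : Function.Injective f := by
    rw [← MonoidHom.ker_eq_bot_iff]
    refine f.normal_ker.eq_bot_or_eq_top.resolve_right fun ht => ?_
    -- the commutator subgroup would be abelian
    have hab : ∀ a b : commutator (O Q), a * b = b * a := fun a b => by
      have ha : Subgroup.inclusion hle a ∈ Z := (QuotientGroup.eq_one_iff _).1 (by
        have : a ∈ f.ker := ht ▸ Subgroup.mem_top a
        exact this)
      exact Subgroup.inclusion_injective hle (by
        rw [map_mul, map_mul]; exact (Subgroup.mem_center_iff.1 ha _).symm)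
    have hcz : Subgroup.center (commutator (O Q)) = ⊤ := (Subgroup.eq_top_iff' _).2 fun a =>
      Subgroup.mem_center_iff.2 fun b => hab b a
    have h1 := CfsgLib.POmega.center_eq_bot hQ (by simp)
      (Or.inr (CfsgLib.POmega.neg_one_notMem h2 (by decide)))
    rw [hcz, Subgroup.card_top] at h1
    exact Finite.one_lt_card.ne' h1
  have hZ2 : 2 ≤ Nat.card Z := by
    have : Nontrivial Z := ⟨⟨⟨_, hzZ⟩, 1, fun h => hz1 (congrArg Subtype.val h)⟩⟩
    exact Finite.one_lt_card
  have hq := Subgroup.card_eq_card_quotient_mul_card_subgroup Z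
  have hcle := Nat.card_le_card_of_injective f hinj
  have heq : Nat.card (commutator (O Q)) = Nat.card (R ⧸ Z) := by
    refine le_antisymm hcle ?_
    have h' : Nat.card (R ⧸ Z) * 2 ≤ Nat.card R := hq ▸ Nat.mul_le_mul le_rfl hZ2
    omega
  exact ⟨e.trans ((MulEquiv.ofBijective f ((Nat.bijective_iff_injective_and_card f).2 ⟨hinj, heq⟩)).symm.trans ec)⟩

end CfsgLib.ThreeTrans.ReflSeven
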