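import Mathlib
import Cfsg.Prelude.Def_Sporadic_a

/-! Irreducibility of the Golay code modulo constants under the cyclic shift of the residues. -/

namespace CfsgLib.ThreeTrans.GolayShift

open Cfsg
open scoped Pointwise

/-- The shift of the residues by `t`, fixing the extra point. -/
def shift (t : ZMod 23) : Equiv.Perm GolayPt := Equiv.optionCongr (Equiv.addRight t)

theorem shift_symm_none (t : ZMod 23) : (shift t).symm none = none := rfl

theorem shift_symm_some (t x : ZMod 23) : (shift t).symm (some x) = some (x + -t) := rfl

theorem qrWord_shift (s t : ZMod 23) :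
    (fun p => qrWord s ((shift t).symm p)) = qrWord (s + t) := by
  funext p
  cases p with
  | none => rfl
  | some x =>
    simp only [shift, qrWord, Equiv.optionCongr_symm, Equiv.addRight_symm]
    show (if ∃ r : ZMod 23, x + -t = r ^ 2 + s then (1 : ZMod 2) else 0) = _
    have : ∀ r : ZMod 23, x + -t = r ^ 2 + s ↔ x = r ^ 2 + (s + t) := fun r => by
      constructor <;> intro h
      · linear_combination h
      · linear_combination h
    simp only [this]

theorem code_shift {w : GolayPt → ZMod 2} (hw : w ∈ golayCode) (t : ZMod 23) :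
    (fun p => w ((shift t).symm p)) ∈ golayCode := by
  have h : golayCode ≤ golayCode.comap (LinearMap.funLeft (ZMod 2) (ZMod 2) ⇑(shift t).symm) := by
    conv_lhs => rw [golayCode]
    rw [Submodule.span_le]
    rintro _ (⟨s, rfl⟩ | rfl)
    · show (fun p => qrWord s ((shift t).symm p)) ∈ golayCode
      rw [qrWord_shift]
      exact Submodule.subset_span (Or.inl ⟨_, rfl⟩)
    · exact Submodule.subset_span (Or.inr rfl)
  exact h hw

theorem shift_mem (t : ZMod 23) : shift t ∈ M24 := by
  have key : ∀ (σ : Equiv.Perm GolayPt) (w : GolayPt → ZMod 2),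
      σ • support₂ w = support₂ fun p => w (σ.symm p) := by
    intro σ w
    ext p
    rw [← Finset.inv_smul_mem_iff]
    simp [support₂]

  rw [M24, setSystemAut, MulAction.mem_stabilizer_iff]
  have hsub : ∀ t : ZMod 23, shift t • supports (golayCode : Set (GolayPt → ZMod 2)) ⊆
      supports (golayCode : Set (GolayPt → ZMod 2)) := by
    intro t s hs
    obtain ⟨b, ⟨w, hw, rfl⟩, rfl⟩ := hs
    exact ⟨_, code_shift hw t, (key _ w).symm⟩
  refine Set.Subset.antisymm (hsub t) fun s hs => ?_
  refine ⟨shift (-t) • s, hsub (-t) ⟨s, hs, rfl⟩, ?_⟩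
  show shift t • shift (-t) • s = s
  have hmul : shift t * shift (-t) = 1 := by
    ext (_ | x) <;> simp [shift, add_assoc]
  rw [← mul_smul, hmul, one_smul]

/-- Coefficient masks of the twenty-three generators on twelve of them. -/
def masks : Fin 23 → ℕ := ![1, 2, 4, 8, 16, 32, 64, 128, 256, 512, 1024, 739, 1478, 367, 734, 1468,
  411, 822, 1644, 1595, 1685, 1993, 1393]

/-- Twelve spanning words. -/
def basisWord (j : Fin 12) : GolayPt → ZMod 2 :=
  if (j : ℕ) < 11 then qrWord ((j : ℕ) : ZMod 23) else 1

theorem qrWord_eq_sum : ∀ t : ZMod 23, ∀ p : GolayPt,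
    qrWord t p = ∑ j : Fin 12, if (masks t).testBit (j : ℕ) then basisWord j p else 0 := by
  decide +kernel

theorem finrank_code_le : Module.finrank (ZMod 2) golayCode ≤ 12 := by
  have h : golayCode ≤ Submodule.span (ZMod 2) (Set.range basisWord) := by
    rw [golayCode, Submodule.span_le]
    rintro _ (⟨t, rfl⟩ | rfl)
    · have : qrWord t = ∑ j : Fin 12, if (masks t).testBit (j : ℕ) then basisWord j else 0 := by
        funext p
        rw [qrWord_eq_sum t p, Finset.sum_apply]
        refine Finset.sum_congr rfl fun j _ => ?_
        split <;> rfl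
      rw [this]
      refine Submodule.sum_mem _ fun j _ => ?_
      split
      · exact Submodule.subset_span ⟨j, rfl⟩
      · exact Submodule.zero_mem _
    · exact Submodule.subset_span ⟨⟨11, by norm_num⟩, rfl⟩
  calc Module.finrank (ZMod 2) golayCode ≤ _ := Submodule.finrank_mono h
    _ ≤ 12 := (finrank_range_le_card basisWord).trans (by simp)

theorem sum_eq_zero {w : GolayPt → ZMod 2} (hw : w ∈ golayCode) : ∑ p, w p = 0 := by
  rw [golayCode] at hw
  induction hw using Submodule.span_induction with
  | mem x hx =>
    rcases hx with ⟨t, rfl⟩ | rfl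
    · revert t; decide +kernel
    · decide
  | zero => simp
  | add x y _ _ hx hy => simp [Finset.sum_add_distrib, hx, hy]
  | smul a x _ hx => simp [← Finset.mul_sum, hx]

theorem irreducible {W : Submodule (ZMod 2) (GolayPt → ZMod 2)} (h1 : (1 : GolayPt → ZMod 2) ∈ W)
    (hW : W ≤ golayCode)
    (hinv : ∀ t : ZMod 23, ∀ w ∈ W, (fun p => w ((shift t).symm p)) ∈ W) :
    W = Submodule.span (ZMod 2) {1} ∨ W = golayCode := by
  letI : MulAction (Multiplicative (ZMod 23)) W :=
    { smul := fun t w => ⟨fun p => (w : GolayPt → ZMod 2) ((shift t.toAdd).symm p), hinv _ _ w.2⟩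
      one_smul := fun w => Subtype.ext (funext fun p => by
        show (w : GolayPt → ZMod 2) ((shift 0).symm p) = _
        cases p <;> simp [shift_symm_none, shift_symm_some])
      mul_smul := fun s t w => Subtype.ext (funext fun p => by
        show (w : GolayPt → ZMod 2) ((shift (s.toAdd + t.toAdd)).symm p) =
          (w : GolayPt → ZMod 2) ((shift t.toAdd).symm ((shift s.toAdd).symm p))
        cases p <;> simp [shift_symm_none, shift_symm_some, add_assoc, add_comm]) }
  have : Fact (Nat.Prime 23) := ⟨by norm_num⟩
  have hP : IsPGroup 23 (Multiplicative (ZMod 23)) :=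
    IsPGroup.of_card (n := 1) (by simp)
  have hfix : Nat.card (MulAction.fixedPoints (Multiplicative (ZMod 23)) W) = 2 := by
    have h0 : (⟨0, W.zero_mem⟩ : W) ≠ ⟨1, h1⟩ := fun h => by
      simpa using congrFun (congrArg Subtype.val h) none
    have he : MulAction.fixedPoints (Multiplicative (ZMod 23)) W = {⟨0, W.zero_mem⟩, ⟨1, h1⟩} := by
      ext w
      constructor
      · intro hw
        have hc : ∀ x : ZMod 23, (w : GolayPt → ZMod 2) (some x) = (w : GolayPt → ZMod 2) (some 0) := by
          intro x
          have := congrFun (congrArg Subtype.val (hw (Multiplicative.ofAdd (-x)))) (some 0)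
          have h' : (w : GolayPt → ZMod 2) ((shift (-x)).symm (some 0)) = _ := this
          simpa [shift_symm_some] using h'
        have hs := sum_eq_zero (hW w.2)
        rw [Fintype.sum_option, Finset.sum_congr rfl fun x _ => hc x, Finset.sum_const, Finset.card_univ,
          ZMod.card] at hs
        have hn : (w : GolayPt → ZMod 2) none = (w : GolayPt → ZMod 2) (some 0) := by
          revert hs
          generalize (w : GolayPt → ZMod 2) none = a
          generalize (w : GolayPt → ZMod 2) (some 0) = b
          revert a b
          decide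
        rcases (show ∀ a : ZMod 2, a = 0 ∨ a = 1 by decide) ((w : GolayPt → ZMod 2) (some 0)) with hb | hb
        · left; apply Subtype.ext; funext p; cases p <;> simp [hn, hc, hb]
        · right; apply Subtype.ext; funext p; cases p <;> simp [hn, hc, hb]
      · rintro (rfl | rfl) t <;> rfl
    rw [he, Nat.card_coe_set_eq, Set.ncard_pair h0]
  have hmod := hP.card_modEq_card_fixedPoints W
  rw [hfix, Module.natCard_eq_pow_finrank (K := ZMod 2), Nat.card_zmod] at hmod
  have hk : Module.finrank (ZMod 2) W ≤ 12 := (Submodule.finrank_mono hW).trans finrank_code_le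
  have hk' : Module.finrank (ZMod 2) W = 1 ∨ Module.finrank (ZMod 2) W = 12 := by
    generalize Module.finrank (ZMod 2) W = k at hmod hk
    interval_cases k <;> simp_all [Nat.ModEq]
  rcases hk' with hk' | hk'
  · left
    symm
    refine Submodule.eq_of_le_of_finrank_eq ((Submodule.span_singleton_le_iff_mem _ _).2 h1) ?_
    rw [hk', finrank_span_singleton one_ne_zero]
  · right
    exact Submodule.eq_of_le_of_finrank_le hW (hk'.symm ▸ finrank_code_le)

end CfsgLib.ThreeTrans.GolayShift
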