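import Mathlib
import Cfsg.Agent.Lib.ThreeTrans.Basic
import Cfsg.Agent.Lib.ThreeTrans.SymFour

/-! The Fischer space of a set of 3-transpositions. -/

namespace CfsgLib.ThreeTrans.Fischer

open Cfsg

theorem isomorphic_restrict_span {X P : Type*} {L : Set (Set X)} {M : Set (Set P)}
    (hL : LineSystem.IsPartialLinear L) (f : P → X) (hf : Function.Injective f) (seed : Set X)
    (hseed : seed ⊆ Set.range f) (hsub : ∀ m ∈ M, f '' m ∈ L)
    (hpair : ∀ p q : P, p ≠ q → (∃ m ∈ M, p ∈ m ∧ q ∈ m) ∨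
      ∀ l ∈ L, ¬ (f p ∈ l ∧ f q ∈ l))
    (htwo : ∀ l ∈ L, ∃ x ∈ l, ∃ y ∈ l, x ≠ y)
    (hgen : ∀ S : Set X, LineSystem.IsSubspace L S → seed ⊆ S → Set.range f ⊆ S) :
    LineSystem.Isomorphic (LineSystem.restrict L (LineSystem.span L seed)) M := by
  have hline : ∀ l ∈ L, ∀ p q : P, p ≠ q → f p ∈ l → f q ∈ l → ∃ m ∈ M, l = f '' m := by
    intro l hl p q hpq hp hq
    rcases hpair p q hpq with ⟨m, hm, hpm, hqm⟩ | h
    · exact ⟨m, hm, hL l hl _ (hsub m hm) (f p) (f q) (fun h => hpq (hf h)) hp hq ⟨p, hpm, rfl⟩ ⟨q, hqm, rfl⟩⟩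
    · exact absurd ⟨hp, hq⟩ (h l hl)
  have hspan : LineSystem.span L seed = Set.range f := by
    apply Set.Subset.antisymm
    · refine Set.sInter_subset_of_mem ⟨hseed, ?_⟩
      rintro l hl _ ⟨p, rfl⟩ _ ⟨q, rfl⟩ hne hp hq
      obtain ⟨m, -, rfl⟩ := hline l hl p q (fun h => hne (h ▸ rfl)) hp hq
      exact Set.image_subset_range f m
    · exact Set.subset_sInter fun S hS => hgen S hS.2 hS.1
  rw [hspan]
  let e := (Equiv.ofInjective f hf).symm
  have he : ∀ s : Set X, e '' {x : Set.range f | (x : X) ∈ s} = f ⁻¹' s := by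
    intro s
    rw [Equiv.image_eq_preimage_symm]
    rfl
  refine ⟨e, fun l => ⟨?_, fun hm => ?_⟩⟩
  · rintro ⟨l', hl', hsubset, rfl⟩
    obtain ⟨x, hx, y, hy, hne⟩ := htwo l' hl'
    obtain ⟨p, rfl⟩ := hsubset hx
    obtain ⟨q, rfl⟩ := hsubset hy
    obtain ⟨m, hm, rfl⟩ := hline l' hl' p q (fun h => hne (h ▸ rfl)) hx hy
    rw [he, hf.preimage_image]
    exact hm
  · refine ⟨f '' (e '' l), hsub _ hm, Set.image_subset_range _ _, ?_⟩
    apply e.injective.image_injective
    rw [he, hf.preimage_image]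

variable {G : Type*} [Group G] {D : Set G} (hD : ConjClosed D)
include hD

theorem line_pair {l : Set D} (hl : l ∈ threeTranspositionLines D) {p q : D} (hp : p ∈ l)
    (hq : q ∈ l) (hne : p ≠ q) : ¬ Commute (p : G) q ∧
      l = {z : D | (z : G) = p ∨ (z : G) = q ∨ (z : G) = (q : G) * p * (q : G)⁻¹} := by
  obtain ⟨x, y, hxy, rfl⟩ := hl
  have hs := hD.set
  have b := braid hs x.2 y.2 hxy
  rw [inv_eq hs q.2]
  obtain ⟨w, hw⟩ : ∃ w, (y : G) * x * y = w := ⟨_, rfl⟩
  simp only [inv_eq hs y.2, hw] at hp hq ⊢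
  have bx : (x : G) * y * x = w := b.trans hw
  have hpne : (p : G) ≠ q := fun h => hne (Subtype.ext h)
  have hx2 := mul_self hs x.2
  have hy2 := mul_self hs y.2
  have e1 : (x : G) * w * x = y := by
    rw [← bx]; simp [mul_assoc, hx2, mul_self_mul hs x.2]
  have e2 : (y : G) * w * y = x := by
    rw [← hw]; simp [mul_assoc, hy2, mul_self_mul hs y.2]
  have hwx : ¬ Commute w x := by
    intro h
    apply hxy
    have : Commute ((x : G) * w * x) ((x : G) * x * x) := by
      simpa [inv_eq hs x.2] using (commute_conj_iff (x : G) w x).2 h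
    rw [e1] at this
    simpa [mul_assoc, hx2] using this.symm
  have hwy : ¬ Commute w y := by
    intro h
    apply hxy
    have : Commute ((y : G) * w * y) ((y : G) * y * y) := by
      simpa [inv_eq hs y.2] using (commute_conj_iff (y : G) w y).2 h
    rw [e2] at this
    simpa [mul_assoc, hy2] using this
  have hwD : w ∈ D := hw ▸ conj_mem_left hD y.2 x.2
  have w1 : w * x * w = (y : G) := (braid hs hwD x.2 hwx).trans e1
  have w2 : w * y * w = (x : G) := (braid hs hwD y.2 hwy).trans e2
  rcases hp with hp | hp | hp <;> rcases hq with hq | hq | hq <;> rw [hp, hq] at hpne ⊢ <;>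
    first
    | exact absurd rfl hpne
    | refine ⟨?_, ?_⟩
  all_goals
    first
    | assumption
    | exact fun h => hxy h.symm
    | exact fun h => hwx h.symm
    | exact fun h => hwy h.symm
    | (ext z
       simp only [Set.mem_ofPred_eq, hw, bx, e1, e2, w1, w2] <;> tauto)

theorem partialLinear : LineSystem.IsPartialLinear (threeTranspositionLines D) := by
  intro l hl m hm x y hne hxl hyl hxm hym
  rw [(line_pair hD hl hxl hyl hne).2, (line_pair hD hm hxm hym hne).2]

theorem line_ncard {l : Set D} (hl : l ∈ threeTranspositionLines D) : l.ncard = 3 := by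
  obtain ⟨x, y, hxy, rfl⟩ := hl
  have hs := hD.set
  have h1 : x ≠ y := fun h => hxy (h ▸ Commute.refl _)
  rw [Set.ncard_eq_three]
  refine ⟨x, y, ⟨(y : G) * x * (y : G)⁻¹, hD.conj _ _ x.2⟩, h1, fun h => ?_, fun h => ?_, ?_⟩
  · have h' := congrArg Subtype.val h
    exact hxy (eq_mul_inv_iff_mul_eq.1 h')
  · have h' := congrArg Subtype.val h
    simp only [eq_mul_inv_iff_mul_eq, mul_right_inj] at h'
    exact h1 (Subtype.ext h'.symm)
  · ext z
    simp [Subtype.ext_iff]

omit hD in
theorem line_two {l : Set D} (hl : l ∈ threeTranspositionLines D) :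
    ∃ x ∈ l, ∃ y ∈ l, x ≠ y := by
  obtain ⟨x, y, hxy, rfl⟩ := hl
  exact ⟨x, Or.inl rfl, y, Or.inr (Or.inl rfl), fun h => hxy (h ▸ Commute.refl _)⟩

theorem line_closed {S : Set D} (hS : LineSystem.IsSubspace (threeTranspositionLines D) S)
    {p q r : D} (hp : p ∈ S) (hq : q ∈ S) (h : ¬ Commute (p : G) q)
    (hr : (r : G) = (q : G) * p * q) : r ∈ S := by
  refine hS _ ⟨p, q, h, rfl⟩ p hp q hq (fun e => h (e ▸ Commute.refl _)) (Or.inl rfl)
    (Or.inr (Or.inl rfl)) (Or.inr (Or.inr ?_))
  rw [inv_eq hD.set q.2, hr]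

/-- A transposition as an element of the symmetric group on four letters. -/
def pairPerm (s : DualAffinePoint) : Equiv.Perm (Fin 4) :=
  if (s.val : Finset (Fin 4)) = {0, 1} then Equiv.swap 0 1
  else if (s.val : Finset (Fin 4)) = {1, 2} then Equiv.swap 1 2
  else if (s.val : Finset (Fin 4)) = {2, 3} then Equiv.swap 2 3
  else if (s.val : Finset (Fin 4)) = {0, 2} then Equiv.swap 0 2
  else if (s.val : Finset (Fin 4)) = {1, 3} then Equiv.swap 1 3
  else Equiv.swap 0 3

omit hD in
theorem pairPerm_injective : Function.Injective pairPerm := by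
  unfold Function.Injective
  decide +kernel

omit hD in
theorem pairPerm_line : ∀ i : Fin 4, ∃ p q r : DualAffinePoint,
    (∀ s : DualAffinePoint, i ∉ s.val ↔ (s = p ∨ s = q ∨ s = r)) ∧
      pairPerm p * pairPerm q ≠ pairPerm q * pairPerm p ∧
      pairPerm r = pairPerm q * pairPerm p * pairPerm q := by
  decide +kernel

omit hD in
theorem pairPerm_pair : ∀ p q : DualAffinePoint, p ≠ q →
    (∃ i : Fin 4, i ∉ p.val ∧ i ∉ q.val) ∨ pairPerm p * pairPerm q = pairPerm q * pairPerm p := by
  decide +kernel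

theorem dual_plane {x y z : D} (hxy : ¬ Commute (x : G) y) (hxz : ¬ Commute (x : G) z)
    (hyz : Commute (y : G) z) (hne : y ≠ z) (seed : Set D)
    (hseed : seed ⊆ {x, y, z} ∪ {p : D | (p : G) = (y : G) * x * y ∨ (p : G) = (z : G) * x * z})
    (hseed' : x ∈ seed ∧ y ∈ seed ∧ ∀ S, LineSystem.IsSubspace (threeTranspositionLines D) S → seed ⊆ S → z ∈ S) :
    LineSystem.Isomorphic (LineSystem.restrict (threeTranspositionLines D)
      (LineSystem.span (threeTranspositionLines D) seed)) dualAffinePlaneTwo := by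
  have hs := hD.set
  have hy2 := mul_self hs y.2
  have hx2 := mul_self hs x.2
  have hz2 := mul_self hs z.2
  have b1 : (y : G) * x * y = x * y * x := (braid hs x.2 y.2 hxy).symm
  have b2 : (x : G) * z * x = z * x * z := braid hs x.2 z.2 hxz
  let φ := SymFour.symFourHom hy2 hx2 hz2 b1 b2 hyz
  have hinj : Function.Injective φ := SymFour.symFourHom_injective _ _ _ _ _ _
    (fun h => hne (Subtype.ext h)) (fun h => hxy (h ▸ Commute.refl _))
  have g0 : φ (Equiv.swap 0 1) = y := SymFour.symFourHom_gen _ _ _ _ _ _ 0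
  have g1 : φ (Equiv.swap 1 2) = x := SymFour.symFourHom_gen _ _ _ _ _ _ 1
  have g2 : φ (Equiv.swap 2 3) = z := SymFour.symFourHom_gen _ _ _ _ _ _ 2
  have g3 : φ (Equiv.swap 0 2) = (x : G) * y * x := by
    rw [show (Equiv.swap 0 2 : Equiv.Perm (Fin 4)) = Equiv.swap 1 2 * Equiv.swap 0 1 * Equiv.swap 1 2 by
      decide +kernel, map_mul, map_mul, g0, g1]
  have g4 : φ (Equiv.swap 1 3) = (x : G) * z * x := by
    rw [show (Equiv.swap 1 3 : Equiv.Perm (Fin 4)) = Equiv.swap 1 2 * Equiv.swap 2 3 * Equiv.swap 1 2 by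
      decide +kernel, map_mul, map_mul, g2, g1]
  have g5 : φ (Equiv.swap 0 3) = (z : G) * (x * y * x) * z := by
    rw [show (Equiv.swap 0 3 : Equiv.Perm (Fin 4)) = Equiv.swap 2 3 * Equiv.swap 0 2 * Equiv.swap 2 3 by
      decide +kernel, map_mul, map_mul, g2, g3]
  have hmem : ∀ s, φ (pairPerm s) ∈ D := by
    intro s
    unfold pairPerm
    split_ifs
    · rw [g0]; exact y.2
    · rw [g1]; exact x.2
    · rw [g2]; exact z.2
    · rw [g3]; exact conj_mem_left hD x.2 y.2
    · rw [g4]; exact conj_mem_left hD x.2 z.2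
    · rw [g5]; exact conj_mem_left hD z.2 (conj_mem_left hD x.2 y.2)
  let f : DualAffinePoint → D := fun s => ⟨φ (pairPerm s), hmem s⟩
  have hf : Function.Injective f := fun s t h => pairPerm_injective (hinj (congrArg Subtype.val h))
  refine isomorphic_restrict_span (partialLinear hD) f hf seed ?_ ?_ ?_ (fun l hl => line_two hl) ?_
  · have m01 : φ (pairPerm ⟨{0, 1}, rfl⟩) = y := g0
    have m12 : φ (pairPerm ⟨{1, 2}, rfl⟩) = x := g1
    have m23 : φ (pairPerm ⟨{2, 3}, rfl⟩) = z := g2
    intro p hp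
    rcases hseed hp with (rfl | rfl | rfl) | h | h
    · exact ⟨⟨{1, 2}, rfl⟩, Subtype.ext m12⟩
    · exact ⟨⟨{0, 1}, rfl⟩, Subtype.ext m01⟩
    · exact ⟨⟨{2, 3}, rfl⟩, Subtype.ext m23⟩
    · exact ⟨⟨{0, 2}, rfl⟩, Subtype.ext (g3.trans ((h.trans b1).symm))⟩
    · exact ⟨⟨{1, 3}, rfl⟩, Subtype.ext (g4.trans ((b2.trans h.symm)))⟩
  · rintro _ ⟨i, rfl⟩
    obtain ⟨p, q, r, h1, h2, h3⟩ := pairPerm_line i
    refine ⟨f p, f q, fun h => h2 (hinj (by simpa using h.eq)), Set.ext fun w => ?_⟩
    have hr : φ (pairPerm r) = φ (pairPerm q) * φ (pairPerm p) * (φ (pairPerm q))⁻¹ := by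
      rw [h3, inv_eq hs (hmem q), map_mul, map_mul]
    constructor
    · rintro ⟨s, hs', rfl⟩
      rcases (h1 s).1 hs' with rfl | rfl | rfl
      · exact Or.inl rfl
      · exact Or.inr (Or.inl rfl)
      · exact Or.inr (Or.inr hr)
    · rintro (h | h | h)
      · exact ⟨p, (h1 p).2 (Or.inl rfl), Subtype.ext h.symm⟩
      · exact ⟨q, (h1 q).2 (Or.inr (Or.inl rfl)), Subtype.ext h.symm⟩
      · exact ⟨r, (h1 r).2 (Or.inr (Or.inr rfl)), Subtype.ext (hr.trans h.symm)⟩
  · intro p q hpq
    rcases pairPerm_pair p q hpq with ⟨i, hp, hq⟩ | hc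
    · exact Or.inl ⟨_, ⟨i, rfl⟩, hp, hq⟩
    · refine Or.inr fun l hl ⟨hp, hq⟩ => (line_pair hD hl hp hq (fun h => hpq (hf h))).1 ?_
      show φ _ * φ _ = φ _ * φ _
      rw [← map_mul, ← map_mul, hc]
  · intro S hS hsub
    have hxS := hsub hseed'.1
    have hyS := hsub hseed'.2.1
    have hzS := hseed'.2.2 S hS hsub
    have h02 : (⟨_, conj_mem_left hD x.2 y.2⟩ : D) ∈ S := line_closed hD hS hyS hxS (fun h => hxy h.symm) rfl
    have h13 : (⟨_, conj_mem_left hD x.2 z.2⟩ : D) ∈ S := line_closed hD hS hzS hxS (fun h => hxz h.symm) rfl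
    have h03 : (⟨_, conj_mem_left hD z.2 (conj_mem_left hD x.2 y.2)⟩ : D) ∈ S := by
      refine line_closed hD hS h02 hzS (fun h => ?_) rfl
      have h' : Commute (φ (Equiv.swap 0 2)) (φ (Equiv.swap 2 3)) := by rw [g3, g2]; exact h
      have := hinj (show φ (Equiv.swap 0 2 * Equiv.swap 2 3) = φ (Equiv.swap 2 3 * Equiv.swap 0 2) by
        rw [map_mul, map_mul]; exact h'.eq)
      revert this
      decide +kernel
    rintro _ ⟨s, rfl⟩
    have key : φ (pairPerm s) = y ∨ φ (pairPerm s) = x ∨ φ (pairPerm s) = z ∨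
        φ (pairPerm s) = (x : G) * y * x ∨ φ (pairPerm s) = (x : G) * z * x ∨
        φ (pairPerm s) = (z : G) * (x * y * x) * z := by
      unfold pairPerm
      split_ifs <;> simp only [g0, g1, g2, g3, g4, g5] <;> tauto
    rcases key with k | k | k | k | k | k
    · exact (Subtype.ext k : f s = y) ▸ hyS
    · exact (Subtype.ext k : f s = x) ▸ hxS
    · exact (Subtype.ext k : f s = z) ▸ hzS
    · exact (Subtype.ext k : f s = ⟨_, conj_mem_left hD x.2 y.2⟩) ▸ h02
    · exact (Subtype.ext k : f s = ⟨_, conj_mem_left hD x.2 z.2⟩) ▸ h13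
    · exact (Subtype.ext k : f s = ⟨_, conj_mem_left hD z.2 (conj_mem_left hD x.2 y.2)⟩) ▸ h03

omit hD in
theorem plane_reflections {W : ZMod 3 × ZMod 3 → G}
    (hx : ∀ q, W (0, 0) * W q * W (0, 0) = W (-(0, 0) - q))
    (hy : ∀ q, W (1, 0) * W q * W (1, 0) = W (-(1, 0) - q))
    (hz : ∀ q, W (0, 1) * W q * W (0, 1) = W (-(0, 1) - q)) :
    ∀ p q, W p * W q * W p = W (-p - q) := by
  have step : ∀ r p : ZMod 3 × ZMod 3, (∀ q, W r * W q * W r = W (-r - q)) →
      (∀ q, W p * W q * W p = W (-p - q)) →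
      ∀ q, W (-r - p) * W q * W (-r - p) = W (-(-r - p) - q) := by
    intro r p hr hp q
    have e : W (-r - p) * W q * W (-r - p) = W r * (W p * (W r * W q * W r) * W p) * W r := by
      rw [← hr p]; simp [mul_assoc]
    rw [e, hr q, hp, hr]
    have k : ∀ r p q : ZMod 3, -r - (-p - (-r - q)) = -(-r - p) - q := by decide
    exact congrArg W (Prod.ext (k _ _ _) (k _ _ _))
  intro p
  have cover : ∀ p : ZMod 3 × ZMod 3, p = (0, 0) ∨ p = (1, 0) ∨ p = (0, 1) ∨
      p = -(0, 0) - (1, 0) ∨ p = -(0, 0) - (0, 1) ∨ p = -(1, 0) - (0, 1) ∨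
      p = -(0, 0) - (-(1, 0) - (0, 1)) ∨ p = -(0, 1) - (-(0, 0) - (1, 0)) ∨
      p = -(1, 0) - (-(0, 0) - (0, 1)) := by decide +kernel
  rcases cover p with rfl | rfl | rfl | rfl | rfl | rfl | rfl | rfl | rfl
  · exact hx
  · exact hy
  · exact hz
  · exact step _ _ hx hy
  · exact step _ _ hx hz
  · exact step _ _ hy hz
  · exact step _ _ hx (step _ _ hy hz)
  · exact step _ _ hz (step _ _ hx hy)
  · exact step _ _ hy (step _ _ hx hz)

/-- The nine points of an affine plane, read in a group. -/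
def ninePt (x y z : G) (p : ZMod 3 × ZMod 3) : G :=
  if p = (0, 0) then x else if p = (1, 0) then y else if p = (0, 1) then z
  else if p = (2, 0) then x * y * x else if p = (0, 2) then x * z * x
  else if p = (2, 2) then y * z * y else if p = (1, 1) then x * (y * z * y) * x
  else if p = (1, 2) then z * (x * y * x) * z else y * (x * z * x) * y

theorem affine_plane {x y z : D} (hxy : ¬ Commute (x : G) y) (hxz : ¬ Commute (x : G) z)
    (hyz : ¬ Commute (y : G) z) (hyw : ¬ Commute (y : G) (x * z * x))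
    (hzl : (z : G) ≠ x * y * x) (seed : Set D)
    (hseed : seed ⊆ {x, y, z} ∪ {p : D | (p : G) = (y : G) * x * y ∨ (p : G) = (z : G) * x * z})
    (hseed' : x ∈ seed ∧ y ∈ seed ∧ z ∈ seed) :
    LineSystem.Isomorphic (LineSystem.restrict (threeTranspositionLines D)
      (LineSystem.span (threeTranspositionLines D) seed)) affinePlaneThree := by
  have hs := hD.set
  have hy2 := mul_self hs y.2
  have hx2 := mul_self hs x.2
  have hz2 := mul_self hs z.2
  have cy := fun (a b : G) => commute_conj_iff (y : G) a b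
  have cx := fun (a b : G) => commute_conj_iff (x : G) a b
  simp only [inv_eq hs x.2] at cx
  simp only [inv_eq hs y.2] at cy
  have b1 := braid hs x.2 y.2 hxy
  have b2 := braid hs x.2 z.2 hxz
  have b3 := braid hs y.2 z.2 hyz
  have hsx := mul_self_mul hs x.2
  have hsy := mul_self_mul hs y.2
  have hsz := mul_self_mul hs z.2
  have hzu : ¬ Commute (z : G) (x * y * x) := by
    intro h
    apply hyw
    have := (cx _ _).2 h
    simp only [mul_assoc, hsx, hx2, mul_one] at this
    simpa [mul_assoc] using this.symm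
  have hxv : ¬ Commute (x : G) (y * z * y) := by
    intro h
    apply hzu
    have := (cy _ _).2 h
    simp only [mul_assoc, hsy, hy2, mul_one] at this
    rw [b1]
    simpa [mul_assoc] using this.symm
  set u := (x : G) * y * x with hu
  set v := (x : G) * z * x with hv
  set w := (y : G) * z * y with hw
  have huD : u ∈ D := conj_mem_left hD x.2 y.2
  have hvD : v ∈ D := conj_mem_left hD x.2 z.2
  have hwD : w ∈ D := conj_mem_left hD y.2 z.2
  have bu := braid hs z.2 huD hzu
  have bv := braid hs y.2 hvD hyw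
  have bw := braid hs x.2 hwD hxv
  have key : ∀ (p q : D) (r : G), ¬ Commute (p : G) q → (q : G) * p * q = r →
      (p : G) * q * p = r := fun p q r h e => (braid hs p.2 q.2 h).trans e
  let W := ninePt (x : G) (y : G) (z : G)
  have w00 : W (0, 0) = x := rfl
  have w10 : W (1, 0) = y := rfl
  have w01 : W (0, 1) = z := rfl
  have w20 : W (2, 0) = u := rfl
  have w02 : W (0, 2) = v := rfl
  have w22 : W (2, 2) = w := rfl
  have w11 : W (1, 1) = x * w * x := rfl
  have w12 : W (1, 2) = z * u * z := rfl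
  have w21 : W (2, 1) = y * v * y := rfl
  -- reflections in the three generators
  have rxu : (x : G) * u * x = y := by rw [hu]; simp [mul_assoc, hsx, hx2]
  have rxv : (x : G) * v * x = z := by rw [hv]; simp [mul_assoc, hsx, hx2]
  have ryx : (y : G) * x * y = u := b1.symm
  have ryw : (y : G) * w * y = z := by rw [hw]; simp [mul_assoc, hsy, hy2]
  have ryu : (y : G) * u * y = x := by rw [← ryx]; simp [mul_assoc, hsy, hy2]
  have rzx : (z : G) * x * z = v := b2.symm
  have rzy : (z : G) * y * z = w := b3.symm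
  have rzv : (z : G) * v * z = x := by rw [← rzx]; simp [mul_assoc, hsz, hz2]
  have rzw : (z : G) * w * z = y := by rw [← rzy]; simp [mul_assoc, hsz, hz2]
  have hX1 : (x : G) * (z * u * z) * x = y * v * y := by
    calc (x : G) * (z * u * z) * x = (x * z * x) * (x * u * x) * (x * z * x) := by simp [mul_assoc, hsx]
      _ = v * y * v := by rw [rxu]
      _ = _ := bv.symm
  have hX2 : (x : G) * (y * v * y) * x = z * u * z := by rw [← hX1]; simp [mul_assoc, hsx, hx2]
  have hY1 : (y : G) * (x * w * x) * y = z * u * z := by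
    calc (y : G) * (x * w * x) * y = (y * x * y) * (y * w * y) * (y * x * y) := by simp [mul_assoc, hsy]
      _ = u * z * u := by rw [ryx, ryw]
      _ = _ := bu.symm
  have hY2 : (y : G) * (z * u * z) * y = x * w * x := by rw [← hY1]; simp [mul_assoc, hsy, hy2]
  have hZ1 : (z : G) * (y * v * y) * z = x * w * x := by
    calc (z : G) * (y * v * y) * z = (z * y * z) * (z * v * z) * (z * y * z) := by simp [mul_assoc, hsz]
      _ = w * x * w := by rw [rzy, rzv]
      _ = _ := bw.symm
  have hZ2 : (z : G) * (x * w * x) * z = y * v * y := by rw [← hZ1]; simp [mul_assoc, hsz, hz2]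
  have cover : ∀ q : ZMod 3 × ZMod 3, q = (0, 0) ∨ q = (1, 0) ∨ q = (0, 1) ∨ q = (2, 0) ∨
      q = (0, 2) ∨ q = (2, 2) ∨ q = (1, 1) ∨ q = (1, 2) ∨ q = (2, 1) := by decide +kernel
  have hWD : ∀ p, W p ∈ D := by
    intro p
    rcases cover p with rfl | rfl | rfl | rfl | rfl | rfl | rfl | rfl | rfl
    · exact x.2
    · exact y.2
    · exact z.2
    · exact huD
    · exact hvD
    · exact hwD
    · exact conj_mem_left hD x.2 hwD
    · exact conj_mem_left hD z.2 huD
    · exact conj_mem_left hD y.2 hvD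
  have hall : ∀ p q, W p * W q * W p = W (-p - q) := by
    refine plane_reflections ?_ ?_ ?_
    · intro q
      rw [w00]
      rcases cover q with rfl | rfl | rfl | rfl | rfl | rfl | rfl | rfl | rfl <;> apply Eq.trans
      · rw [w00, mul_assoc, hx2, mul_one]
      · exact w00.symm
      · rw [w10]
      · exact w20.symm
      · rw [w01]
      · exact w02.symm
      · rw [w20, rxu]
      · exact w10.symm
      · rw [w02, rxv]
      · exact w01.symm
      · rw [w22]
      · exact w11.symm
      · exact (show (x : G) * W (1, 1) * x = w by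
          rw [w11]; simp only [mul_assoc, hsx, hx2, mul_one])
      · exact w22.symm
      · rw [w12, hX1]
      · exact w21.symm
      · rw [w21, hX2]
      · exact w12.symm
    · intro q
      rw [w10]
      rcases cover q with rfl | rfl | rfl | rfl | rfl | rfl | rfl | rfl | rfl <;> apply Eq.trans
      · rw [w00, ryx]
      · exact w20.symm
      · rw [w10, mul_assoc, hy2, mul_one]
      · exact w10.symm
      · rw [w01]
      · exact w22.symm
      · rw [w20, ryu]
      · exact w00.symm
      · rw [w02]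
      · exact w21.symm
      · rw [w22, ryw]
      · exact w01.symm
      · rw [w11, hY1]
      · exact w12.symm
      · rw [w12, hY2]
      · exact w11.symm
      · exact (show (y : G) * W (2, 1) * y = v by
          rw [w21]; simp only [mul_assoc, hsy, hy2, mul_one])
      · exact w02.symm
    · intro q
      rw [w01]
      rcases cover q with rfl | rfl | rfl | rfl | rfl | rfl | rfl | rfl | rfl <;> apply Eq.trans
      · rw [w00, rzx]
      · exact w02.symm
      · rw [w10, rzy]
      · exact w22.symm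
      · rw [w01, mul_assoc, hz2, mul_one]
      · exact w01.symm
      · rw [w20]
      · exact w12.symm
      · rw [w02, rzv]
      · exact w00.symm
      · rw [w22, rzw]
      · exact w10.symm
      · rw [w11, hZ2]
      · exact w21.symm
      · exact (show (z : G) * W (1, 2) * z = u by
          rw [w12]; simp only [mul_assoc, hsz, hz2, mul_one])
      · exact w20.symm
      · rw [w21, hZ1]
      · exact w11.symm
  have htr : ∀ t q, W t * (W (0, 0) * W q * W (0, 0)) * W t = W (q - t) := by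
    intro t q
    rw [hall, hall]
    have k : ∀ t q : ZMod 3, -t - (-0 - q) = q - t := by decide
    exact congrArg W (Prod.ext (k _ _) (k _ _))
  have hinj : Function.Injective W := by
    intro p q hpq
    by_contra hne
    have h0 : W (0, 0) = W (q - p) := by
      have := congrArg (fun g => W p * (W (0, 0) * g * W (0, 0)) * W p) hpq
      change W p * (W (0, 0) * W p * W (0, 0)) * W p = W p * (W (0, 0) * W q * W (0, 0)) * W p at this
      rwa [htr, htr, sub_self] at this
    rcases cover (q - p) with h | h | h | h | h | h | h | h | h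
    · exact hne (sub_eq_zero.1 h).symm
    all_goals rw [h] at h0
    · exact hxy (by rw [w00, w10] at h0; rw [h0])
    · exact hxz (by rw [w00, w01] at h0; rw [h0])
    · rw [w00, w20] at h0
      have h1 : (x : G) = y := by
        rw [← rxu, ← h0, hx2, one_mul]
      exact hxy (by rw [h1])
    · rw [w00, w02] at h0
      have h1 : (x : G) = z := by
        rw [← rxv, ← h0, hx2, one_mul]
      exact hxz (by rw [h1])
    · exact hxv (by rw [w00, w22] at h0; rw [← h0])
    · rw [w00, w11] at h0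
      have h1 : (x : G) = w := by
        calc (x : G) = x * x * x := by rw [hx2, one_mul]
          _ = x * (x * w * x) * x := by rw [← h0]
          _ = w := by simp only [mul_assoc, hsx, hx2, mul_one]
      exact hxv (by rw [← h1])
    · rw [w00, w12] at h0
      have h1 : v = u := by
        calc v = z * x * z := rzx.symm
          _ = z * (z * u * z) * z := by rw [← h0]
          _ = u := by simp only [mul_assoc, hsz, hz2, mul_one]
      have h2 : (z : G) = y := by rw [← rxv, h1, rxu]
      exact hyz (by rw [h2])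
    · rw [w00, w21] at h0
      have h1 : u = v := by
        calc u = y * x * y := ryx.symm
          _ = y * (y * v * y) * y := by rw [← h0]
          _ = v := by simp only [mul_assoc, hsy, hy2, mul_one]
      have h2 : (z : G) = y := by rw [← rxv, ← h1, rxu]
      exact hyz (by rw [h2])
  let P := Fin 2 → ZMod 3
  let c : P → ZMod 3 × ZMod 3 := fun s => (s 0, s 1)
  have hc : Function.Injective c := fun s t h => by
    funext i; fin_cases i <;> [exact congrArg Prod.fst h; exact congrArg Prod.snd h]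
  let f : P → D := fun s => ⟨W (c s), hWD _⟩
  have hf : Function.Injective f := fun s t h => hc (hinj (congrArg Subtype.val h))
  have hnc : ∀ s t : P, s ≠ t → ¬ Commute (W (c s)) (W (c t)) := by
    intro s t hne h
    have e := hall (c s) (c t)
    rw [h.eq, mul_assoc, mul_self hs (hWD _), mul_one] at e
    have h2 : c t = -c s - c t := hinj e
    apply hne
    apply hc
    revert h2
    generalize c s = a
    generalize c t = b
    revert a b
    decide +kernel
  refine isomorphic_restrict_span (partialLinear hD) f hf seed ?_ ?_ ?_ (fun l hl => line_two hl) ?_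
  · intro p hp
    rcases hseed hp with (rfl | rfl | rfl) | h | h
    · exact ⟨![0, 0], Subtype.ext w00⟩
    · exact ⟨![1, 0], Subtype.ext w10⟩
    · exact ⟨![0, 1], Subtype.ext w01⟩
    · exact ⟨![2, 0], Subtype.ext (w20.trans (ryx.symm.trans h.symm))⟩
    · exact ⟨![0, 2], Subtype.ext (w02.trans (rzx.symm.trans h.symm))⟩
  · rintro _ ⟨a, b, hb, rfl⟩
    have hab : a ≠ a + b := fun h => hb (by simpa using h)
    refine ⟨f a, f (a + b), hnc a _ hab, Set.ext fun w => ?_⟩
    have hr : W (c (a + (2 : ZMod 3) • b)) = W (c (a + b)) * W (c a) * (W (c (a + b)))⁻¹ := by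
      rw [inv_eq hs (hWD _), hall]
      congr 1
      have k : ∀ a b : ZMod 3, a + 2 * b = -(a + b) - a := by decide
      exact Prod.ext (k _ _) (k _ _)
    constructor
    · rintro ⟨s, ⟨k, rfl⟩, rfl⟩
      rcases (show ∀ k : ZMod 3, k = 0 ∨ k = 1 ∨ k = 2 by decide) k with rfl | rfl | rfl
      · left; simp
      · right; left; simp
      · exact Or.inr (Or.inr hr)
    · rintro (h | h | h)
      · exact ⟨a, ⟨0, by simp⟩, Subtype.ext h.symm⟩
      · exact ⟨a + b, ⟨1, by simp⟩, Subtype.ext h.symm⟩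
      · exact ⟨a + (2 : ZMod 3) • b, ⟨2, rfl⟩, Subtype.ext (hr.trans h.symm)⟩
  · intro p q hne
    refine Or.inl ⟨_, ⟨p, q - p, sub_ne_zero.2 (Ne.symm hne), rfl⟩, ⟨0, by simp⟩, ⟨1, by simp⟩⟩
  · intro S hS hsub
    have hxS := hsub hseed'.1
    have hyS := hsub hseed'.2.1
    have hzS := hsub hseed'.2.2
    have hU : (⟨u, huD⟩ : D) ∈ S := line_closed hD hS hyS hxS (fun h => hxy h.symm) rfl
    have hV : (⟨v, hvD⟩ : D) ∈ S := line_closed hD hS hzS hxS (fun h => hxz h.symm) rfl
    have hW : (⟨w, hwD⟩ : D) ∈ S := line_closed hD hS hzS hyS (fun h => hyz h.symm) rfl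
    have h11 : (⟨_, conj_mem_left hD x.2 hwD⟩ : D) ∈ S := line_closed hD hS hW hxS (fun h => hxv h.symm) rfl
    have h12 : (⟨_, conj_mem_left hD z.2 huD⟩ : D) ∈ S := line_closed hD hS hU hzS (fun h => hzu h.symm) rfl
    have h21 : (⟨_, conj_mem_left hD y.2 hvD⟩ : D) ∈ S := line_closed hD hS hV hyS (fun h => hyw h.symm) rfl
    rintro _ ⟨s, rfl⟩
    rcases cover (c s) with h | h | h | h | h | h | h | h | h
    · exact (Subtype.ext (by show W (c s) = _; rw [h, w00]) : f s = x) ▸ hxS
    · exact (Subtype.ext (by show W (c s) = _; rw [h, w10]) : f s = y) ▸ hyS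
    · exact (Subtype.ext (by show W (c s) = _; rw [h, w01]) : f s = z) ▸ hzS
    · exact (Subtype.ext (by show W (c s) = _; rw [h, w20]) : f s = ⟨u, huD⟩) ▸ hU
    · exact (Subtype.ext (by show W (c s) = _; rw [h, w02]) : f s = ⟨v, hvD⟩) ▸ hV
    · exact (Subtype.ext (by show W (c s) = _; rw [h, w22]) : f s = ⟨w, hwD⟩) ▸ hW
    · exact (Subtype.ext (by show W (c s) = _; rw [h, w11]) : f s = ⟨_, conj_mem_left hD x.2 hwD⟩) ▸ h11
    · exact (Subtype.ext (by show W (c s) = _; rw [h, w12]) : f s = ⟨_, conj_mem_left hD z.2 huD⟩) ▸ h12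
    · exact (Subtype.ext (by show W (c s) = _; rw [h, w21]) : f s = ⟨_, conj_mem_left hD y.2 hvD⟩) ▸ h21

theorem fischer_space : IsFischerSpace (threeTranspositionLines D) := by
  refine ⟨partialLinear hD, fun l hl => line_ncard hD hl, ?_⟩
  intro l hl m hm hne hmeet
  obtain ⟨x, hxl, hxm⟩ := hmeet
  have hs := hD.set
  obtain ⟨y, hyl, hyx⟩ : ∃ y ∈ l, y ≠ x := by
    obtain ⟨a, ha, b, hb, hab⟩ := line_two hl
    by_cases h : a = x
    · exact ⟨b, hb, fun e => hab (h.trans e.symm)⟩
    · exact ⟨a, ha, h⟩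
  obtain ⟨hxy, hleq⟩ := line_pair hD hl hxl hyl hyx.symm
  obtain ⟨a, ham, hax⟩ : ∃ a ∈ m, a ≠ x := by
    obtain ⟨a, ha, b, hb, hab⟩ := line_two hm
    by_cases h : a = x
    · exact ⟨b, hb, fun e => hab (h.trans e.symm)⟩
    · exact ⟨a, ha, h⟩
  obtain ⟨hxa, hmeq'⟩ := line_pair hD hm hxm ham hax.symm
  simp only [inv_eq hs a.2] at hmeq'
  have hw : (⟨_, conj_mem_left hD a.2 x.2⟩ : D) ∈ m := by rw [hmeq']; exact Or.inr (Or.inr rfl)
  -- choose the point of m, preferring one that commutes with y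
  obtain ⟨z, hzm, hzx, hz⟩ : ∃ z ∈ m, z ≠ x ∧
      (Commute (y : G) z ∨ (¬ Commute (y : G) z ∧ ¬ Commute (y : G) ((x : G) * z * x))) := by
    by_cases h1 : Commute (y : G) a
    · exact ⟨a, ham, hax, Or.inl h1⟩
    by_cases h2 : Commute (y : G) ((a : G) * x * a)
    · exact ⟨_, hw, fun e => hxa (by
        have h' := congrArg Subtype.val e
        have h'' := congrArg (fun g => (a : G) * g) h'
        simp only [mul_assoc, mul_self_mul hs a.2] at h''
        exact h''), Or.inl h2⟩
    · exact ⟨a, ham, hax, Or.inr ⟨h1, by rw [braid hs x.2 a.2 hxa]; exact h2⟩⟩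
  obtain ⟨hxz, hmeq⟩ := line_pair hD hm hxm hzm hzx.symm
  simp only [inv_eq hs y.2] at hleq
  simp only [inv_eq hs z.2] at hmeq
  have hzl : z ∉ l := fun h => hne (partialLinear hD l hl m hm x z hzx.symm hxl h hxm hzm)
  have hyz : y ≠ z := fun h => hzl (h ▸ hyl)
  have hseed : l ∪ m ⊆ {x, y, z} ∪ {p : D | (p : G) = (y : G) * x * y ∨ (p : G) = (z : G) * x * z} := by
    rintro p (hp | hp)
    · rw [hleq] at hp
      rcases hp with h | h | h
      · exact Or.inl (Or.inl (Subtype.ext h))
      · exact Or.inl (Or.inr (Or.inl (Subtype.ext h)))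
      · exact Or.inr (Or.inl h)
    · rw [hmeq] at hp
      rcases hp with h | h | h
      · exact Or.inl (Or.inl (Subtype.ext h))
      · exact Or.inl (Or.inr (Or.inr (Subtype.ext h)))
      · exact Or.inr (Or.inr h)
  rcases hz with h | ⟨h1, h2⟩
  · exact Or.inl (dual_plane hD hxy hxz h hyz (l ∪ m) hseed
      ⟨Or.inl hxl, Or.inl hyl, fun S _ hS => hS (Or.inr hzm)⟩)
  · refine Or.inr (affine_plane hD hxy hxz h1 h2 (fun e => hzl ?_) (l ∪ m) hseed ⟨Or.inl hxl, Or.inl hyl, Or.inr hzm⟩)
    rw [hleq]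
    exact Or.inr (Or.inr (e.trans (braid hs x.2 y.2 hxy)))

end CfsgLib.ThreeTrans.Fischer
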