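import Mathlib
import Cfsg.Agent.Lib.ThreeTrans.Fischer

/-! The involutions t(x) of a Fischer space. -/

namespace CfsgLib.ThreeTrans.FischerPerm

open Cfsg Cfsg.LineSystem

variable {X : Type*} {L : Set (Set X)}

theorem lineMap_eq (hpl : IsPartialLinear L) {x y z : X} (hzx : z ≠ x) (hzy : z ≠ y)
    (hxy : x ≠ y) (hl : ({x, y, z} : Set X) ∈ L) : lineMap L x y = z := by
  have h : ∃ w : X, w ≠ x ∧ w ≠ y ∧ x ≠ y ∧ ({x, y, w} : Set X) ∈ L := ⟨z, hzx, hzy, hxy, hl⟩
  rw [lineMap, dif_pos h]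
  obtain ⟨h1, h2, -, h4⟩ := h.choose_spec
  have e := hpl _ h4 _ hl x y hxy (by simp) (by simp) (by simp) (by simp)
  have : h.choose ∈ ({x, y, z} : Set X) := e ▸ (by simp)
  simpa [h1, h2] using this

theorem lineMap_fix {x y : X}
    (h : ¬ ∃ w : X, w ≠ x ∧ w ≠ y ∧ x ≠ y ∧ ({x, y, w} : Set X) ∈ L) : lineMap L x y = y :=
  dif_neg h

theorem lineMap_self (x : X) : lineMap L x x = x :=
  lineMap_fix fun ⟨_, _, _, h, _⟩ => h rfl

theorem lineMap_iso {Y : Type*} {M : Set (Set Y)} (hpl : IsPartialLinear L) {e : X ≃ Y}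
    (he : IsIso L M e) (hM : IsPartialLinear M) (x y : X) :
    e (lineMap L x y) = lineMap M (e x) (e y) := by
  by_cases h : ∃ w : X, w ≠ x ∧ w ≠ y ∧ x ≠ y ∧ ({x, y, w} : Set X) ∈ L
  · obtain ⟨w, h1, h2, h3, h4⟩ := h
    rw [lineMap_eq hpl h1 h2 h3 h4,
      lineMap_eq hM (e.injective.ne h1) (e.injective.ne h2) (e.injective.ne h3)]
    simpa [Set.image_insert_eq] using (he _).1 h4
  · rw [lineMap_fix h, lineMap_fix]
    rintro ⟨w, h1, h2, h3, h4⟩
    refine h ⟨e.symm w, fun a => h1 ?_, fun a => h2 ?_, fun a => h3 (a ▸ rfl), (he _).2 ?_⟩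
    · rw [← a, e.apply_symm_apply]
    · rw [← a, e.apply_symm_apply]
    · simpa [Set.image_insert_eq] using h4

theorem partialLinear_of_iso {Y : Type*} {M : Set (Set Y)} (hpl : IsPartialLinear L) {e : X ≃ Y}
    (he : IsIso L M e) : IsPartialLinear M := by
  intro l hl m hm x y hne hxl hyl hxm hym
  have hs : ∀ s : Set Y, e '' (e.symm '' s) = s := fun s => by simp [← Set.image_comp]
  have h1 := (he (e.symm '' l)).2 (by rwa [hs])
  have h2 := (he (e.symm '' m)).2 (by rwa [hs])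
  rw [← hs l, ← hs m, hpl _ h1 _ h2 (e.symm x) (e.symm y) (e.symm.injective.ne hne)
    ⟨x, hxl, rfl⟩ ⟨y, hyl, rfl⟩ ⟨x, hxm, rfl⟩ ⟨y, hym, rfl⟩]

theorem partialLinear_restrict (hpl : IsPartialLinear L) (P : Set X) :
    IsPartialLinear (restrict L P) := by
  rintro _ ⟨l, hl, -, rfl⟩ _ ⟨m, hm, -, rfl⟩ x y hne hxl hyl hxm hym
  rw [hpl l hl m hm x y (Subtype.coe_injective.ne hne) hxl hyl hxm hym]

theorem lineMap_restrict (hpl : IsPartialLinear L) {P : Set X} (hP : IsSubspace L P) (x y : P) :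
    ((lineMap (restrict L P) x y : P) : X) = lineMap L (x : X) y := by
  by_cases h : ∃ w : X, w ≠ x ∧ w ≠ y ∧ (x : X) ≠ y ∧ ({(x : X), (y : X), w} : Set X) ∈ L
  · obtain ⟨w, h1, h2, h3, h4⟩ := h
    have hsub := hP _ h4 x x.2 y y.2 h3 (by simp) (by simp)
    have hw : w ∈ P := hsub (by simp)
    have e := lineMap_eq (partialLinear_restrict hpl P) (x := x) (y := y) (z := ⟨w, hw⟩)
      (fun a => h1 (congrArg Subtype.val a)) (fun a => h2 (congrArg Subtype.val a))
      (fun a => h3 (congrArg Subtype.val a))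
      ⟨_, h4, hsub, by ext a; simp [Subtype.ext_iff]⟩
    rw [e, lineMap_eq hpl h1 h2 h3 h4]
  · rw [lineMap_fix h, lineMap_fix]
    rintro ⟨w, h1, h2, h3, l, hl, hsub, heq⟩
    refine h ⟨w, Subtype.coe_injective.ne h1, Subtype.coe_injective.ne h2,
      Subtype.coe_injective.ne h3, ?_⟩
    convert hl using 1
    have := congrArg (Set.image Subtype.val) heq
    have hl' : Subtype.val '' {a : P | (a : X) ∈ l} = l := by
      ext a
      constructor
      · rintro ⟨b, hb, rfl⟩; exact hb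
      · exact fun ha => ⟨⟨a, hsub ha⟩, ha, rfl⟩
    simpa [Set.image_insert_eq, hl'] using this

section Models

open CfsgLib.ThreeTrans.Fischer

theorem affine_model (hM : IsPartialLinear affinePlaneThree) (a : Fin 2 → ZMod 3) :
    ∀ l ∈ affinePlaneThree, lineMap affinePlaneThree a '' l ∈ affinePlaneThree := by
  have key : ∀ b, lineMap affinePlaneThree a b = -a - b := by
    intro b
    have k2 : ∀ r : ZMod 3, -r - r = r := by decide
    by_cases hab : a = b
    · subst hab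
      rw [lineMap_self]
      funext i
      exact (k2 _).symm
    · have k3 : ∀ r t : ZMod 3, -r - t = r → r = t := by decide
      have k4 : ∀ r t : ZMod 3, -r - t = t → r = t := by decide
      refine lineMap_eq hM (fun e => hab (funext fun i => k3 _ _ (congrFun e i)))
        (fun e => hab (funext fun i => k4 _ _ (congrFun e i))) hab
        ⟨a, b - a, sub_ne_zero.2 (Ne.symm hab), ?_⟩
      have h2 : a + (2 : ZMod 3) • (b - a) = -a - b := by
        have k : ∀ r t : ZMod 3, r + 2 * (t - r) = -r - t := by decide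
        exact funext fun i => k _ _
      ext w
      simp only [Set.mem_insert_iff, Set.mem_singleton_iff, Set.mem_ofPred_eq]
      constructor
      · rintro (rfl | rfl | rfl)
        · exact ⟨0, by simp⟩
        · exact ⟨1, by simp⟩
        · exact ⟨2, h2.symm⟩
      · rintro ⟨c, rfl⟩
        rcases (show ∀ k : ZMod 3, k = 0 ∨ k = 1 ∨ k = 2 by decide) c with rfl | rfl | rfl
        · simp
        · simp
        · exact Or.inr (Or.inr h2)
  rintro _ ⟨v, w, hw, rfl⟩
  refine ⟨-a - v, w, hw, ?_⟩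
  ext u
  constructor
  · rintro ⟨_, ⟨c, rfl⟩, rfl⟩
    exact ⟨-c, by rw [key, neg_smul]; abel⟩
  · rintro ⟨c, rfl⟩
    exact ⟨v + (-c) • w, ⟨-c, rfl⟩, by rw [key, neg_smul]; abel⟩

/-- A transposition acting on the two-element subsets of four letters. -/
def act (s t : DualAffinePoint) : DualAffinePoint :=
  ⟨t.val.map (pairPerm s).toEmbedding, by simp [t.2]⟩

theorem act_spec : ∀ s t : DualAffinePoint,
    (act s t = t ∧ (s = t ∨ ∀ i : Fin 4, i ∈ s.val ∨ i ∈ t.val)) ∨
    (act s t ≠ t ∧ act s t ≠ s ∧ s ≠ t ∧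
      ∃ i : Fin 4, ∀ u : DualAffinePoint, (i ∉ u.val ↔ u = s ∨ u = t ∨ u = act s t)) := by
  decide +kernel

theorem act_line : ∀ (s : DualAffinePoint) (i : Fin 4), ∃ j : Fin 4, ∀ u : DualAffinePoint,
    (j ∉ u.val ↔ i ∉ (act s u).val) ∧ act s (act s u) = u := by
  decide +kernel

theorem dual_model (hM : IsPartialLinear dualAffinePlaneTwo) (s : DualAffinePoint) :
    ∀ l ∈ dualAffinePlaneTwo, lineMap dualAffinePlaneTwo s '' l ∈ dualAffinePlaneTwo := by
  have key : ∀ t, lineMap dualAffinePlaneTwo s t = act s t := by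
    intro t
    rcases act_spec s t with ⟨h1, h2⟩ | ⟨h1, h2, h3, i, hi⟩
    · rw [h1]
      refine lineMap_fix ?_
      rintro ⟨w, -, -, h5, i, hi⟩
      rcases h2 with h2 | h2
      · exact h5 h2
      · have hs : s ∈ ({s, t, w} : Set DualAffinePoint) := by simp
        have ht : t ∈ ({s, t, w} : Set DualAffinePoint) := by simp
        rw [hi] at hs ht
        exact (h2 i).elim hs ht
    · refine lineMap_eq hM h2 h1 h3 ⟨i, ?_⟩
      ext u
      simpa using (hi u).symm
  rintro _ ⟨i, rfl⟩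
  obtain ⟨j, hj⟩ := act_line s i
  refine ⟨j, ?_⟩
  ext u
  constructor
  · rintro ⟨t, ht, rfl⟩
    rw [key]
    exact (hj (act s t)).1.2 (by rwa [(hj t).2])
  · intro hu
    exact ⟨act s u, (hj u).1.1 hu, by rw [key, (hj u).2]⟩

end Models

theorem subspace_span (S : Set X) : IsSubspace L (span L S) := by
  intro l hl x hx y hy hne hxl hyl
  exact Set.subset_sInter fun T hT =>
    hT.2 l hl x (Set.mem_sInter.1 hx T hT) y (Set.mem_sInter.1 hy T hT) hne hxl hyl

theorem subset_span (S : Set X) : S ⊆ span L S := Set.subset_sInter fun _ hT => hT.1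

variable (hL : IsFischerSpace L)
include hL

theorem line_split {l : Set X} (hl : l ∈ L) {x : X} (hx : x ∈ l) :
    ∃ y z, x ≠ y ∧ z ≠ x ∧ z ≠ y ∧ l = {x, y, z} := by
  obtain ⟨a, b, c, hab, hac, hbc, rfl⟩ := Set.ncard_eq_three.1 (hL.2.1 l hl)
  rcases hx with rfl | rfl | rfl
  · exact ⟨b, c, hab, hac.symm, hbc.symm, rfl⟩
  · exact ⟨a, c, hab.symm, hbc.symm, hac.symm, Set.insert_comm _ _ _⟩
  · exact ⟨a, b, hac.symm, hbc, hab.symm, by ext w; simp [or_comm, or_left_comm]⟩

theorem lineMap_symm {x y z : X} (hzx : z ≠ x) (hzy : z ≠ y) (hxy : x ≠ y)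
    (hl : ({x, y, z} : Set X) ∈ L) : lineMap L x z = y ∧ lineMap L y x = z := by
  refine ⟨lineMap_eq hL.1 hxy.symm hzy.symm hzx.symm ?_, lineMap_eq hL.1 hzy hzx hxy.symm ?_⟩
  · rwa [show ({x, z, y} : Set X) = {x, y, z} by rw [Set.pair_comm z y]]
  · rwa [Set.insert_comm]

theorem lineMap_invol (x y : X) : lineMap L x (lineMap L x y) = y := by
  by_cases h : ∃ w : X, w ≠ x ∧ w ≠ y ∧ x ≠ y ∧ ({x, y, w} : Set X) ∈ L
  · obtain ⟨w, h1, h2, h3, h4⟩ := h
    rw [lineMap_eq hL.1 h1 h2 h3 h4, (lineMap_symm hL h1 h2 h3 h4).1]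
  · rw [lineMap_fix h, lineMap_fix h]

/-- The permutation t(x). -/
noncomputable def perm (x : X) : Equiv.Perm X :=
  Function.Involutive.toPerm (lineMap L x) (lineMap_invol hL x)

theorem coe_perm (x : X) : ⇑(perm hL x) = lineMap L x := rfl

theorem image_mem (x : X) {l : Set X} (hl : l ∈ L) : lineMap L x '' l ∈ L := by
  classical
  by_cases hx : x ∈ l
  · obtain ⟨y, z, h1, h2, h3, rfl⟩ := line_split hL hl hx
    rw [Set.image_insert_eq, Set.image_insert_eq, Set.image_singleton, lineMap_self,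
      lineMap_eq hL.1 h2 h3 h1 hl, (lineMap_symm hL h2 h3 h1 hl).1, Set.pair_comm z y]
    exact hl
  by_cases hc : ∃ y ∈ l, ∃ m ∈ L, x ∈ m ∧ y ∈ m
  swap
  · have : lineMap L x '' l = id '' l := Set.image_congr fun y hy =>
      lineMap_fix fun ⟨w, _, _, _, h4⟩ => hc ⟨y, hy, _, h4, by simp, by simp⟩
    rwa [this, Set.image_id]
  obtain ⟨y, hy, m, hm, hxm, hym⟩ := hc
  have hne : m ≠ l := fun h => hx (h ▸ hxm)
  set P := span L (m ∪ l) with hPdef
  have hP : IsSubspace L P := subspace_span _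
  have hxP : x ∈ P := subset_span _ (Or.inl hxm)
  have hlP : l ⊆ P := fun w hw => subset_span _ (Or.inr hw)
  have main : ∀ {Y : Type} (M : Set (Set Y)), Isomorphic (restrict L P) M →
      (IsPartialLinear M → ∀ a, ∀ k ∈ M, lineMap M a '' k ∈ M) → lineMap L x '' l ∈ L := by
    intro Y M ⟨e, he⟩ hmod
    have hR := partialLinear_restrict hL.1 P
    have hM := partialLinear_of_iso hR he
    let lP : Set P := {w | (w : X) ∈ l}
    have h1 : e '' lP ∈ M := (he lP).1 ⟨l, hl, hlP, rfl⟩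
    have h2 := hmod hM (e ⟨x, hxP⟩) _ h1
    have h3 : lineMap M (e ⟨x, hxP⟩) '' (e '' lP) = e '' (lineMap (restrict L P) ⟨x, hxP⟩ '' lP) := by
      simp only [← Set.image_comp]
      exact Set.image_congr fun w _ => (lineMap_iso hR he hM _ w).symm
    rw [h3] at h2
    obtain ⟨l', hl', hsub, heq⟩ := (he _).2 h2
    have h4 : l' = lineMap L x '' l := by
      have e1 : Subtype.val '' {w : P | (w : X) ∈ l'} = l' := by
        ext a
        constructor
        · rintro ⟨b, hb, rfl⟩; exact hb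
        · exact fun ha => ⟨⟨a, hsub ha⟩, ha, rfl⟩
      rw [← e1, ← heq, ← Set.image_comp]
      ext a
      constructor
      · rintro ⟨w, hw, rfl⟩
        exact ⟨w, hw, (lineMap_restrict hL.1 hP ⟨x, hxP⟩ w).symm⟩
      · rintro ⟨w, hw, rfl⟩
        exact ⟨⟨w, hlP hw⟩, hw, lineMap_restrict hL.1 hP ⟨x, hxP⟩ ⟨w, hlP hw⟩⟩
    exact h4 ▸ hl'
  rcases hL.2.2 m hm l hl hne ⟨y, hym, hy⟩ with h | h
  · exact main _ h dual_model
  · exact main _ h affine_model

theorem isIso_perm (x : X) : IsIso L L (perm hL x) := by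
  intro l
  refine ⟨fun hl => image_mem hL x hl, fun hl => ?_⟩
  have h := image_mem hL x hl
  rw [coe_perm, ← Set.image_comp] at h
  simpa [Function.comp_def, lineMap_invol hL] using h

theorem conj_perm (x y : X) :
    perm hL x * perm hL y * perm hL x = perm hL (lineMap L x y) := by
  ext w
  show lineMap L x (lineMap L y (lineMap L x w)) = _
  have h := lineMap_iso hL.1 (isIso_perm hL x) hL.1 y (lineMap L x w)
  simp only [coe_perm] at h
  rw [h, lineMap_invol hL]
  rfl

theorem perm_mul_self (x : X) : perm hL x * perm hL x = 1 :=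
  Equiv.ext (lineMap_invol hL x)

theorem orderOf_perm (hnd : IsNondegenerate L) (x : X) : orderOf (perm hL x) = 2 := by
  refine orderOf_eq_prime (by rw [pow_two]; exact perm_mul_self hL x) fun h => ?_
  obtain ⟨l, hl, hxl⟩ := hnd x
  obtain ⟨y, z, h1, h2, h3, rfl⟩ := line_split hL hl hxl
  have h4 := congrArg (fun f : Equiv.Perm X => f y) h
  exact h3 ((lineMap_eq hL.1 h2 h3 h1 hl).symm.trans h4)

theorem order_le_three (x y : X) :
    (perm hL x * perm hL y) ^ 2 = 1 ∨ (perm hL x * perm hL y) ^ 3 = 1 := by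
  by_cases h : ∃ w : X, w ≠ x ∧ w ≠ y ∧ x ≠ y ∧ ({x, y, w} : Set X) ∈ L
  · right
    obtain ⟨w, h1, h2, h3, h4⟩ := h
    have a := conj_perm hL x y
    have b := conj_perm hL y x
    rw [lineMap_eq hL.1 h1 h2 h3 h4] at a
    rw [(lineMap_symm hL h1 h2 h3 h4).2] at b
    have e : (perm hL x * perm hL y) ^ 3 =
        (perm hL x * perm hL y * perm hL x) * (perm hL y * perm hL x * perm hL y) := by
      simp [pow_succ, mul_assoc]
    rw [e, a, b, perm_mul_self]
  · left
    have a := conj_perm hL x y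
    rw [lineMap_fix h] at a
    rw [pow_two, ← mul_assoc, a, perm_mul_self]

theorem main (hnd : IsNondegenerate L) :
    (∀ x : X, ∃ σ : Equiv.Perm X, ⇑σ = lineMap L x ∧ orderOf σ = 2 ∧ IsIso L L σ) ∧
      IsThreeTranspositionSet {σ : Equiv.Perm X | ∃ x : X, ⇑σ = lineMap L x} := by
  refine ⟨fun x => ⟨perm hL x, rfl, orderOf_perm hL hnd x, isIso_perm hL x⟩, ?_, ?_⟩
  · rintro σ ⟨x, hx⟩
    rw [show σ = perm hL x from DFunLike.coe_injective hx]
    exact orderOf_perm hL hnd x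
  · rintro σ ⟨x, hx⟩ τ ⟨y, hy⟩
    rw [show σ = perm hL x from DFunLike.coe_injective hx,
      show τ = perm hL y from DFunLike.coe_injective hy]
    exact order_le_three hL x y

end CfsgLib.ThreeTrans.FischerPerm
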