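import Mathlib
import Cfsg.Agent.Lib.ThreeTrans.FischerHyp

/-! Largest commuting subsets of a class of 3-transpositions. -/

set_option autoImplicit false

namespace CfsgLib.ThreeTrans.MaxClique

open CfsgLib.ThreeTrans

variable {G : Type*} [Group G] [Finite G] {D : Set G}

theorem commute_of_pGroup (hs : Cfsg.IsThreeTranspositionSet D) {P : Subgroup G} (hP : IsPGroup 2 P)
    {a b : G} (ha : a ∈ D) (hb : b ∈ D) (haP : a ∈ P) (hbP : b ∈ P) : Commute a b := by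
  by_contra h
  have h3 := orderOf_mul_of_not_commute hs ha hb h
  obtain ⟨k, hk⟩ := hP ⟨a * b, mul_mem haP hbP⟩
  have hk' : (a * b) ^ 2 ^ k = 1 := congrArg Subtype.val hk
  have := orderOf_dvd_of_pow_eq_one hk'
  rw [h3] at this
  exact absurd (Nat.prime_three.dvd_of_dvd_pow this) (by norm_num)

theorem isPGroup_closure {E : Set G} (hs : Cfsg.IsThreeTranspositionSet D) (hE : E ⊆ D)
    (hc : ∀ a ∈ E, ∀ b ∈ E, Commute a b) : IsPGroup 2 (Subgroup.closure E) := by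
  have hcc := Subgroup.isMulCommutative_closure (k := E) fun x hx y hy => hc x hx y hy
  rintro ⟨x, hx⟩
  refine ⟨1, Subtype.ext ?_⟩
  show x ^ 2 ^ 1 = 1
  induction hx using Subgroup.closure_induction with
  | mem y hy => rw [pow_one, pow_two]; exact mul_self hs (hE hy)
  | one => simp
  | mul y z hy hz ihy ihz =>
    have hc' : Commute y z := congrArg Subtype.val (hcc.is_comm.comm ⟨y, hy⟩ ⟨z, hz⟩)
    rw [hc'.mul_pow, ihy, ihz, one_mul]
  | inv y hy ih => rw [inv_pow, ih, inv_one]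

/-- A largest commuting subset is the part of `D` in any 2-subgroup containing it. -/
theorem eq_inter (hs : Cfsg.IsThreeTranspositionSet D) {E : Set G} (hE : E ⊆ D)
    (hmax : ∀ E' : Set G, E' ⊆ D → (∀ a ∈ E', ∀ b ∈ E', Commute a b) → E'.ncard ≤ E.ncard)
    {P : Subgroup G} (hP : IsPGroup 2 P) (hEP : E ⊆ P) : E = D ∩ P :=
  Set.eq_of_subset_of_ncard_le (Set.subset_inter hE hEP)
    (hmax _ Set.inter_subset_left fun _ ha _ hb => commute_of_pGroup hs hP ha.1 hb.1 ha.2 hb.2)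
    (Set.toFinite _)

/-- Two largest commuting subsets fuse inside the centraliser of common members. -/
theorem fuse (hD : ConjClosed D) {E : Set G} (hE : E ⊆ D) (hc : ∀ a ∈ E, ∀ b ∈ E, Commute a b)
    (hmax : ∀ E' : Set G, E' ⊆ D → (∀ a ∈ E', ∀ b ∈ E', Commute a b) → E'.ncard ≤ E.ncard)
    (g : G) (S : Set G) (hS : S ⊆ E) (hS' : S ⊆ (fun x => g * x * g⁻¹) '' E) :
    ∃ h : G, (∀ s ∈ S, h * s * h⁻¹ = s) ∧ ∀ x, h * g * x * (h * g)⁻¹ ∈ E ↔ x ∈ E := by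
  classical
  haveI := Fact.mk Nat.prime_two
  set C := Subgroup.centralizer S with hC
  set E' := (fun x => g * x * g⁻¹) '' E with hE'
  have hE'D : E' ⊆ D := by
    rintro _ ⟨x, hx, rfl⟩
    exact hD.conj g x (hE hx)
  have hc' : ∀ a ∈ E', ∀ b ∈ E', Commute a b := by
    rintro _ ⟨x, hx, rfl⟩ _ ⟨y, hy, rfl⟩
    exact (Commute.conj_iff g).2 (hc x hx y hy)
  have hsyl : ∀ F : Set G, F ⊆ D → (∀ a ∈ F, ∀ b ∈ F, Commute a b) → S ⊆ F →
      ∃ P : Sylow 2 C, F ⊆ ((P : Subgroup C).map C.subtype : Subgroup G) := by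
    intro F hF hcF hSF
    have hle : Subgroup.closure F ≤ C := (Subgroup.closure_le _).2 fun x hx =>
      Subgroup.mem_centralizer_iff.2 fun s hs => (hcF s (hSF hs) x hx).eq
    have hp : IsPGroup 2 ((Subgroup.closure F).subgroupOf C) :=
      (isPGroup_closure hD.set hF hcF).comap_subtype
    obtain ⟨P, hP⟩ := hp.exists_le_sylow
    exact ⟨P, fun x hx => ⟨⟨x, hle (Subgroup.subset_closure hx)⟩,
      hP (show (⟨x, hle (Subgroup.subset_closure hx)⟩ : C) ∈ (Subgroup.closure F).subgroupOf C from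
        Subgroup.mem_subgroupOf.2 (Subgroup.subset_closure hx)), rfl⟩⟩
  obtain ⟨P, hP⟩ := hsyl E hE hc hS
  obtain ⟨P', hP'⟩ := hsyl E' hE'D hc' hS'
  obtain ⟨h, hh⟩ := MulAction.exists_smul_eq C P' P
  refine ⟨h, fun s hs => ?_, ?_⟩
  · rw [← Subgroup.mem_centralizer_iff.1 h.2 s hs, mul_inv_cancel_right]
  have heq := eq_inter hD.set hE hmax (P.isPGroup'.map C.subtype) hP
  have hsub : (fun x => (h : G) * g * x * ((h : G) * g)⁻¹) '' E ⊆ E := by
    rintro _ ⟨x, hx, rfl⟩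
    rw [heq]
    refine ⟨hD.conj _ x (hE hx), ?_⟩
    obtain ⟨y, hy, hyx⟩ := hP' ⟨x, hx, rfl⟩
    refine ⟨h * y * h⁻¹, ?_, ?_⟩
    · rw [← hh]
      exact ⟨y, hy, rfl⟩
    · rw [map_mul, map_mul, map_inv, hyx]
      simp [mul_assoc]
  have hfe := Set.eq_of_subset_of_ncard_le hsub
    (Set.ncard_image_of_injective _ fun u v k => mul_left_cancel (mul_right_cancel k)).ge
    (Set.toFinite _)
  intro x
  refine ⟨fun hx => ?_, fun hx => hfe ▸ ⟨x, hx, rfl⟩⟩
  obtain ⟨y, hy, e⟩ : (h : G) * g * x * ((h : G) * g)⁻¹ ∈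
      (fun x => (h : G) * g * x * ((h : G) * g)⁻¹) '' E := hfe.symm ▸ hx
  exact (mul_left_cancel (mul_right_cancel e)) ▸ hy

theorem main (hC : ClassTwo D) (hprim : Cfsg.IsPrimitiveUnderConj D)
    (hw : ∃ a ∈ D, ∃ b ∈ D, a ≠ b ∧ Commute a b) {E : Set G} (hE : E ⊆ D)
    (hc : ∀ a ∈ E, ∀ b ∈ E, Commute a b)
    (hmax : ∀ E' : Set G, E' ⊆ D → (∀ a ∈ E', ∀ b ∈ E', Commute a b) → E'.ncard ≤ E.ncard) :
    (∃ P : Sylow 2 G, (P : Subgroup G) ≤ Subgroup.normalizer E) ∧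
      ∀ a ∈ E, ∀ b ∈ E, ∀ c ∈ E, ∀ d ∈ E, a ≠ b → c ≠ d →
        ∃ g ∈ Subgroup.normalizer E, g * a * g⁻¹ = c ∧ g * b * g⁻¹ = d := by
  haveI := Fact.mk Nat.prime_two
  refine ⟨?_, ?_⟩
  · obtain ⟨P, hP⟩ := (isPGroup_closure hC.closed.set hE hc).exists_le_sylow
    have heq := eq_inter hC.closed.set hE hmax P.isPGroup' fun x hx => hP (Subgroup.subset_closure hx)
    refine ⟨P, fun g hg => ?_⟩
    rw [Subgroup.mem_set_normalizer_iff, heq]
    intro n
    constructor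
    · exact fun hn => ⟨hC.closed.conj g n hn.1, mul_mem (mul_mem hg hn.2) (inv_mem hg)⟩
    · intro hn
      have h1 := hC.closed.conj' g hn.1
      have h2 := mul_mem (mul_mem (inv_mem hg) hn.2) hg
      have e : g⁻¹ * (g * n * g⁻¹) * g = n := by group
      rw [e] at h1 h2
      exact ⟨h1, h2⟩
  intro a ha b hb c hc' d hd hab hcd
  obtain ⟨g, hg⟩ := hC.class_eq a (hE ha) c (hE hc')
  obtain ⟨h, hh, hN⟩ := fuse hC.closed hE hc hmax g {c} (Set.singleton_subset_iff.2 hc')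
    (Set.singleton_subset_iff.2 ⟨a, ha, hg⟩)
  set n₁ := h * g with hn₁
  have ha' : n₁ * a * n₁⁻¹ = c := by
    rw [hn₁, show h * g * a * (h * g)⁻¹ = h * (g * a * g⁻¹) * h⁻¹ by group, hg]
    exact hh c rfl
  set b' := n₁ * b * n₁⁻¹ with hb'
  have hb'E : b' ∈ E := (hN b).2 hb
  have hb'c : b' ≠ c := by
    rw [← ha', hb']
    exact fun k => hab (mul_left_cancel (mul_right_cancel k)).symm
  obtain ⟨k, hkc, hkd⟩ := CfsgLib.Sporadic.RankThree.perp_transitive hC hprim hw (hE hc') (hE hb'E) (hE hd)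
    hb'c hcd.symm (hc c hc' b' hb'E) (hc c hc' d hd)
  have hkc' : k * c * k⁻¹ = c := by rw [hkc.eq, mul_inv_cancel_right]
  obtain ⟨l, hl, hM⟩ := fuse hC.closed hE hc hmax k {c, d}
    (Set.insert_subset hc' (Set.singleton_subset_iff.2 hd))
    (Set.insert_subset ⟨c, hc', hkc'⟩ (Set.singleton_subset_iff.2 ⟨b', hb'E, hkd⟩))
  refine ⟨l * k * n₁, ?_, ?_, ?_⟩
  · rw [Subgroup.mem_set_normalizer_iff]
    intro x
    rw [show l * k * n₁ * x * (l * k * n₁)⁻¹ = l * k * (n₁ * x * n₁⁻¹) * (l * k)⁻¹ by group,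
      hM, hN]
  · rw [show l * k * n₁ * a * (l * k * n₁)⁻¹ = l * (k * (n₁ * a * n₁⁻¹) * k⁻¹) * l⁻¹ by group,
      ha', hkc']
    exact hl c (Set.mem_insert _ _)
  · rw [show l * k * n₁ * b * (l * k * n₁)⁻¹ = l * (k * (n₁ * b * n₁⁻¹) * k⁻¹) * l⁻¹ by group,
      ← hb', hkd]
    exact hl d (Set.mem_insert_of_mem _ rfl)

end CfsgLib.ThreeTrans.MaxClique
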