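import Mathlib
import Cfsg.Agent.Lib.ThreeTrans.HexM22

/-! Exchanging two commuting members while fixing a third in groups of type M(23). -/

set_option autoImplicit false

namespace CfsgLib.ThreeTrans

universe u

variable {G : Type u} [Group G] [Finite G] {D : Set G}

/-- Two commuting members of a group of type M(22) can be exchanged. -/
theorem swap22 (hD : Cfsg.IsThreeTranspositionGroup D) (h : Cfsg.IsOfTypeM22 G D) {a b : G} (ha : a ∈ D)
    (hb : b ∈ D) (hne : a ≠ b) (hab : Commute a b) : ∃ g : G, g * a * g⁻¹ = b ∧ g * b * g⁻¹ = a := by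
  obtain ⟨d, c, F, _, _, π, -, -, hB, -, hE, -⟩ := base22 hD h
  have hG := good22 hD h
  have hcls := hG.rigid.class_eq
  obtain ⟨πb, hBb, hEb⟩ := hB.exists_base hcls hb
  obtain ⟨k, rfl⟩ := hcls a ha b hb
  have h1 : k * (k * a * k⁻¹) * k⁻¹ ∈ Dd D (k * a * k⁻¹) :=
    conj_mem_Dd_conj (conjClosed_of_group hD) k ⟨hb, Ne.symm hne, hab⟩
  obtain ⟨g, hg, hgg⟩ := hBb.orbit_eq hcls hG.rigid.twins (hEb.symm ▸ hE) h1 (y := a) ⟨ha, hne, hab.symm⟩
  refine ⟨g * k, ?_, ?_⟩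
  · calc g * k * a * (g * k)⁻¹ = g * (k * a * k⁻¹) * g⁻¹ := by group
      _ = k * a * k⁻¹ := by rw [(commute_of_mem_Hd hg).eq, mul_inv_cancel_right]
  · rw [show g * k * (k * a * k⁻¹) * (g * k)⁻¹ = g * (k * (k * a * k⁻¹) * k⁻¹) * g⁻¹ by group, hgg]

/-- Two commuting members can be exchanged fixing a member commuting with both. -/
theorem swap23 (hD : Cfsg.IsThreeTranspositionGroup D) (h : Cfsg.IsOfTypeM23 G D) {a b p : G} (ha : a ∈ Dd D p)
    (hb : b ∈ Dd D p) (hp : p ∈ D) (hne : a ≠ b) (hab : Commute a b) :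
    ∃ g : G, g * a * g⁻¹ = b ∧ g * b * g⁻¹ = a ∧ g * p * g⁻¹ = p := by
  have hG := good23 hD h
  have hcls := hG.rigid.class_eq
  have hNT := hG.rigid.twins
  obtain ⟨-, d, hd, c, -, -, h22, -⟩ := h
  have hB := isBase_mk hD hd
  have h22' : Cfsg.IsOfTypeM22 _ (imgSet D d (QuotientGroup.mk' (Subgroup.center (Hd D d)))) :=
    img_mk_eq (D := D) d ▸ typeM22_ne_one h22
  obtain ⟨π, hBp, hEp⟩ := hB.exists_base hcls hp
  let a' : Hd D p := ⟨a, Subgroup.subset_closure ha⟩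
  let b' : Hd D p := ⟨b, Subgroup.subset_closure hb⟩
  obtain ⟨k, hk1, hk2⟩ := swap22 hB.img_group h22' (hEp ▸ hBp.img_mem hcls hNT (x := a') ha)
    (hEp ▸ hBp.img_mem hcls hNT (x := b') hb)
    (fun e => hne (congrArg Subtype.val (hBp.img_injective hcls hNT (x := a') (y := b') ha hb e)))
    ((hBp.commute_img (x := a') (y := b') ha hb).2 hab)
  obtain ⟨g, rfl⟩ := hBp.surj k
  have key : ∀ {x y : Hd D p}, (x : G) ∈ Dd D p → (y : G) ∈ Dd D p → π g * π x * (π g)⁻¹ = π y →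
      (g : G) * x * (g : G)⁻¹ = y := fun {x y} hx hy e =>
    congrArg Subtype.val (hBp.img_injective hcls hNT (x := g * x * g⁻¹) (y := y)
      (conj_mem_Dd (conjClosed_of_group hD) (commute_of_mem_Hd g.2) hx) hy (by rw [map_mul, map_mul, map_inv, e]))
  refine ⟨g, key (x := a') (y := b') ha hb hk1, key (x := b') (y := a') hb ha hk2, ?_⟩
  rw [(commute_of_mem_Hd g.2).eq, mul_inv_cancel_right]

end CfsgLib.ThreeTrans
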