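import Mathlib
import Cfsg.Agent.Lib.ThreeTrans.Layer
import Cfsg.Agent.Lib.ThreeTrans.SymFour

/-! Classes of 3-transpositions whose commuting sets are the classes `V_d`. -/

namespace CfsgLib.ThreeTrans

open scoped Pointwise

theorem vRel_of_perp {G : Type*} [Group G] [Finite G] {D : Set G} (hD : ClassTwo D) {d : G}
    (hd : d ∈ D)
    (hV : {y : G | y ∈ D ∧ Commute d y} = {v : G | v ∈ D ∧ ∀ e ∈ D, Commute v e ↔ Commute d e})
    {x y : G} (hx : x ∈ D) (hy : y ∈ D) (h : Commute x y) : VRel D x y := by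
  obtain ⟨g, rfl⟩ := hD.class_eq d hd x hx
  have h1 : g⁻¹ * y * g ∈ {y : G | y ∈ D ∧ Commute d y} :=
    ⟨hD.closed.conj' g hy, by rw [← commute_conj_iff g]; simpa [mul_assoc] using h⟩
  rw [hV] at h1
  have h2 := VRel.conj hD.closed g (⟨hd, h1⟩ : VRel D d (g⁻¹ * y * g))
  simpa [mul_assoc] using h2

theorem perp_class_two {G : Type*} [Group G] [Finite G] {D : Set G} (hD : ClassTwo D) {d : G}
    (hd : d ∈ D)
    (hV : {y : G | y ∈ D ∧ Commute d y} = {v : G | v ∈ D ∧ ∀ e ∈ D, Commute v e ↔ Commute d e})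
    (hm : {y : G | y ∈ D ∧ Commute d y}.ncard = 2) : Nonempty (G ≃* Equiv.Perm (Fin 4)) := by
  classical
  have hs := hD.closed.set
  have hc := hD.closed
  have two : ∀ x ∈ D, {y : G | y ∈ D ∧ Commute x y}.ncard = 2 := by
    intro x hx
    obtain ⟨g, rfl⟩ := hD.class_eq d hd x hx
    rw [conj_set_eq hc g (fun a y => Commute a y) (fun a b => commute_conj_iff g a b) d,
      Set.ncard_image_of_injective _ (fun a b h => mul_left_cancel (mul_right_cancel h)), hm]
  have partner : ∀ x ∈ D, ∃ y ∈ D, y ≠ x ∧ Commute x y := by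
    intro x hx
    obtain ⟨p, q, hpq, he⟩ := Set.ncard_eq_two.1 (two x hx)
    by_cases hpx : p = x
    · have hq : q ∈ {y : G | y ∈ D ∧ Commute x y} := he ▸ Or.inr rfl
      exact ⟨q, hq.1, fun h => hpq (hpx.trans h.symm), hq.2⟩
    · have hp : p ∈ {y : G | y ∈ D ∧ Commute x y} := he ▸ Or.inl rfl
      exact ⟨p, hp.1, hpx, hp.2⟩
  have uniq : ∀ x ∈ D, ∀ y ∈ D, ∀ z ∈ D, y ≠ x → Commute x y → z ≠ x → Commute x z → y = z := by
    intro x hx y hy z hz h1 h2 h3 h4
    by_contra hne
    have hsub : ({x, y, z} : Set G) ⊆ {y : G | y ∈ D ∧ Commute x y} := by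
      rintro w (rfl | rfl | rfl) <;> exact ⟨by assumption, by first | exact Commute.refl _ | assumption⟩
    have := Set.ncard_le_ncard hsub (Set.toFinite _)
    rw [two x hx, Set.ncard_eq_three.2 ⟨x, y, z, h1.symm, h3.symm, hne, rfl⟩] at this
    omega
  choose! π hπD hπne hπc using partner
  have hvr : ∀ x ∈ D, VRel D x (π x) := fun x hx => vRel_of_perp hD hd hV hx (hπD x hx) (hπc x hx)
  have hπconj : ∀ g, ∀ x ∈ D, π (g * x * g⁻¹) = g * π x * g⁻¹ := by
    intro g x hx
    have hgx := hc.conj g x hx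
    exact uniq _ hgx _ (hπD _ hgx) _ (hc.conj g _ (hπD x hx)) (hπne _ hgx) (hπc _ hgx)
      (fun h => hπne x hx (mul_left_cancel (mul_right_cancel h))) ((commute_conj_iff g _ _).2 (hπc x hx))
  let z : G → G := fun x => x * π x
  have hzne : ∀ x ∈ D, z x ≠ 1 := fun x hx h =>
    hπne x hx ((mul_eq_one_iff_eq' hs (hπD x hx)).1 h).symm
  have hfar : ∀ x ∈ D, ∀ y ∈ D, ¬ Commute x y → ¬ Commute (π x) y := fun x hx y hy h k =>
    h (((hvr x hx).2.2 y hy).1 k)
  have hπeq : ∀ x ∈ D, ∀ y ∈ D, ¬ Commute x y → π y = x * π x * y * (π x * x) := by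
    intro x hx y hy h
    have hp := hπD x hx
    have e : (x * π x)⁻¹ = π x * x := by rw [mul_inv_rev, inv_eq hs hx, inv_eq hs hp]
    have hrel := (hvr x hx).conj_mul hc hy
    rw [e] at hrel
    refine uniq y hy _ (hπD y hy) _ hrel.2.1 (hπne y hy) (hπc y hy) (fun heq => ?_) hrel.commute
    have b1 := braid hs hx hy h
    have b2 := braid hs hp hy (hfar x hx y hy h)
    have h1 : π x * y * π x = x * y * x := by
      have := congrArg (fun w => x * w * x) heq
      simpa [mul_assoc, mul_self hs hx, mul_self_mul hs hx] using this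
    rw [b1, b2] at h1
    exact hπne x hx (mul_left_cancel (mul_right_cancel h1))
  have hline : ∀ x ∈ D, ∀ y ∈ D, ¬ Commute x y → z (x * y * x) = z x * z y := by
    intro x hx y hy h
    have e1 : π (x * y * x) = x * π y * x := by
      have := hπconj x y hy
      rwa [inv_eq hs hx] at this
    set p := π x
    have hp : p ∈ D := hπD x hx
    have b1 := braid hs hx hy h
    have b2 := braid hs hp hy (hfar x hx y hy h)
    have cx : Commute x p := hπc x hx
    have h0 : z (x * y * x) = x * (y * π y * x) := by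
      simp only [z, e1]; simp [mul_assoc, mul_self_mul hs hx]
    rw [h0, show z x * z y = x * (p * (y * π y)) by simp [z, p, mul_assoc], mul_right_inj,
      hπeq x hx y hy h]
    calc y * (x * p * y * (p * x)) * x = y * x * (p * y * p) := by
          simp [mul_assoc, mul_self hs hx, p]
      _ = (y * x * y) * p * y := by rw [b2]; simp [mul_assoc]
      _ = x * y * (p * x) * y := by rw [← b1, ← cx.eq]; simp [mul_assoc]
      _ = x * (y * p * y) * (y * x * y) := by simp [mul_assoc, mul_self_mul hs hy]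
      _ = x * (p * y * p) * (x * y * x) := by rw [← b1, ← b2]
      _ = x * p * y * (p * x) * y * x := by simp [mul_assoc]
      _ = p * x * y * (x * p) * y * x := by rw [cx.eq]
      _ = p * (x * y * x) * p * y * x := by simp [mul_assoc]
      _ = p * (y * x * y) * p * y * x := by rw [b1]
      _ = p * y * x * (y * p * y) * x := by simp [mul_assoc]
      _ = p * y * x * (p * y * p) * x := by rw [b2]
      _ = p * (y * (x * p * y * (p * x))) := by simp [mul_assoc]
  have hzcomm : ∀ x ∈ D, ∀ y ∈ D, ¬ Commute x y → z x * z y = z y * z x := by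
    intro x hx y hy h
    rw [← hline x hx y hy h, ← hline y hy x hx (fun k => h k.symm), braid hs hx hy h]
  obtain ⟨b, hb, hab⟩ := exists_not_commute hD.gen hc hD.class_eq hD.two hd
  have hcover : ∀ c ∈ D, Commute d c ∨ Commute b c ∨ Commute (d * b * d) c := by
    by_contra! hcon
    obtain ⟨c, hcD, h1, h2, h3⟩ := hcon
    apply hzne d hd
    have hbd : ¬ Commute b d := fun k => hab k.symm
    have hac : ¬ Commute d c := h1
    have hbc : ¬ Commute b c := h2
    have hmid : b * c * b ∈ D := conj_mem_left hc hb hcD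
    have hamid : ¬ Commute d (b * c * b) := by
      intro k
      apply h3
      rw [braid hs hd hb hab, ← commute_conj_iff b]
      simpa [inv_eq hs hb, mul_assoc, mul_self hs hb, mul_self_mul hs hb] using k
    have hdb : d * b * d ∈ D := conj_mem_left hc hd hb
    have hdc : d * c * d ∈ D := conj_mem_left hc hd hcD
    have hsep : ¬ Commute (d * b * d) (d * c * d) := by
      intro k
      apply hbc
      rw [← commute_conj_iff d]
      simpa [inv_eq hs hd] using k
    have key : d * (b * c * b) * d = (d * b * d) * (d * c * d) * (d * b * d) := by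
      simp [mul_assoc, mul_self_mul hs hd]
    have h4 := congrArg z key
    rw [hline d hd _ hmid hamid, hline b hb c hcD hbc, hline _ hdb _ hdc hsep,
      hline d hd b hb hab, hline d hd c hcD hac, hzcomm d hd b hb hab] at h4
    have hz2 : z d * z d = 1 := by
      simp only [z]
      exact (by
        rw [mul_assoc, ← mul_assoc (π d), ← (hπc d hd).eq, mul_assoc d (π d), mul_self hs (hπD d hd),
          mul_one, mul_self hs hd])
    rw [← mul_assoc (z d) (z b), hzcomm d hd b hb hab, mul_assoc (z b) (z d), mul_assoc (z b) (z d),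
      ← mul_assoc (z d) (z d), hz2, one_mul, mul_right_inj] at h4
    exact mul_right_cancel (h4.trans (one_mul _).symm)
  set φ := SymFour.symFourHom (mul_self hs hd) (mul_self hs hb) (mul_self hs (hπD d hd)) (braid hs hd hb hab)
    (braid hs hb (hπD d hd) (fun k => hfar d hd b hb hab k.symm)) (hπc d hd)
  have hinj : Function.Injective φ := SymFour.symFourHom_injective _ _ _ _ _ _ (hπne d hd).symm
    (fun h => hab (h ▸ Commute.refl d))
  have hsurj : Function.Surjective φ := by
    rw [← MonoidHom.range_eq_top, SymFour.range_symFourHom]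
    set S := Subgroup.closure ({d, b, π d} : Set G)
    have hdS : d ∈ S := Subgroup.subset_closure (by simp)
    have hbS : b ∈ S := Subgroup.subset_closure (by simp)
    have hπS : π d ∈ S := Subgroup.subset_closure (by simp)
    refine eq_top_of_conj_invariant hD.gen fun c hcD => ?_
    have hone : ∀ x ∈ D, x ∈ S → π x ∈ S → Commute x c → c ∈ S := fun x hx hxS hpS hxc => by
      by_cases hcx : c = x
      · exact hcx ▸ hxS
      · exact uniq x hx _ (hπD x hx) c hcD (hπne x hx) (hπc x hx) hcx hxc ▸ hpS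
    have hπb : π b ∈ S := by
      rw [hπeq d hd b hb hab]
      exact mul_mem (mul_mem (mul_mem hdS hπS) hbS) (mul_mem hπS hdS)
    rcases hcover c hcD with h | h | h
    · exact hone d hd hdS hπS h
    · exact hone b hb hbS hπb h
    · refine hone _ (conj_mem_left hc hd hb) (mul_mem (mul_mem hdS hbS) hdS) ?_ h
      have := hπconj d b hb
      rw [inv_eq hs hd] at this
      rw [this]
      exact mul_mem (mul_mem hdS hπb) hdS
  exact ⟨(MulEquiv.ofBijective φ ⟨hinj, hsurj⟩).symm⟩

open scoped Classical in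
/-- The averaging step: an involution normalizes a complement conjugate. -/
theorem exists_fixed_shift {N : Type*} [CommGroup N] [Finite N] (hN : IsPGroup 2 N)
    {P : Type*} [Group P] [Fintype P] (hP : Odd (Fintype.card P)) (act : P →* MulAut N)
    (σ : MulAut N) (τ : P ≃* P) (hτ : ∀ p, τ (τ p) = p) (x : N)
    (hσ : ∀ p n, σ (act p n) = act (τ p) (σ n))
    (hx : ∀ p, act p (σ x * x) = σ x * x)
    (hfix : ∀ p, τ p = p → ∃ g, x / act p x = σ g / g) :
    ∃ y c : N, (∀ p, act p c = c) ∧ x = σ y / y * c := by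
  classical
  let C : Subgroup N :=
    { carrier := {c | ∀ p, act p c = c}
      mul_mem' := fun {a b} ha hb p => by rw [map_mul, ha, hb]
      one_mem' := fun p => map_one _
      inv_mem' := fun {a} ha p => by rw [map_inv, ha] }
  let W : Subgroup N := (MonoidHom.mk' (fun y => σ y / y) fun a b => by
    rw [map_mul, mul_div_mul_comm]).range
  let f : P → N ⧸ (W ⊔ C) := fun p => (act p x : N)
  have hpair : ∀ p, f p * f (τ p) = 1 := by
    intro p
    simp only [f]
    rw [← QuotientGroup.mk_mul, QuotientGroup.eq_one_iff]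
    have h1 : act (τ p) x * σ (act p x) = σ x * x := by
      rw [hσ, ← map_mul, mul_comm x, hx]
    have e : act p x * act (τ p) x = (σ (act p x) / act p x)⁻¹ * (σ x * x) := by
      rw [inv_div, ← h1, mul_comm (act (τ p) x) (σ (act p x)), ← mul_assoc, div_mul_cancel]
    rw [e]
    exact mul_mem (Subgroup.mem_sup_left (inv_mem ⟨_, rfl⟩)) (Subgroup.mem_sup_right hx)
  have hfixed : ∀ p, τ p = p → f p = f 1 := by
    intro p hp
    simp only [f, map_one, MulAut.one_apply]
    rw [QuotientGroup.eq]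
    obtain ⟨g, hg⟩ := hfix p hp
    rw [show (act p x)⁻¹ * x = x / act p x by rw [mul_comm, div_eq_mul_inv], hg]
    exact Subgroup.mem_sup_left ⟨g, rfl⟩
  have hprod : ∏ p, f p = 1 := by
    have : ∏ p, f p = ((∏ p, act p x : N) : N ⧸ (W ⊔ C)) := (QuotientGroup.mk_prod _ _).symm
    rw [this, QuotientGroup.eq_one_iff]
    refine Subgroup.mem_sup_right fun q => ?_
    rw [map_prod]
    refine Fintype.prod_equiv (Equiv.mulLeft q) _ _ fun p => ?_
    rw [Equiv.coe_mulLeft, map_mul, MulAut.mul_apply]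
  have hmove : ∏ p ∈ Finset.univ.filter (fun p => ¬ τ p = p), f p = 1 :=
    Finset.prod_involution (fun p _ => τ p) (fun p _ => hpair p)
      (fun p hp _ => (Finset.mem_filter.1 hp).2)
      (fun p hp => Finset.mem_filter.2 ⟨Finset.mem_univ _, fun h => (Finset.mem_filter.1 hp).2 (τ.injective h)⟩)
      (fun p _ => hτ p)
  let F : Subgroup P :=
    { carrier := {p | τ p = p}
      mul_mem' := fun {a b} ha hb => by
        show τ (a * b) = a * b
        rw [map_mul, ha, hb]
      one_mem' := map_one τ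
      inv_mem' := fun {a} ha => by
        show τ a⁻¹ = a⁻¹
        rw [map_inv, ha] }
  have hpow : f 1 ^ (Finset.univ.filter (fun p => τ p = p)).card = 1 := by
    rw [← Finset.prod_const, ← hprod, ← Finset.prod_filter_mul_prod_filter_not Finset.univ (fun p => τ p = p),
      hmove, mul_one]
    exact Finset.prod_congr rfl fun p hp => (hfixed p (Finset.mem_filter.1 hp).2).symm
  have hodd : Odd (Finset.univ.filter (fun p => τ p = p)).card := by
    have h1 : Nat.card F = (Finset.univ.filter (fun p => τ p = p)).card := by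
      rw [← Fintype.card_subtype, ← Nat.card_eq_fintype_card]; rfl
    rw [← h1]
    exact hP.of_dvd_nat (Nat.card_eq_fintype_card (α := P) ▸ F.card_subgroup_dvd_card)
  obtain ⟨k, hk⟩ := hN.to_quotient (W ⊔ C) (f 1)
  have h1 : f 1 = 1 := orderOf_eq_one_iff.1 (Nat.eq_one_of_dvd_coprimes
    (Nat.Coprime.pow_left k (Nat.coprime_two_left.2 hodd))
    (orderOf_dvd_of_pow_eq_one hk) (orderOf_dvd_of_pow_eq_one hpow))
  simp only [f, map_one, MulAut.one_apply] at h1
  rw [QuotientGroup.eq_one_iff, Subgroup.mem_sup] at h1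
  obtain ⟨_, ⟨y, rfl⟩, c, hc, h⟩ := h1
  exact ⟨y, c, hc, h.symm⟩

universe u

theorem perp_sylow_three : ∀ (n : ℕ) (G : Type u) [Group G] [Finite G] (D : Set G), Nat.card G = n →
    ClassTwo D → (∀ a ∈ D, ∀ b ∈ D, Commute a b → a * b ∈ Cfsg.pCore 2 G) → ∀ d ∈ D,
    ∃ P : Sylow 3 G, d ∈ Subgroup.normalizer ((P : Subgroup G) : Set G) ∧
      Subgroup.zpowers d ⊔ (P : Subgroup G) ⊔ Cfsg.pCore 2 G = ⊤ := by
  intro n
  induction n using Nat.strong_induction_on with
  | _ n ih =>
  intro G _ _ D hn hD hC d hd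
  classical
  have hs := hD.closed.set
  haveI : Fact (Nat.Prime 2) := ⟨Nat.prime_two⟩
  haveI : Fact (Nat.Prime 3) := ⟨Nat.prime_three⟩
  set R := Cfsg.pCore 2 G with hR
  have hRn : R.Normal := Cfsg.pCore_normal 2 G
  have hRp : IsPGroup 2 R := CfsgLib.PCore.pCore_isPGroup
  have hsup : ∀ P : Sylow 3 G, Subgroup.zpowers d ⊔ (P : Subgroup G) ⊔ R = ⊤ := by
    intro P
    let π := QuotientGroup.mk' R
    have hπ : Function.Surjective π := QuotientGroup.mk'_surjective R
    have hB : WidthOne.Braided (π '' D) := by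
      refine ⟨?_, ?_, ?_⟩
      · rintro _ ⟨a, ha, rfl⟩; rw [← map_mul, mul_self hs ha, map_one]
      · rintro _ ⟨a, ha, rfl⟩ _ ⟨b, hb, rfl⟩
        by_cases h : Commute a b
        · have : π a = π b := by
            rw [QuotientGroup.mk'_apply, QuotientGroup.mk'_apply, QuotientGroup.eq, inv_eq hs ha]
            exact hC a ha b hb h
          rw [this]
        · simp only [← map_mul, braid hs ha hb h]
      · rintro _ ⟨a, ha, rfl⟩ _ ⟨b, hb, rfl⟩
        exact ⟨_, conj_mem_left hD.closed ha hb, by simp only [map_mul]⟩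
    set K := Subgroup.closure {z | ∃ x ∈ π '' D, ∃ y ∈ π '' D, z = x * y}
    have hK : K.Normal := ⟨fun z hz g => by
      obtain ⟨g, rfl⟩ := hπ g
      induction hz using Subgroup.closure_induction with
      | mem z hz =>
        obtain ⟨_, ⟨a, ha, rfl⟩, _, ⟨b, hb, rfl⟩, rfl⟩ := hz
        exact Subgroup.subset_closure ⟨_, ⟨_, hD.closed.conj g a ha, rfl⟩, _,
          ⟨_, hD.closed.conj g b hb, rfl⟩, by simp [mul_assoc]⟩
      | one => simp
      | mul a b _ _ iha ihb => simpa [mul_assoc] using mul_mem iha ihb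
      | inv a _ iha =>
        have := inv_mem iha
        simpa [mul_inv_rev, mul_assoc] using this⟩
    let Pb : Sylow 3 (G ⧸ R) := P.mapSurjective hπ
    have hKP : K ≤ (Pb : Subgroup (G ⧸ R)) := by
      have hN := hK
      obtain ⟨Q, hQ⟩ := (WidthOne.isPGroup_products hB).exists_le_sylow
      obtain ⟨g, hg⟩ := MulAction.exists_smul_eq (G ⧸ R) Q Pb
      intro z hz
      rw [← hg, Sylow.coe_subgroup_smul]
      have := hN.conj_mem z hz g⁻¹
      rw [inv_inv] at this
      exact ⟨g⁻¹ * z * g, hQ this, by simp [mul_assoc]⟩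
    refine eq_top_of_conj_invariant hD.gen fun e he => ?_
    have hm : π (d * e) ∈ (Pb : Subgroup (G ⧸ R)) :=
      hKP (Subgroup.subset_closure ⟨_, ⟨d, hd, rfl⟩, _, ⟨e, he, rfl⟩, map_mul π d e⟩)
    obtain ⟨p, hp, hpe⟩ := hm
    have hr : p⁻¹ * (d * e) ∈ R := QuotientGroup.eq.1 hpe
    have : e = d * p * (p⁻¹ * (d * e)) := by simp [mul_assoc, mul_self_mul hs hd]
    rw [this]
    exact mul_mem (mul_mem (Subgroup.mem_sup_left (Subgroup.mem_sup_left (Subgroup.mem_zpowers d)))
      (Subgroup.mem_sup_left (Subgroup.mem_sup_right hp))) (Subgroup.mem_sup_right hr)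
  by_cases hbot : R = ⊥
  · obtain ⟨P⟩ : Nonempty (Sylow 3 G) := inferInstance
    refine ⟨P, ?_, hsup P⟩
    have htop := hsup P
    rw [hbot, sup_bot_eq] at htop
    obtain ⟨k, hk⟩ := P.isPGroup'.exists_card_eq
    have hnorm : ((P : Subgroup G)).Normal := by
      have hB : WidthOne.Braided D := by
        refine ⟨fun a ha => mul_self hs ha, fun a ha b hb => ?_, fun a ha b hb => conj_mem_left hD.closed ha hb⟩
        by_cases h : Commute a b
        · have := hC a ha b hb h
          rw [hbot, Subgroup.mem_bot, mul_eq_one_iff_eq' hs hb] at this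
          rw [this]
        · exact braid hs ha hb h
      have hK : Subgroup.closure {z | ∃ x ∈ D, ∃ y ∈ D, z = x * y} ≤ Cfsg.pCore 3 G := by
        refine CfsgLib.PCore.le_pCore ⟨fun z hz g => ?_⟩ (WidthOne.isPGroup_products hB)
        induction hz using Subgroup.closure_induction with
        | mem z hz =>
          obtain ⟨a, ha, b, hb, rfl⟩ := hz
          exact Subgroup.subset_closure ⟨_, hD.closed.conj g a ha, _, hD.closed.conj g b hb, by group⟩
        | one => simp
        | mul a b _ _ iha ihb => simpa [mul_assoc] using mul_mem iha ihb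
        | inv a _ iha =>
          have := inv_mem iha
          simpa [mul_inv_rev, mul_assoc] using this
      have hOP := CfsgLib.PCore.pCore_le_sylow P
      have hPO : (P : Subgroup G) ≤ Cfsg.pCore 3 G := by
        intro p hp
        haveI hn3 : (Cfsg.pCore 3 G).Normal := Cfsg.pCore_normal 3 G
        have htop' : Subgroup.zpowers d ⊔ Cfsg.pCore 3 G = ⊤ := eq_top_of_conj_invariant hD.gen fun e he => by
          have := mul_mem (Subgroup.mem_sup_left (Subgroup.mem_zpowers d))
            (Subgroup.mem_sup_right (S := Subgroup.zpowers d) (hK (Subgroup.subset_closure ⟨d, hd, e, he, rfl⟩)))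
          rwa [mul_self_mul hs hd] at this
        have hp' : p ∈ Subgroup.zpowers d ⊔ Cfsg.pCore 3 G := htop' ▸ Subgroup.mem_top p
        rw [Subgroup.mem_sup_of_normal_right] at hp'
        obtain ⟨y, hy, z, hz, rfl⟩ := hp'
        have hy' : y ∈ (P : Subgroup G) := by simpa using mul_mem hp (inv_mem (hOP hz))
        have : y = 1 := eq_one_of_mem_pGroup Nat.prime_three Nat.prime_two (by norm_num) P.isPGroup' hy' (by
          obtain ⟨i, rfl⟩ := Subgroup.mem_zpowers_iff.1 hy
          rw [← zpow_natCast, zpow_comm, zpow_natCast, pow_two, mul_self hs hd, one_zpow])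
        rw [this, one_mul]; exact hz
      rw [le_antisymm hPO hOP]
      exact Cfsg.pCore_normal 3 G
    rw [Subgroup.normalizer_eq_top_iff.2 hnorm]
    exact Subgroup.mem_top d
  -- a nontrivial abelian normal 2-subgroup
  set N := (Subgroup.center R).map R.subtype with hN
  haveI : Nontrivial R := R.nontrivial_iff_ne_bot.2 hbot
  haveI hNn : N.Normal := by rw [hN]; infer_instance
  have hNR : N ≤ R := Subgroup.map_subtype_le _
  have hNne : N ≠ ⊥ := by
    rw [hN, ne_eq, Subgroup.map_eq_bot_iff_of_injective _ R.subtype_injective]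
    haveI := hRp.isNilpotent
    exact Group.IsNilpotent.center_ne_bot R
  have hNcomm : ∀ a ∈ N, ∀ b ∈ N, a * b = b * a := by
    rintro _ ⟨a, ha, rfl⟩ _ ⟨b, hb, rfl⟩
    exact congrArg Subtype.val ((Subgroup.mem_center_iff.1 ha b).symm)
  let π := QuotientGroup.mk' N
  have hπ : Function.Surjective π := QuotientGroup.mk'_surjective N
  have hker : ∀ a ∈ D, π a ≠ 1 := by
    intro a ha h
    rw [QuotientGroup.mk'_apply, QuotientGroup.eq_one_iff] at h
    obtain ⟨b, hb, hab⟩ := exists_not_commute hD.gen hD.closed hD.class_eq hD.two ha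
    have h' := mul_mem h (hNn.conj_mem a h b)
    rw [inv_eq hs hb] at h'
    have h2 : (a * b) ^ 2 ∈ R := by
      have := hNR h'
      simpa [pow_two, mul_assoc] using this
    have h3 := pow_three_of_not_commute hs ha hb hab
    have : (a * b) ^ 2 = 1 := eq_one_of_mem_pGroup Nat.prime_two Nat.prime_three (by norm_num) hRp h2
      (by rw [← pow_mul, mul_comm, pow_mul, h3, one_pow])
    exact hab ((sq_eq_one_iff hs ha hb).1 this)
  have hcomm : ∀ a ∈ D, ∀ b ∈ D, Commute (π a) (π b) → Commute a b := by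
    intro a ha b hb h
    by_contra hab
    have h2 : π (a * b) ^ 2 = 1 := by
      rw [map_mul, h.mul_pow, ← map_pow, ← map_pow, pow_two a, pow_two b, mul_self hs ha, mul_self hs hb,
        map_one, mul_one]
    have h3 : π (a * b) ^ 3 = 1 := by rw [← map_pow, pow_three_of_not_commute hs ha hb hab, map_one]
    rw [pow_succ, h2, one_mul, QuotientGroup.mk'_apply, QuotientGroup.eq_one_iff] at h3
    exact hab (vRel_of_mul_mem hD.closed ha hb (hNR h3)).commute
  have hcc : ConjClosed (π '' D) := by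
    refine ⟨⟨?_, ?_⟩, ?_⟩
    · rintro _ ⟨a, ha, rfl⟩
      refine orderOf_eq_prime ?_ (hker a ha)
      rw [← map_pow, pow_two, mul_self hs ha, map_one]
    · rintro _ ⟨a, ha, rfl⟩ _ ⟨b, hb, rfl⟩
      simp only [← map_mul, ← map_pow]
      exact (hs.2 a ha b hb).imp (fun h => by rw [h, map_one]) (fun h => by rw [h, map_one])
    · rintro g _ ⟨a, ha, rfl⟩
      obtain ⟨g, rfl⟩ := hπ g
      exact ⟨_, hD.closed.conj g a ha, by simp⟩
  obtain ⟨b, hb, hdb⟩ := exists_not_commute hD.gen hD.closed hD.class_eq hD.two hd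
  have hQ : ClassTwo (π '' D) := by
    refine ⟨hcc, ?_, ?_, ⟨_, ⟨d, hd, rfl⟩, _, ⟨b, hb, rfl⟩, fun h =>
      hdb (hcomm d hd b hb (h ▸ Commute.refl _))⟩⟩
    · rw [← MonoidHom.map_closure, hD.gen, Subgroup.map_top_of_surjective π hπ]
    · rintro _ ⟨a, ha, rfl⟩ _ ⟨c, hc, rfl⟩
      obtain ⟨g, rfl⟩ := hD.class_eq a ha c hc
      exact ⟨π g, by simp⟩
  have hlt : Nat.card (G ⧸ N) < n := by
    rw [← hn, Subgroup.card_eq_card_quotient_mul_card_subgroup N]
    exact lt_mul_of_one_lt_right Nat.card_pos (Subgroup.one_lt_card_iff_ne_bot N |>.2 hNne)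
  obtain ⟨Pq, hPq, -⟩ := ih _ hlt (G ⧸ N) (π '' D) rfl hQ (fun a ha c hc h => by
      obtain ⟨a, ha, rfl⟩ := ha
      obtain ⟨c, hc, rfl⟩ := hc
      rw [← map_mul]
      exact CfsgLib.PCore.map_pCore_le π hπ ⟨_, hC a ha c hc (hcomm a ha c hc h), rfl⟩)
    (π d) ⟨d, hd, rfl⟩
  obtain ⟨P, hP⟩ := Sylow.mapSurjective_surjective hπ 3 Pq
  set M := ((P : Subgroup G)) ⊔ N with hM
  have hMd : ∀ g ∈ M, d * g * d⁻¹ ∈ M := by
    intro g hg
    have e : M = (Pq : Subgroup (G ⧸ N)).comap π := by
      rw [hM, ← hP, Sylow.coe_mapSurjective, Subgroup.comap_map_eq, QuotientGroup.ker_mk']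
    rw [e] at hg ⊢
    rw [Subgroup.mem_comap, map_mul, map_mul, map_inv]
    exact (Subgroup.mem_normalizer_iff.1 hPq _).1 hg
  -- the conjugate of P under d is conjugate to P by an element of N
  let Pd : Sylow 3 G := d • P
  have hPle : (P : Subgroup G) ≤ M := le_sup_left
  have hPdle : (Pd : Subgroup G) ≤ M := by
    rw [Sylow.coe_subgroup_smul]
    rintro _ ⟨g, hg, rfl⟩
    exact hMd g (hPle hg)
  obtain ⟨m, hm⟩ := MulAction.exists_smul_eq M (P.subtype hPle) (Pd.subtype hPdle)
  obtain ⟨mN, hmN, mP, hmP, hmm⟩ := (Subgroup.mem_sup_of_normal_left.1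
    (show (m : G) ∈ N ⊔ (P : Subgroup G) by rw [sup_comm]; exact m.2))
  have hconj : ∀ p ∈ (P : Subgroup G), mN⁻¹ * (d * p * d) * mN ∈ (P : Subgroup G) := by
    intro p hp
    have h1 : d * p * d ∈ (Pd : Subgroup G) := by
      rw [Sylow.coe_subgroup_smul]
      exact ⟨p, hp, by simp [inv_eq hs hd]⟩
    have h2 : (⟨_, hPdle h1⟩ : M) ∈ (m • P.subtype hPle : Sylow 3 M).toSubgroup := by
      rw [hm]; exact h1
    rw [Sylow.coe_subgroup_smul] at h2
    obtain ⟨q, hq, hqe⟩ := h2
    have h3 : (m : G) * q * (m : G)⁻¹ = d * p * d := congrArg Subtype.val hqe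
    rw [← h3, ← hmm]
    have h4 : mN⁻¹ * (mN * mP * q * (mN * mP)⁻¹) * mN = mP * q * mP⁻¹ := by group
    rw [h4]
    exact mul_mem (mul_mem hmP hq) (inv_mem hmP)
  letI : CommGroup N := { (inferInstance : Group N) with
    mul_comm := fun a c => Subtype.ext (hNcomm a a.2 c c.2) }
  letI : Fintype (P : Subgroup G) := Fintype.ofFinite _
  set x : N := ⟨mN, hmN⟩
  let act : (P : Subgroup G) →* MulAut N := (MulAut.conjNormal).comp (P : Subgroup G).subtype
  let σ : MulAut N := MulAut.conjNormal d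
  let τf : ↥(P : Subgroup G) → ↥(P : Subgroup G) := fun p => ⟨_, hconj p p.2⟩
  have hactv : ∀ (p : (P : Subgroup G)) (k : N), ((act p k : N) : G) = p * k * (p : G)⁻¹ := fun p k =>
    MulAut.conjNormal_apply _ _
  have hσv : ∀ k : N, ((σ k : N) : G) = d * k * d := fun k => by
    rw [MulAut.conjNormal_apply, inv_eq hs hd]
  have hPN : ∀ g ∈ (P : Subgroup G), g ∈ N → g = 1 := fun g hg hg' => by
    obtain ⟨k, hk⟩ := P.isPGroup' ⟨g, hg⟩
    obtain ⟨l, hl⟩ := hRp ⟨g, hNR hg'⟩
    exact orderOf_eq_one_iff.1 (Nat.eq_one_of_dvd_coprimes (Nat.Coprime.pow k l (show Nat.Coprime 3 2 by norm_num))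
      (orderOf_dvd_of_pow_eq_one (by simpa using congrArg Subtype.val hk))
      (orderOf_dvd_of_pow_eq_one (by simpa using congrArg Subtype.val hl)))
  have hττ : ∀ p, τf (τf p) = p ∧ act p (σ x * x) = σ x * x := by
    intro p
    set c := (d * mN * d) * mN with hc
    have hcN : c ∈ N := (σ x * x).2 |> fun h => by
      have e : ((σ x * x : N) : G) = c := by rw [Subgroup.coe_mul, hσv, hc]
      rwa [e] at h
    have e1 : c * ((τf (τf p) : _) : G) = (p : G) * c := by
      simp only [τf, hc]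
      simp [mul_assoc, mul_self_mul hs hd, inv_eq hs hd]
    have e3 : ((τf (τf p) : _) : G) * (p : G)⁻¹ ∈ N := by
      have : ((τf (τf p) : _) : G) * (p : G)⁻¹ = c⁻¹ * ((p : G) * c * (p : G)⁻¹) := by
        rw [← e1]; group
      rw [this]
      exact mul_mem (inv_mem hcN) (hNn.conj_mem c hcN _)
    have e4 := hPN _ (mul_mem (τf (τf p)).2 (inv_mem p.2)) e3
    rw [mul_inv_eq_one] at e4
    refine ⟨Subtype.ext e4, Subtype.ext ?_⟩
    rw [hactv]
    have e5 : ((σ x * x : N) : G) = c := by rw [Subgroup.coe_mul, hσv, hc]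
    rw [e5, ← e1, e4, mul_inv_cancel_right]
  let τ : (P : Subgroup G) ≃* (P : Subgroup G) :=
    { toFun := τf
      invFun := τf
      left_inv := fun p => (hττ p).1
      right_inv := fun p => (hττ p).1
      map_mul' := fun p q => Subtype.ext (by
        simp only [τf, Subgroup.coe_mul]
        simp [mul_assoc, mul_self_mul hs hd]) }
  have hodd : Odd (Fintype.card (P : Subgroup G)) := by
    obtain ⟨k, hk⟩ := P.isPGroup'.exists_card_eq
    rw [← Nat.card_eq_fintype_card, hk]
    exact (by decide : Odd 3).pow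
  -- some conjugate of d under P does not commute with d
  have hfar : ∃ p ∈ (P : Subgroup G), ¬ Commute d (p * d * p⁻¹) := by
    by_contra! hall
    have hS : ∀ g : G, ∀ a ∈ D, a * d ∈ R → g ∈ Subgroup.zpowers d ∨ g ∈ (P : Subgroup G) ∨ g ∈ R →
        g * a * g⁻¹ * d ∈ R := by
      intro g a ha had hg
      have e : g * a * g⁻¹ * d = g * (a * d) * g⁻¹ * (g * d * g⁻¹ * d) := by
        simp [mul_assoc, mul_self_mul hs hd]
      rw [e]
      refine mul_mem (hRn.conj_mem _ had g) ?_
      rcases hg with hg | hg | hg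
      · obtain ⟨i, rfl⟩ := Subgroup.mem_zpowers_iff.1 hg
        rw [((Commute.refl d).zpow_left i).eq, mul_inv_cancel_right, mul_self hs hd]
        exact one_mem _
      · exact hC _ (hD.closed.conj g d hd) d hd (hall g hg).symm
      · have := mul_mem hg (hRn.conj_mem _ (inv_mem hg) d)
        simpa [mul_assoc, inv_eq hs hd] using this
    have key : ∀ g : G, g * d * g⁻¹ * d ∈ R := by
      intro g
      have hg : g ∈ Subgroup.closure ((Subgroup.zpowers d : Set G) ∪ (P : Subgroup G) ∪ R) := by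
        rw [Subgroup.closure_union, Subgroup.closure_union, Subgroup.closure_eq, Subgroup.closure_eq,
          Subgroup.closure_eq, hsup P]
        trivial
      rw [← Subgroup.mem_toSubmonoid, Subgroup.closure_toSubmonoid_of_finite] at hg
      induction hg using Submonoid.closure_induction_left with
      | one => simp [mul_self hs hd]
      | mul_left a ha g _ ih =>
        have := hS a _ (hD.closed.conj g d hd) ih (by
          rcases ha with (ha | ha) | ha
          · exact Or.inl ha
          · exact Or.inr (Or.inl ha)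
          · exact Or.inr (Or.inr ha))
        simpa [mul_assoc] using this
    obtain ⟨g, hg⟩ := hD.class_eq d hd b hb
    have := key g
    rw [hg] at this
    exact hdb (vRel_of_mul_mem hD.closed hb hd this).commute.symm
  obtain ⟨p₀, hp₀, hp₀'⟩ := hfar
  obtain ⟨y, c, hc, hxy⟩ := exists_fixed_shift (hRp.to_le hNR) hodd act σ τ (fun p => (hττ p).1) x
    (fun p k => Subtype.ext (by
      rw [hσv, hactv, hactv, hσv]
      show _ = mN⁻¹ * (d * p * d) * mN * (d * k * d) * (mN⁻¹ * (d * p * d) * mN)⁻¹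
      have h1 : mN * (d * k * d) * mN⁻¹ = d * k * d := by
        rw [hNcomm mN hmN _ (by simpa [inv_eq hs hd] using hNn.conj_mem _ k.2 d), mul_inv_cancel_right]
      have hqN : d * p * d * (d * k * d) * (d * p * d)⁻¹ ∈ N :=
        hNn.conj_mem _ (by simpa [inv_eq hs hd] using hNn.conj_mem _ k.2 d) _
      have h2 : mN⁻¹ * (d * p * d) * mN * (d * k * d) * (mN⁻¹ * (d * p * d) * mN)⁻¹ =
          mN⁻¹ * (d * p * d * (mN * (d * k * d) * mN⁻¹) * (d * p * d)⁻¹) * mN := by group
      rw [h2, h1, mul_assoc mN⁻¹, hNcomm _ hqN mN hmN, inv_mul_cancel_left]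
      simp [mul_assoc, inv_eq hs hd, mul_self_mul hs hd]))
    (fun p => (hττ p).2)
    (fun p hp => by
      have hpv : mN⁻¹ * (d * p * d) * mN = p := congrArg Subtype.val hp
      have hdp : d * (p : G) * d = mN * p * mN⁻¹ := by
        calc d * (p : G) * d = mN * (mN⁻¹ * (d * p * d) * mN) * mN⁻¹ := by group
          _ = _ := by rw [hpv]
      set e := (p : G) * d * (p : G)⁻¹
      have hde : d * e = ((x / act p x : N) : G) := by
        rw [div_eq_mul_inv, Subgroup.coe_mul, Subgroup.coe_inv, hactv]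
        show d * ((p : G) * d * (p : G)⁻¹) = mN * ((p : G) * mN * (p : G)⁻¹)⁻¹
        rw [← mul_assoc, ← mul_assoc, hdp]
        group
      have heD : e ∈ D := hD.closed.conj p d hd
      clear_value e
      have hmem : d * e ∈ N := hde ▸ (x / act p x).2
      have hv : VRel D d e := vRel_of_mul_mem hD.closed hd heD (hNR hmem)
      obtain ⟨f, hfD, hp₀'⟩ : ∃ f, f ∈ D ∧ ¬ Commute d f := ⟨_, hD.closed.conj p₀ d hd, hp₀'⟩
      have hfe : ¬ Commute e f := fun k => hp₀' ((hv.2.2 f hfD).1 k)
      refine ⟨⟨f * (d * e) * f⁻¹, hNn.conj_mem _ hmem f⟩, Subtype.ext ?_⟩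
      rw [← hde, div_eq_mul_inv, Subgroup.coe_mul, Subgroup.coe_inv, hσv]
      have b1 : d * f * d = f * d * f := braid hs hd hfD hp₀'
      have b2 : e * f * e = f * e * f := braid hs heD hfD hfe
      have hded : d * e * d = e := by rw [hv.commute.eq, mul_assoc, mul_self hs hd, mul_one]
      symm
      show d * (f * (d * e) * f⁻¹) * d * (f * (d * e) * f⁻¹)⁻¹ = d * e
      simp only [mul_inv_rev, inv_eq hs hfD, inv_eq hs hd, inv_eq hs heD, inv_inv]
      calc d * (f * (d * e) * f) * d * (f * (e * d * f)) = d * f * d * e * (f * d * f) * e * d * f := by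
            simp [mul_assoc]
        _ = d * f * (d * e * d) * f * (d * e * d) * f := by rw [← b1]; simp [mul_assoc]
        _ = d * f * (e * f * e) * f := by rw [hded]; simp [mul_assoc]
        _ = d * e := by rw [b2]; simp [mul_assoc, mul_self hs hfD, mul_self_mul hs hfD])
  refine ⟨(y : G)⁻¹ • P, ?_, hsup _⟩
  rw [Sylow.coe_subgroup_smul]
  have hy : d * (y : G)⁻¹ * d = (y : G)⁻¹ * (x : G)⁻¹ * c := by
    have h : ((σ y : N) : G) = (x : G) * (c : G)⁻¹ * (y : G) := by
      rw [hxy]
      simp only [Subgroup.coe_mul, div_eq_mul_inv, Subgroup.coe_inv]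
      group
    rw [hσv] at h
    have := congrArg (·⁻¹) h
    simp only [mul_inv_rev, inv_inv, inv_eq hs hd] at this
    rw [mul_assoc, this]
    have hcx : (c : G) * (x : G)⁻¹ = (x : G)⁻¹ * c := hNcomm _ c.2 _ (inv_mem x.2)
    rw [hcx, mul_assoc]
  have hcp : ∀ q ∈ (P : Subgroup G), (c : G) * q * (c : G)⁻¹ = q := by
    intro q hq
    have h : q * c * q⁻¹ = (c : G) := by
      have := congrArg Subtype.val (hc ⟨q, hq⟩)
      rwa [hactv] at this
    rw [mul_inv_eq_iff_eq_mul] at h
    rw [← h, mul_inv_cancel_right]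
  have hstep : ∀ q ∈ (P : Subgroup G),
      ∃ q' ∈ (P : Subgroup G), d * ((y : G)⁻¹ * q * (y : G)) * d = (y : G)⁻¹ * q' * y := by
    intro q hq
    refine ⟨(x : G)⁻¹ * c * (d * q * d) * (c : G)⁻¹ * x, ?_, ?_⟩
    · have hτm := hconj q hq
      have hxv : (x : G) = mN := rfl
      have hcm : mN⁻¹ * (c : G) = c * mN⁻¹ := hNcomm _ (inv_mem hmN) _ c.2
      have e : (x : G)⁻¹ * c * (d * q * d) * (c : G)⁻¹ * x =
          c * (mN⁻¹ * (d * q * d) * mN) * (c : G)⁻¹ := by
        rw [hxv, hcm]
        have hcm' : (c : G)⁻¹ * mN = mN * (c : G)⁻¹ := hNcomm _ (inv_mem c.2) _ hmN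
        simp only [mul_assoc, hcm']
      rw [e, hcp _ hτm]
      exact hτm
    · calc d * ((y : G)⁻¹ * q * y) * d = d * (y : G)⁻¹ * d * (d * q * d) * (d * (y : G)⁻¹ * d)⁻¹ := by
            simp [mul_assoc, inv_eq hs hd, mul_self_mul hs hd]
        _ = _ := by rw [hy]; group
  rw [Subgroup.mem_normalizer_iff]
  have key : ∀ g ∈ ((MulAut.conj (y : G)⁻¹) • (P : Subgroup G)), d * g * d⁻¹ ∈ ((MulAut.conj (y : G)⁻¹) • (P : Subgroup G)) := by
    rintro _ ⟨q, hq, rfl⟩
    obtain ⟨q', hq', he⟩ := hstep q hq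
    refine ⟨q', hq', ?_⟩
    simpa [mul_assoc, inv_eq hs hd] using he.symm
  refine fun g => ⟨key g, fun hg => ?_⟩
  have := key _ hg
  simpa [mul_assoc, inv_eq hs hd, mul_self hs hd, mul_self_mul hs hd] using this

end CfsgLib.ThreeTrans
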