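import Cfsg.Agent.Lib.ThreeTrans.SymFour

/-! A homomorphism out of the symmetric group of degree five from braid relations. -/

namespace CfsgLib.ThreeTrans.SymFive

open CfsgLib.ThreeTrans

/-- A permutation of four letters as one of five. -/
def emb (σ : Equiv.Perm (Fin 4)) : Equiv.Perm (Fin 5) :=
  (finSuccEquivLast (n := 4)).symm.permCongr (Equiv.optionCongr σ)

/-- The Coxeter generators. -/
def genFive : Fin 4 → Equiv.Perm (Fin 5) :=
  ![Equiv.swap 0 1, Equiv.swap 1 2, Equiv.swap 2 3, Equiv.swap 3 4]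

/-- Coset representatives. -/
def tailFive : Fin 5 → Equiv.Perm (Fin 5) :=
  ![1, genFive 3, genFive 3 * genFive 2, genFive 3 * genFive 2 * genFive 1,
    genFive 3 * genFive 2 * genFive 1 * genFive 0]

/-- Rewriting of a representative times a generator. -/
def stepFive : Fin 5 → Fin 4 → Option (Fin 3) × Fin 5 :=
  ![![(some 0, 0), (some 1, 0), (some 2, 0), (none, 1)],
    ![(some 0, 1), (some 1, 1), (none, 2), (none, 0)],
    ![(some 0, 2), (none, 3), (none, 1), (some 2, 2)],
    ![(none, 4), (none, 2), (some 1, 3), (some 2, 3)],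
    ![(none, 3), (some 0, 4), (some 1, 4), (some 2, 4)]]

/-- A generator or the identity of degree four. -/
def genOpt : Option (Fin 3) → Equiv.Perm (Fin 4)
  | none => 1
  | some i => SymFour.genPerm i

theorem emb_mul : ∀ σ τ : Equiv.Perm (Fin 4), emb (σ * τ) = emb σ * emb τ := by decide +kernel

theorem step_spec : ∀ (j : Fin 5) (k : Fin 4),
    tailFive j * genFive k = emb (genOpt (stepFive j k).1) * tailFive (stepFive j k).2 := by
  decide +kernel

theorem factor_surj : ∀ σ : Equiv.Perm (Fin 5), ∃ p : Equiv.Perm (Fin 4) × Fin 5,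
    emb p.1 * tailFive p.2 = σ := by
  decide +kernel

/-- The factorisation. -/
noncomputable def factor : Equiv.Perm (Fin 4) × Fin 5 ≃ Equiv.Perm (Fin 5) :=
  Equiv.ofBijective (fun p => emb p.1 * tailFive p.2)
    ((Fintype.bijective_iff_surjective_and_card _).2 ⟨fun σ => factor_surj σ, by
      simp only [Fintype.card_prod, Fintype.card_perm, Fintype.card_fin]; decide⟩)

theorem factor_apply (p : Equiv.Perm (Fin 4) × Fin 5) : factor p = emb p.1 * tailFive p.2 := rfl

theorem closure_gen : Submonoid.closure (Set.range genFive) = ⊤ := by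
  rw [← top_le_iff, ← Equiv.Perm.mclosure_swap_castSucc_succ 4, Submonoid.closure_le]
  rintro _ ⟨i, rfl⟩
  refine Submonoid.subset_closure ⟨i, ?_⟩
  revert i
  decide +kernel

theorem injective_key : ∀ σ : Equiv.Perm (Fin 5), σ ≠ 1 →
    ∃ k : Fin 4, σ * genFive k * σ⁻¹ ≠ genFive k := by
  decide +kernel

theorem two_swaps : ∀ x y : Fin 5, ∀ k : Fin 4, x ≠ y → Equiv.swap x y ≠ genFive k →
    ∃ τ : Equiv.Perm (Fin 5), τ * (Equiv.swap x y * genFive k) * τ⁻¹ = genFive 0 * genFive 1 ∨
      τ * (Equiv.swap x y * genFive k) * τ⁻¹ = genFive 0 * genFive 2 := by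
  decide +kernel

variable {G : Type*} [Group G] {a b c f : G}
  (ha : a * a = 1) (hb : b * b = 1) (hc : c * c = 1) (hf : f * f = 1)
  (hab : a * b * a = b * a * b) (hbc : b * c * b = c * b * c) (hcf : c * f * c = f * c * f)
  (hac : Commute a c) (haf : Commute a f) (hbf : Commute b f)
include ha hb hc hf hab hbc hcf hac haf hbf

theorem exists_hom : ∃ φ : Equiv.Perm (Fin 5) →* G, ∀ k, φ (genFive k) = ![a, b, c, f] k := by
  classical
  set ψ := SymFour.symFourHom ha hb hc hab hbc hac with hψ
  have hg : ∀ k, ψ (SymFour.genPerm k) = ![a, b, c] k := SymFour.symFourHom_gen ha hb hc hab hbc hac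
  let T : Fin 5 → G := ![1, f, f * c, f * c * b, f * c * b * a]
  let V : Fin 4 → G := ![a, b, c, f]
  let val : Equiv.Perm (Fin 5) → G := fun σ => ψ (factor.symm σ).1 * T (factor.symm σ).2
  have e1 : ∀ x, a * (a * x) = x := fun x => by rw [← mul_assoc, ha, one_mul]
  have e2 : ∀ x, b * (b * x) = x := fun x => by rw [← mul_assoc, hb, one_mul]
  have e3 : ∀ x, c * (c * x) = x := fun x => by rw [← mul_assoc, hc, one_mul]
  have e0 : ∀ x, f * (f * x) = x := fun x => by rw [← mul_assoc, hf, one_mul]
  have e4 : ∀ x, c * (a * x) = a * (c * x) := fun x => by rw [← mul_assoc, ← hac.eq, mul_assoc]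
  have e8 : ∀ x, f * (a * x) = a * (f * x) := fun x => by rw [← mul_assoc, ← haf.eq, mul_assoc]
  have e9 : ∀ x, f * (b * x) = b * (f * x) := fun x => by rw [← mul_assoc, ← hbf.eq, mul_assoc]
  have e5 : ∀ x, b * (a * (b * x)) = a * (b * (a * x)) := fun x => by
    have := congrArg (· * x) hab
    simpa only [mul_assoc] using this.symm
  have e6 : ∀ x, c * (b * (c * x)) = b * (c * (b * x)) := fun x => by
    have := congrArg (· * x) hbc
    simpa only [mul_assoc] using this.symm
  have e10 : ∀ x, f * (c * (f * x)) = c * (f * (c * x)) := fun x => by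
    have := congrArg (· * x) hcf
    simpa only [mul_assoc] using this.symm
  have e7 : ∀ x, c * (b * (a * (c * x))) = b * (c * (b * (a * x))) := fun x => by rw [← e4, e6]
  have e11 : ∀ x, f * (c * (b * (f * x))) = c * (f * (c * (b * x))) := fun x => by rw [← e9, e10]
  have e12 : ∀ x, f * (c * (b * (a * (f * x)))) = c * (f * (c * (b * (a * x)))) := fun x => by
    rw [← e8, e11]
  have key : ∀ (j : Fin 5) (k : Fin 4),
      T j * V k = ψ (genOpt (stepFive j k).1) * T (stepFive j k).2 := by
    intro j k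
    suffices hx : ∀ x : G, T j * V k * x = ψ (genOpt (stepFive j k).1) * T (stepFive j k).2 * x by
      simpa using hx 1
    intro x
    fin_cases j <;> fin_cases k <;>
      simp [T, V, stepFive, genOpt, hg, mul_assoc, e0, e1, e2, e3, e4, e5, e6, e7, e8, e9, e10, e11, e12]
  have hval : ∀ (p : Equiv.Perm (Fin 4)) (j : Fin 5), val (emb p * tailFive j) = ψ p * T j := by
    intro p j
    show ψ (factor.symm (emb p * tailFive j)).1 * T (factor.symm (emb p * tailFive j)).2 = _
    rw [show emb p * tailFive j = factor (p, j) from rfl, Equiv.symm_apply_apply]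
  have hstep : ∀ σ k, val (σ * genFive k) = val σ * V k := by
    intro σ k
    obtain ⟨⟨p, j⟩, rfl⟩ := factor_surj σ
    rw [mul_assoc, step_spec, ← mul_assoc, ← emb_mul, hval, hval, map_mul, mul_assoc, ← key,
      mul_assoc]
  have h1 : val 1 = 1 := by
    have : (1 : Equiv.Perm (Fin 5)) = emb 1 * tailFive 0 := by decide +kernel
    rw [this, hval, map_one, one_mul]
    rfl
  have hgen : ∀ k, val (genFive k) = V k := fun k => by rw [← one_mul (genFive k), hstep, h1, one_mul]
  have hmul : ∀ τ σ, val (σ * τ) = val σ * val τ := by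
    intro τ
    have hτ : τ ∈ Submonoid.closure (Set.range genFive) := by rw [closure_gen]; exact Submonoid.mem_top _
    induction hτ using Submonoid.closure_induction with
    | mem x hx => obtain ⟨k, rfl⟩ := hx; intro σ; rw [hstep, hgen]
    | one => intro σ; rw [mul_one, h1, mul_one]
    | mul x y _ _ hx hy => intro σ; rw [← mul_assoc, hy, hx, hy x, mul_assoc]
  exact ⟨MonoidHom.mk' val fun σ τ => hmul τ σ, hgen⟩

omit ha hb hc hf hab hbc hcf hac haf hbf

/-- A homomorphism separating the generators is injective. -/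
theorem injective_of_gen (φ : Equiv.Perm (Fin 5) →* G) (h01 : φ (genFive 0) ≠ φ (genFive 1))
    (h02 : φ (genFive 0) ≠ φ (genFive 2)) : Function.Injective φ := by
  rw [injective_iff_map_eq_one]
  intro σ hσ
  by_contra hne
  obtain ⟨k, hk⟩ := injective_key σ hne
  obtain ⟨x, y, hxy, hsw⟩ : ∃ x y, x ≠ y ∧ σ * genFive k * σ⁻¹ = Equiv.swap x y := by
    obtain ⟨u, v, huv, hg⟩ : ∃ u v, u ≠ v ∧ genFive k = Equiv.swap u v := by
      fin_cases k <;> exact ⟨_, _, by decide, rfl⟩
    exact ⟨σ u, σ v, σ.injective.ne huv, by rw [hg, ← Equiv.swap_apply_apply]⟩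
  have hself : genFive k * genFive k = 1 := by fin_cases k <;> exact Equiv.swap_mul_self _ _
  have hker : φ (Equiv.swap x y * genFive k) = 1 := by
    rw [← hsw]; simp only [map_mul, map_inv, hσ, inv_one, one_mul, mul_one]
    rw [← map_mul, hself, map_one]
  obtain ⟨τ, h | h⟩ := two_swaps x y k hxy (hsw ▸ hk) <;> apply_fun φ at h <;>
    rw [map_mul φ (τ * _), map_mul φ τ, hker, mul_one, ← map_mul, mul_inv_cancel, map_one] at h
  · refine h01 ?_
    rw [map_mul, eq_comm, mul_eq_one_iff_eq_inv] at h
    rw [h, ← map_inv]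
    congr 1
  · refine h02 ?_
    rw [map_mul, eq_comm, mul_eq_one_iff_eq_inv] at h
    rw [h, ← map_inv]
    congr 1

end CfsgLib.ThreeTrans.SymFive
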