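import Mathlib
import Cfsg.Prelude.Def_ClassicalGeometry

/-! Reflection matrices of a quadratic form on a coordinate space. -/

namespace CfsgLib.ThreeTrans.Refl

variable {n : ℕ} {F : Type*} [Field F] (Q : QuadraticForm F (Fin n → F))

theorem polarVec_dotProduct (v x : Fin n → F) :
    dotProduct (Cfsg.polarVec (⇑Q) v) x = QuadraticMap.polar (⇑Q) v x := by
  have hx := (Finset.univ_sum_single x).symm
  conv_rhs => rw [← QuadraticMap.polarBilin_apply_apply, hx, map_sum]
  simp only [dotProduct, Cfsg.polarVec]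
  refine Finset.sum_congr rfl fun i _ => ?_
  have h1 : (Pi.single i (x i) : Fin n → F) = x i • Pi.single i 1 := by
    rw [← Pi.single_smul]; simp
  rw [h1, map_smul, QuadraticMap.polarBilin_apply_apply, smul_eq_mul, mul_comm]

open Matrix in
theorem reflectionMatrix_mulVec (v x : Fin n → F) :
    Cfsg.reflectionMatrix (⇑Q) v *ᵥ x = x - ((Q v)⁻¹ * QuadraticMap.polar (⇑Q) v x) • v := by
  unfold Cfsg.reflectionMatrix
  rw [Matrix.sub_mulVec, Matrix.one_mulVec, Matrix.smul_mulVec, Matrix.vecMulVec_mulVec,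
    polarVec_dotProduct]
  simp only [op_smul_eq_smul, smul_smul]

open Matrix in
theorem reflectionMatrix_commute_iff {u v : Fin n → F} (h2 : (2 : F) ≠ 0) (hu : Q u ≠ 0)
    (huv : Q u = Q v) (h1 : v ≠ u) (h1' : v ≠ -u) :
    Commute (Cfsg.reflectionMatrix (⇑Q) u) (Cfsg.reflectionMatrix (⇑Q) v) ↔
      QuadraticMap.polar (⇑Q) u v = 0 := by
  set p := QuadraticMap.polar (⇑Q) u v with hp
  have hvu : QuadraticMap.polar (⇑Q) v u = p := QuadraticMap.polar_comm _ _ _
  have key : ∀ x, Cfsg.reflectionMatrix (⇑Q) u *ᵥ (Cfsg.reflectionMatrix (⇑Q) v *ᵥ x) -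
      Cfsg.reflectionMatrix (⇑Q) v *ᵥ (Cfsg.reflectionMatrix (⇑Q) u *ᵥ x) =
      ((Q u)⁻¹ * (Q u)⁻¹ * p) • (QuadraticMap.polar (⇑Q) v x • u - QuadraticMap.polar (⇑Q) u x • v) := by
    intro x
    simp only [reflectionMatrix_mulVec, ← huv]
    rw [QuadraticMap.polar_sub_right, QuadraticMap.polar_smul_right,
      QuadraticMap.polar_sub_right, QuadraticMap.polar_smul_right, ← hp, hvu, smul_eq_mul, smul_eq_mul]
    module
  constructor
  · intro hc
    by_contra hp0
    have h := key u
    rw [Matrix.mulVec_mulVec, Matrix.mulVec_mulVec, hc.eq, sub_self, eq_comm, smul_eq_zero] at h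
    rcases h with h | h
    · simp [hu, hp0] at h
    · rw [hvu, QuadraticMap.polar_self, sub_eq_zero] at h
      have hk : v = (p * ((2 : F) * Q u)⁻¹) • u := by
        rw [mul_comm, ← smul_smul, h, smul_smul, nsmul_eq_mul, Nat.cast_ofNat, inv_mul_cancel₀ (mul_ne_zero h2 hu), one_smul]
      set k := p * ((2 : F) * Q u)⁻¹ with hk'
      have hQ : k * k * Q u = Q u := by
        conv_rhs => rw [huv, hk, QuadraticMap.map_smul, smul_eq_mul]
      have : k * k = 1 := mul_right_cancel₀ hu (by rw [one_mul]; exact hQ)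
      rcases mul_self_eq_one_iff.1 this with h' | h'
      · exact h1 (by rw [hk, h', one_smul])
      · exact h1' (by rw [hk, h', neg_smul, one_smul])
  · intro hp0
    apply Matrix.ext_of_mulVec_single
    intro i
    rw [← Matrix.mulVec_mulVec, ← Matrix.mulVec_mulVec, ← sub_eq_zero, key, hp0]
    simp

end CfsgLib.ThreeTrans.Refl
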